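import Cfsg.Agent.Lib.Grp.BaseCop.Main

/-!
# Coprime elementary modules are completely reducible

Averaging a projection over the group.
-/

set_option autoImplicit false
set_option linter.style.haveILetI false

namespace Cfsg.Agent.BaseCop

open BaseTwo (IsInv IsCR)

/-- Maschke for invariant subgroups. -/
theorem isCR_of_coprime {A V : Type*} [Group A] [Finite A] [AddCommGroup V] [Finite V] [DistribMulAction A V]
    {p : ℕ} (hp : p.Prime) (hpV : ∀ x : V, p • x = 0) (hcop : (Nat.card A).Coprime (Nat.card V)) :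
    IsCR A V := by
  classical
  rcases subsingleton_or_nontrivial V with hV | hV
  · exact fun U _ => ⟨⊥, fun a v _ => by rw [Subsingleton.elim (a • v) 0]; exact zero_mem _, inf_bot_eq _,
      eq_top_iff.mpr fun v _ => by rw [Subsingleton.elim v 0]; exact zero_mem _⟩
  haveI := Fact.mk hp
  haveI := Fintype.ofFinite A
  letI : Module (ZMod p) V := AddCommGroup.zmodModule (n := p) hpV
  obtain ⟨x, hx⟩ := exists_ne (0 : V)
  have hN : ((Fintype.card A : ℕ) : ZMod p) ≠ 0 := fun h => not_dvd_card hcop hp hx (hpV x)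
    (by rw [Nat.card_eq_fintype_card]; exact (ZMod.natCast_eq_zero_iff _ p).mp h)
  intro U hU
  let Us : Submodule (ZMod p) V := AddSubgroup.toZModSubmodule p U
  obtain ⟨W, hW⟩ := Submodule.exists_isCompl Us
  let π₀ : V →+ V := ((Us.subtype).comp (Us.projectionOnto W hW)).toAddMonoidHom
  have hπ0 : ∀ v, π₀ v ∈ U := fun v => (Us.projectionOnto W hW v).2
  have hπ1 : ∀ v ∈ U, π₀ v = v := fun v hv => by
    show ((Us.projectionOnto W hW v : Us) : V) = v
    rw [show v = ((⟨v, hv⟩ : Us) : V) from rfl, Submodule.projectionOnto_apply_left]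
  let c : ZMod p := ((Fintype.card A : ℕ) : ZMod p)⁻¹
  let π : V →+ V := AddMonoidHom.mk' (fun v => c • ∑ a : A, a • π₀ (a⁻¹ • v)) fun v w => by
    simp only [smul_add, map_add, Finset.sum_add_distrib]
  have hequiv : ∀ (b : A) v, π (b • v) = b • π v := by
    intro b v
    show c • ∑ a : A, a • π₀ (a⁻¹ • b • v) = b • c • ∑ a : A, a • π₀ (a⁻¹ • v)
    rw [show b • c • ∑ a : A, a • π₀ (a⁻¹ • v) = c • b • ∑ a : A, a • π₀ (a⁻¹ • v) from
      ZMod.map_smul (DistribSMul.toAddMonoidHom V b) c _, Finset.smul_sum (r := b)]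
    congr 1
    refine Fintype.sum_equiv (Equiv.mulLeft b⁻¹) _ _ fun a => ?_
    simp only [Equiv.coe_mulLeft, mul_inv_rev, inv_inv, mul_smul, smul_inv_smul]
  have hmem : ∀ v, π v ∈ U := fun v =>
    (Us.smul_mem c (show ∑ a : A, a • π₀ (a⁻¹ • v) ∈ Us from
      U.sum_mem fun a _ => hU a _ (hπ0 _)) : c • _ ∈ Us)
  have hid : ∀ v ∈ U, π v = v := fun v hv => by
    show c • ∑ a : A, a • π₀ (a⁻¹ • v) = v
    rw [Finset.sum_congr rfl fun a _ => by rw [hπ1 _ (hU a⁻¹ v hv), smul_inv_smul], Finset.sum_const,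
      Finset.card_univ, ← Nat.cast_smul_eq_nsmul (ZMod p), smul_smul, inv_mul_cancel₀ hN, one_smul]
  refine ⟨π.ker, fun a v hv => ?_, ?_, ?_⟩
  · rw [AddMonoidHom.mem_ker] at hv ⊢
    rw [hequiv, hv, smul_zero]
  · rw [eq_bot_iff]
    rintro v ⟨h1, h2⟩
    rw [AddSubgroup.mem_bot, ← hid v h1]
    exact h2
  · refine eq_top_iff.mpr fun v _ => AddSubgroup.mem_sup.mpr ⟨π v, hmem v, v - π v, ?_, add_sub_cancel _ _⟩
    rw [AddMonoidHom.mem_ker, map_sub, hid _ (hmem v), sub_self]

end Cfsg.Agent.BaseCop
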