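import Cfsg.Agent.Lib.Grp.BaseCop.ColourSmall
import Cfsg.Agent.Lib.Grp.BaseThree.Main

/-!
# Three colours distinguish a solvable group of order prime to three

Primitive groups are affine. An affine group on many points has few fixed colourings per element,
and few elements because linear solvable groups have three vectors with trivial common stabiliser.
-/

set_option autoImplicit false
set_option linter.style.haveILetI false

universe u

namespace Cfsg.Agent.BaseCop

open BaseTwo (IsInv IsCR IsIrr isCR_of_isIrr conjAdd)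
open scoped Pointwise

theorem pow_bound_two : ∀ k : ℕ, 6 ≤ k → (2 ^ k) ^ 8 * 3 ^ 2 ^ (k - 1) ≤ 3 ^ 2 ^ k := by
  intro k hk
  have key : (2 ^ k) ^ 8 ≤ 3 ^ 2 ^ (k - 1) := by
    induction k, hk using Nat.le_induction with
    | base => norm_num
    | succ k hk ih =>
      have h8 : (256 : ℕ) ≤ 3 ^ 2 ^ (k - 1) := by
        refine le_trans (show 256 ≤ 3 ^ 32 by norm_num) (Nat.pow_le_pow_right (by norm_num) ?_)
        refine le_trans (show 32 ≤ 2 ^ 5 by norm_num) (Nat.pow_le_pow_right (by norm_num) (by omega))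
      rw [show k + 1 - 1 = (k - 1) + 1 by omega, pow_succ 2 (k - 1), pow_mul, pow_two,
        pow_succ 2 k, mul_pow]
      exact Nat.mul_le_mul ih (le_trans (by norm_num) h8)
  calc (2 ^ k) ^ 8 * 3 ^ 2 ^ (k - 1) ≤ 3 ^ 2 ^ (k - 1) * 3 ^ 2 ^ (k - 1) := Nat.mul_le_mul_right _ key
    _ = 3 ^ 2 ^ k := by rw [← pow_add, ← two_mul, ← pow_succ', Nat.sub_add_cancel (show 1 ≤ k by omega)]

theorem pow_bound_odd : ∀ n : ℕ, 36 ≤ n → n ^ 8 * 3 ^ (n / 5) ≤ 3 ^ n := by
  intro n hn
  have key : ∀ j : ℕ, 7 ≤ j → (5 * j + 4) ^ 8 ≤ 3 ^ (4 * j) := by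
    intro j hj
    induction j, hj using Nat.le_induction with
    | base => norm_num
    | succ j hj ih =>
      calc (5 * (j + 1) + 4) ^ 8 ≤ (5 * j + 4) ^ 8 * 81 := by
            have h1 : 10 * (5 * (j + 1) + 4) ≤ 12 * (5 * j + 4) := by omega
            have h2 := Nat.pow_le_pow_left h1 8
            rw [mul_pow, mul_pow] at h2
            generalize (5 * (j + 1) + 4) ^ 8 = X at h2 ⊢
            generalize (5 * j + 4) ^ 8 = Y at h2 ⊢
            norm_num at h2
            omega
        _ ≤ 3 ^ (4 * j) * 81 := Nat.mul_le_mul_right _ ih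
        _ = _ := by rw [show 4 * (j + 1) = 4 * j + 4 by ring, pow_add]; norm_num
  have h1 := key (n / 5) (by omega)
  calc n ^ 8 * 3 ^ (n / 5) ≤ 3 ^ (4 * (n / 5)) * 3 ^ (n / 5) :=
        Nat.mul_le_mul_right _ (le_trans (Nat.pow_le_pow_left (by omega) 8) h1)
    _ ≤ _ := by rw [← pow_add]; exact Nat.pow_le_pow_right (by norm_num) (by omega)

/-- The three bits of a number below eight. -/
def bits3 (v : Fin 8) : Fin 3 → ZMod 2 := fun i => if v.val.testBit i.val then 1 else 0

theorem bits3_injective : Function.Injective bits3 := by decide +kernel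

theorem bits3_xor : ∀ v w : Fin 8, bits3 (v ^^^ w) = bits3 v + bits3 w := by decide +kernel

/-- A primitive solvable group of order prime to three has a colouring with trivial stabiliser. -/
theorem threeColour_primitive {G Ω : Type u} [Group G] [Finite G] [MulAction G Ω] [FaithfulSMul G Ω]
    [Finite Ω] [Nontrivial Ω] [Group.IsSolvable G] (h3 : ¬ 3 ∣ Nat.card G)
    (hprim : MulAction.IsPreprimitive G Ω) :
    ∃ c : Ω → ZMod 3, ∀ g : G, (∀ x, c (g • x) = c x) → g = 1 := by
  classical
  haveI := Fintype.ofFinite Ω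
  haveI := hprim.toIsPretransitive
  haveI : Nontrivial G := by
    by_contra h
    rw [not_nontrivial_iff_subsingleton] at h
    obtain ⟨x, y, hxy⟩ := exists_pair_ne Ω
    obtain ⟨g, hg⟩ := MulAction.exists_smul_eq G x y
    rw [Subsingleton.elim g 1, one_smul] at hg
    exact hxy hg
  obtain ⟨N, hNn, hN0, -, hNmin⟩ := Grp.exists_minimal_normal_le (G := G) (N := ⊤) (top_ne_bot)
  haveI := hNn
  obtain ⟨hNab, r, hr, hNr⟩ := Grp.minimal_normal_solvable (inferInstance) hN0 hNmin
  haveI := hNab
  letI : CommGroup N := { (inferInstance : Group N) with mul_comm := mul_comm' }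
  haveI := Fact.mk hr
  obtain ⟨a⟩ := (inferInstance : Nonempty Ω)
  haveI : MulAction.IsPretransitive N Ω := by
    refine MulAction.IsQuasiPreprimitive.isPretransitive_of_normal fun h => hN0 ?_
    rw [eq_bot_iff]
    intro g hg
    refine Subgroup.mem_bot.mpr (eq_of_smul_eq_smul (α := Ω) fun x => ?_)
    have hx : x ∈ MulAction.fixedPoints N Ω := h ▸ Set.mem_univ x
    rw [one_smul]
    exact hx ⟨g, hg⟩
  have hreg : ∀ (m : N) (x : Ω), m • x = x → m = 1 := by
    intro m x hm
    refine Subtype.ext (eq_of_smul_eq_smul (α := Ω) fun y => ?_)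
    obtain ⟨k, rfl⟩ := MulAction.exists_smul_eq N x y
    show (m : G) • k • x = (1 : G) • k • x
    rw [one_smul]
    calc (m : G) • k • x = (m * k) • x := (mul_smul m k x).symm
      _ = (k * m) • x := by rw [mul_comm']
      _ = k • x := by rw [mul_smul, hm]
  have hbij : ∀ x : Ω, Function.Bijective (fun m : N => m • x) := fun x =>
    ⟨fun m k h => by
      have : (k⁻¹ * m) • x = x := by rw [mul_smul, inv_smul_eq_iff]; exact h
      exact (inv_mul_eq_one.mp (hreg _ _ this)).symm, fun y => MulAction.exists_smul_eq N x y⟩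
  let e : Additive N ≃ Ω := Equiv.ofBijective (fun m => m.toMul • a) (hbij a)
  have he : ∀ m : Additive N, e m = m.toMul • a := fun m => rfl
  have hmove : ∀ (g : G) (m : N), g • m • a = MulAut.conjNormal g m • g • a := by
    intro g m
    show g • (m : G) • a = ((MulAut.conjNormal g m : N) : G) • g • a
    rw [MulAut.conjNormal_apply, mul_smul, mul_smul, inv_smul_smul]
  have hrN : ∀ x : Additive N, r • x = 0 := fun x => Subtype.ext (by
    show ((x.toMul ^ r : N) : G) = 1
    rw [Subgroup.coe_pow]
    exact hNr _ x.toMul.2)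
  letI : Module (ZMod r) (Additive N) := AddCommGroup.zmodModule (n := r) hrN
  haveI : Module.Finite (ZMod r) (Additive N) := Module.Finite.of_finite
  set k := Module.finrank (ZMod r) (Additive N) with hk
  have hn : Fintype.card Ω = r ^ k := by
    rw [← Nat.card_eq_fintype_card, ← Nat.card_congr e, Module.natCard_eq_pow_finrank (K := ZMod r),
      Nat.card_zmod]
  have hn1 : 1 < Fintype.card Ω := Fintype.one_lt_card
  have hk0 : k ≠ 0 := fun h => by rw [hn, h, pow_zero] at hn1; omega
  have hr3 : r ≠ 3 := by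
    rintro rfl
    refine h3 ((dvd_pow_self 3 hk0).trans ?_)
    rw [← hn, ← Nat.card_eq_fintype_card, ← Nat.card_congr e]
    exact Subgroup.card_subgroup_dvd_card N
  -- coordinates
  let b := Module.finBasis (ZMod r) (Additive N)
  let P : Ω ≃ (Fin k → ZMod r) := e.symm.trans b.equivFun.toEquiv
  let L : G → (Additive N →+ Additive N) := fun g =>
    MonoidHom.toAdditive (MulAut.conjNormal g : MulAut N).toMonoidHom
  have hshift : ∀ (g : G) (m : Additive N), e.symm (g • e m) = L g m + e.symm (g • a) := by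
    intro g m
    apply e.injective
    rw [e.apply_symm_apply, he, hmove]
    conv_lhs => rw [show g • a = (e.symm (g • a)).toMul • a from (e.apply_symm_apply _).symm, ← mul_smul]
    rfl
  set H := MulAction.stabilizer G a with hHdef
  letI := conjAdd H N
  have hLH : ∀ (h : H) (m : Additive N), L h m = h • m := fun h m => rfl
  have hfaith : ∀ h : H, (∀ x : Additive N, h • x = x) → h = 1 := by
    intro h hx
    refine Subtype.ext (eq_of_smul_eq_smul (α := Ω) fun y => ?_)
    obtain ⟨m, rfl⟩ := e.surjective y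
    rw [Subgroup.coe_one, one_smul, he, hmove, show (h : G) • a = a from h.2,
      show MulAut.conjNormal (h : G) m.toMul = m.toMul from congrArg Additive.toMul (hx m)]
  haveI : FaithfulSMul H (Additive N) := ⟨fun {x y} hxy => inv_mul_eq_one.mp (hfaith (x⁻¹ * y) fun v => by
    rw [mul_smul, ← hxy v, inv_smul_smul])⟩
  have hsmulN : ∀ (h : H) (c : ZMod r) (v : Additive N), h • c • v = c • h • v := fun h c v =>
    ZMod.map_smul (DistribSMul.toAddMonoidHom (Additive N) h) c v
  have hbasis : ∀ h : H, (∀ j, h • b j = b j) → h = 1 := by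
    intro h hj
    refine hfaith h fun v => ?_
    conv_lhs => rw [← b.sum_repr v, Finset.smul_sum]
    conv_rhs => rw [← b.sum_repr v]
    exact Finset.sum_congr rfl fun j _ => by rw [hsmulN, hj]
  have hirr : IsIrr H (Additive N) := by
    intro X hX
    let X' : Subgroup G := X.toSubgroup'.map N.subtype
    have hXn : X'.Normal := by
      refine ⟨fun y hy g => ?_⟩
      obtain ⟨x, hx, rfl⟩ := hy
      obtain ⟨m, hm⟩ := MulAction.exists_smul_eq N a (g • a)
      have hh : (m : G)⁻¹ * g ∈ H := by
        rw [hHdef, MulAction.mem_stabilizer_iff, mul_smul, inv_smul_eq_iff]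
        exact hm.symm
      refine ⟨MulAut.conjNormal ((m : G)⁻¹ * g) x, hX ⟨_, hh⟩ (Additive.ofMul x) hx, ?_⟩
      set h := (m : G)⁻¹ * g with hhdef
      have hgm : g = (m : G) * h := by rw [hhdef, mul_inv_cancel_left]
      have hyN : h * (x : G) * h⁻¹ ∈ N := hNn.conj_mem _ x.2 h
      have hc : (m : G) * (h * (x : G) * h⁻¹) = (h * (x : G) * h⁻¹) * (m : G) :=
        congrArg Subtype.val (mul_comm' m ⟨_, hyN⟩)
      show ((MulAut.conjNormal h x : N) : G) = g * (x : G) * g⁻¹
      rw [MulAut.conjNormal_apply, hgm]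
      calc h * (x : G) * h⁻¹ = (h * (x : G) * h⁻¹) * (m : G) * (m : G)⁻¹ := by group
        _ = _ := by rw [← hc]; group
    rcases hNmin X' hXn (Subgroup.map_subtype_le _) with h | h
    · left
      rw [eq_bot_iff]
      intro x hx
      have : ((x.toMul : N) : G) ∈ X' := ⟨x.toMul, hx, rfl⟩
      rw [h, Subgroup.mem_bot] at this
      exact AddSubgroup.mem_bot.mpr (Additive.toMul.injective (Subtype.ext this))
    · right
      rw [eq_top_iff]
      intro x _
      have : ((x.toMul : N) : G) ∈ X' := by rw [h]; exact (x.toMul : N).2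
      obtain ⟨y, hy, hyx⟩ := this
      have e : Additive.ofMul y = x := congrArg Additive.ofMul (Subtype.ext hyx : y = x.toMul)
      exact e ▸ hy
  have hH3 : ¬ 3 ∣ Nat.card H := fun h => h3 (h.trans (Subgroup.card_subgroup_dvd_card H))
  have hgHpt : ∀ (h : H) (m : Additive N), (h : G) • e m = e (h • m) := fun h m => by
    rw [he, hmove, show (h : G) • a = a from h.2]
    rfl
  -- one dimension
  rcases eq_or_ne k 1 with hk1 | hk1
  · let i₀ : Fin k := ⟨0, by omega⟩
    have hbne : e (b i₀) ≠ a := fun h => b.ne_zero i₀ (e.injective (h.trans (by rw [he]; simp)))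
    refine ⟨fun x => if x = a then 1 else if x = e (b i₀) then 2 else 0, fun g hg => ?_⟩
    have hga : g • a = a := by
      have := hg a
      simp only [if_pos rfl] at this
      split_ifs at this with h1 h2
      · exact h1
      · exact absurd this (by decide)
      · exact absurd this (by decide)
    have hgb : g • e (b i₀) = e (b i₀) := by
      have := hg (e (b i₀))
      simp only [if_neg hbne, if_pos rfl] at this
      split_ifs at this with h1 h2
      · exact absurd this (by decide)
      · exact h2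
      · exact absurd this (by decide)
    have := hbasis ⟨g, hga⟩ fun j => by
      rw [show j = i₀ from Fin.ext (by have := j.isLt; show j.val = 0; omega)]
      exact e.injective ((hgHpt ⟨g, hga⟩ _).symm.trans hgb)
    exact congrArg Subtype.val this
  -- fixed points of a nonidentity element
  have hfixpts : ∀ g : G, g ≠ 1 → Nat.card {x : Ω // g • x = x} ≤ Fintype.card Ω / r := by
    intro g hg
    rcases isEmpty_or_nonempty {x : Ω // g • x = x} with h | ⟨⟨c, hc⟩⟩
    · simp
    let e' := Equiv.ofBijective _ (hbij c)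
    have hiff : ∀ m : N, g • e' m = e' m ↔ MulAut.conjNormal g m = m := by
      intro m
      have : g • e' m = e' (MulAut.conjNormal g m) := by
        show g • (m : G) • c = ((MulAut.conjNormal g m : N) : G) • c
        rw [MulAut.conjNormal_apply, mul_smul, mul_smul, ← hc, smul_smul g⁻¹ g, inv_mul_cancel, one_smul, hc]
      rw [this]
      exact e'.injective.eq_iff
    let C : Subgroup N := (MulAut.conjNormal g : MulAut N).toMonoidHom.eqLocus (MonoidHom.id N)
    have hcard : Nat.card {x : Ω // g • x = x} = Nat.card C :=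
      (Nat.card_congr (e'.subtypeEquiv (q := fun x => g • x = x) (p := fun m => m ∈ C) fun m => (hiff m).symm)).symm
    have hNk : Nat.card N = r ^ k := by
      rw [← hn, ← Nat.card_eq_fintype_card, Nat.card_congr (Equiv.ofBijective _ (hbij a))]
    obtain ⟨i, hi, hCi⟩ := (Nat.dvd_prime_pow hr).mp (hNk ▸ Subgroup.card_subgroup_dvd_card C)
    have hlt : i < k := by
      refine lt_of_le_of_ne hi fun h => hg ?_
      have htop : C = ⊤ := Subgroup.eq_top_of_card_eq C (by rw [hCi, h, hNk])
      refine eq_of_smul_eq_smul (α := Ω) fun x => ?_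
      obtain ⟨m, rfl⟩ := e'.surjective x
      rw [one_smul]
      exact (hiff m).mpr (show m ∈ C from htop ▸ trivial)
    rw [hcard, hCi, Nat.le_div_iff_mul_le hr.pos, ← pow_succ, hn]
    exact Nat.pow_le_pow_right hr.pos hlt
  have hGH : Nat.card G = Fintype.card Ω * Nat.card H := by
    rw [← H.card_mul_index, hHdef, MulAction.index_stabilizer_of_transitive, Nat.card_eq_fintype_card (α := Ω),
      mul_comm]
  have hcount : ∀ f d : ℕ, Fintype.card Ω / r ≤ f → Nat.card H ≤ d →
      (Fintype.card Ω * d) ^ 2 * 3 ^ f ≤ 3 ^ Fintype.card Ω →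
      ∃ c : Ω → ZMod 3, ∀ g : G, (∀ x, c (g • x) = c x) → g = 1 := by
    intro f d hf hd hb
    refine exists_free_colouring (f := f) (fun g hg => (hfixpts g hg).trans hf) ?_
    rw [Nat.card_zmod, hGH, Nat.card_eq_fintype_card (α := Ω)]
    exact le_trans (Nat.mul_le_mul_right _ (Nat.pow_le_pow_left (Nat.mul_le_mul_left _ hd) 2)) hb
  have hHcube : Nat.card H ≤ Fintype.card Ω ^ 3 := by
    obtain ⟨v₁, v₂, v₃, hv⟩ := BaseThree.exists_triple (A := H) (V := Additive N) (isCR_of_isIrr hirr)
    refine le_trans (Nat.card_le_card_of_injective (fun h : H => (e (h • v₁), e (h • v₂), e (h • v₃)))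
      fun x y h => ?_) ?_
    · simp only [Prod.mk.injEq] at h
      obtain ⟨h1, h2, h3⟩ := h
      refine inv_mul_eq_one.mp (hv (x⁻¹ * y) ?_ ?_ ?_) <;> rw [mul_smul, inv_smul_eq_iff]
      exacts [(e.injective h1).symm, (e.injective h2).symm, (e.injective h3).symm]
    · rw [Nat.card_prod, Nat.card_prod, Nat.card_eq_fintype_card]
      exact le_of_eq (by ring)
  rcases eq_or_ne r 2 with rfl | hr2
  swap
  · -- odd characteristic
    have hr5 : 5 ≤ r := by
      have := hr.two_le
      have h4 : r ≠ 4 := fun h => by rw [h] at hr; exact absurd hr (by norm_num)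
      omega
    have hdiv : Fintype.card Ω / r ≤ Fintype.card Ω / 5 := Nat.div_le_div_left hr5 (by norm_num)
    rcases Nat.lt_or_ge (Fintype.card Ω) 36 with hsmall | hbig
    · -- twenty-five points
      have hk2 : k = 2 := by
        by_contra h
        have : r ^ 3 ≤ r ^ k := Nat.pow_le_pow_right hr.pos (by omega)
        have h125 := Nat.pow_le_pow_left hr5 3
        rw [hn] at hsmall
        norm_num at h125
        omega
      have h25 : Fintype.card Ω = 25 := by
        rw [hn, hk2] at hsmall ⊢
        have : r ≤ 5 := by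
          by_contra h
          have := Nat.pow_le_pow_left (show 6 ≤ r by omega) 2
          omega
        rw [show r = 5 by omega]
        norm_num
      refine hcount 5 (Fintype.card Ω ^ 2) (hdiv.trans (by rw [h25])) ?_ (by rw [h25]; norm_num)
      refine le_trans (Nat.card_le_card_of_injective (fun h : H => fun j : Fin k => e (h • b j))
        fun x y hxy => inv_mul_eq_one.mp (hbasis _ fun j => ?_)) ?_
      · rw [mul_smul, inv_smul_eq_iff]
        exact (e.injective (congrFun hxy j)).symm
      · rw [Nat.card_fun, Nat.card_fin, Nat.card_eq_fintype_card, hk2]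
    · refine hcount (Fintype.card Ω / 5) (Fintype.card Ω ^ 3) hdiv hHcube ?_
      rw [← pow_succ' (Fintype.card Ω), ← pow_mul]
      exact pow_bound_odd _ hbig
  -- characteristic two
  have hk2 : 2 ≤ k := by omega
  rcases Nat.lt_or_ge k 6 with hsmall | hbig
  swap
  · refine hcount (Fintype.card Ω / 2) (Fintype.card Ω ^ 3) le_rfl hHcube ?_
    rw [← pow_succ' (Fintype.card Ω), ← pow_mul, hn,
      show 2 ^ k / 2 = 2 ^ (k - 1) by rw [← Nat.pow_div (show 1 ≤ k by omega) (by norm_num), pow_one]]
    exact pow_bound_two k hbig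
  have haff : ∀ g : G, ∀ x y z : Ω, P (g • P.symm (P x + P y + P z)) = P (g • x) + P (g • y) + P (g • z) := by
    intro g x y z
    have key : ∀ w : Ω, P (g • w) = b.equivFun (L g (e.symm w)) + P (g • a) := fun w => by
      show b.equivFun (e.symm (g • w)) = _
      conv_lhs => rw [← e.apply_symm_apply w, hshift, map_add]
      rfl
    have h2 : P (g • a) + P (g • a) = 0 := by
      funext i
      exact CharTwo.add_self_eq_zero _
    have hs : e.symm (P.symm (P x + P y + P z)) = e.symm x + e.symm y + e.symm z := by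
      show e.symm (e (b.equivFun.symm (b.equivFun (e.symm x) + b.equivFun (e.symm y) + b.equivFun (e.symm z)))) = _
      rw [e.symm_apply_apply, ← map_add, ← map_add, b.equivFun.symm_apply_apply]
    rw [key, key x, key y, key z, hs, map_add, map_add, map_add, map_add]
    rw [add_add_add_comm _ (P (g • a)) _ (P (g • a)), h2, add_zero, ← add_assoc]
  have hfixframe : ∀ g : G, (∀ i, g • P.symm (frameVec (k := k) {i}) = P.symm (frameVec {i})) → g = 1 := by
    intro g hg
    have hga : g • a = a := by
      have e0 : P.symm (frameVec (k := k) {0}) = a := by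
        simp [frameVec, P, he]
      rw [← e0]
      exact hg 0
    have := hbasis ⟨g, hga⟩ fun j => by
      have ej : P.symm (frameVec (k := k) {j.succ}) = e (b j) := by
        apply P.injective
        rw [P.apply_symm_apply]
        simp [frameVec, P, Finsupp.single_eq_pi_single]
      refine e.injective ?_
      rw [← hgHpt, ← ej]
      exact hg j.succ
    exact congrArg Subtype.val this
  have h16 : ∀ (j : ℕ) (P' : Ω ≃ (Fin j → ZMod 2)), j = 4 ∨ j = 5 →
      (∀ g : G, ∀ x y z : Ω, P' (g • P'.symm (P' x + P' y + P' z)) = P' (g • x) + P' (g • y) + P' (g • z)) →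
      (∀ g : G, (∀ i, g • P'.symm (frameVec (k := j) {i}) = P'.symm (frameVec {i})) → g = 1) →
      ∃ c : Ω → ZMod 3, ∀ g : G, (∀ x, c (g • x) = c x) → g = 1 := by
    rintro j P' (rfl | rfl) ha hf
    · exact threeColour_sixteen h3 P' ha hf
    · exact threeColour_thirtyTwo P' ha hf
  rcases (show k = 2 ∨ k = 3 ∨ k = 4 ∨ k = 5 by omega) with hkk | hkk | hkk
  · exact threeColour_four h3 (by rw [hn, hkk]; norm_num)
  · -- eight points
    let b' : Module.Basis (Fin 3) (ZMod 2) (Additive N) := b.reindex (finCongr hkk)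
    have hcard8 : Nat.card (Additive N) = 8 := by
      rw [Nat.card_congr e, Nat.card_eq_fintype_card, hn, hkk]; norm_num
    have h7 : 7 ∣ Nat.card H := by
      by_contra h7
      have hdvd : Nat.card H ∣ 8 * 3 * 7 := by
        let φ : H →* ((Additive N) ≃ₗ[ZMod 2] (Additive N)) := MonoidHom.mk'
          (fun h => LinearEquiv.ofBijective
            ((DistribSMul.toAddMonoidHom (Additive N) h).toZModLinearMap 2) (MulAction.bijective h))
          (fun x y => LinearEquiv.ext fun v => mul_smul x y v)
        have hφ : Function.Injective φ := (injective_iff_map_eq_one φ).mpr fun h hh =>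
          hfaith h fun x => LinearEquiv.congr_fun hh x
        haveI : Finite ((Additive N) ≃ₗ[ZMod 2] (Additive N)) :=
          Finite.of_injective (fun f : (Additive N) ≃ₗ[ZMod 2] (Additive N) => (f : Additive N → Additive N))
            DFunLike.coe_injective
        refine (Subgroup.card_dvd_of_injective φ hφ).trans (dvd_of_eq ?_)
        rw [Nat.card_congr (LinearMap.GeneralLinearGroup.generalLinearEquiv _ _).toEquiv.symm,
          Nat.card_congr (Units.mapEquiv (LinearMap.toMatrixAlgEquiv b').toMulEquiv).toEquiv,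
          Matrix.card_GL_field]
        simp [Fin.prod_univ_three, ZMod.card]
      have h8 : Nat.card H ∣ 2 ^ 3 := by
        have c3 : Nat.Coprime (Nat.card H) 3 := ((Nat.prime_three.coprime_iff_not_dvd).mpr hH3).symm
        have c7 : Nat.Coprime (Nat.card H) 7 :=
          (((show Nat.Prime 7 by norm_num).coprime_iff_not_dvd).mpr h7).symm
        exact c3.dvd_of_dvd_mul_right (c7.dvd_of_dvd_mul_right hdvd)
      obtain ⟨j, -, hj⟩ := (Nat.dvd_prime_pow Nat.prime_two).mp h8
      have hpg : IsPGroup 2 H := IsPGroup.of_card hj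
      obtain ⟨v, hv, hv0⟩ := hpg.exists_fixed_point_of_prime_dvd_card_of_fixed_point (Additive N)
        (by rw [hcard8]; norm_num) (a := (0 : Additive N)) (fun h => smul_zero h)
      let X : AddSubgroup (Additive N) :=
        { carrier := MulAction.fixedPoints H (Additive N)
          zero_mem' := fun h => smul_zero h
          add_mem' := fun {x y} hx hy h => by rw [smul_add, hx h, hy h]
          neg_mem' := fun {x} hx h => by rw [smul_neg, hx h] }
      rcases hirr X (fun h x hx => by rwa [show h • x = x from hx h]) with hX | hX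
      · have hvX : v ∈ X := hv
        rw [hX, AddSubgroup.mem_bot] at hvX
        exact hv0 hvX.symm
      · have hall : ∀ (h : H) (x : Additive N), h • x = x := fun h x => (hX ▸ trivial : x ∈ X) h
        rcases hirr (AddSubgroup.zmultiples (b' 0)) (fun h x hx => by rwa [hall]) with hZ | hZ
        · exact b'.ne_zero _ (AddSubgroup.zmultiples_eq_bot.mp hZ)
        · have h2 : Nat.card (AddSubgroup.zmultiples (b' 0)) ∣ 2 := by
            rw [Nat.card_zmultiples]
            exact addOrderOf_dvd_of_nsmul_eq_zero (hrN _)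
          rw [hZ, AddSubgroup.card_top, hcard8] at h2
          norm_num at h2
    haveI : Fact (Nat.Prime 7) := ⟨by norm_num⟩
    obtain ⟨m, hm⟩ := exists_prime_orderOf_dvd_card' (G := H) 7 h7
    let ψ₀ : (Fin 3 → ZMod 2) ≃ Additive N := b'.equivFun.toEquiv.symm
    have hbb : Function.Bijective bits3 := by
      rw [Fintype.bijective_iff_injective_and_card]
      exact ⟨bits3_injective, by rw [Fintype.card_fun]; rfl⟩
    let ψ : Fin 8 ≃ Additive N := (Equiv.ofBijective bits3 hbb).trans ψ₀
    have hψ : ∀ v w, ψ (v ^^^ w) = ψ v + ψ w := by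
      intro v w
      show b'.equivFun.symm (bits3 (v ^^^ w)) = b'.equivFun.symm (bits3 v) + b'.equivFun.symm (bits3 w)
      rw [bits3_xor, map_add]
    have hψne : e (ψ 1) ≠ a := fun h => by
      have h1 : ψ 1 = ψ 0 := by
        have h0 : ψ 0 = 0 := by
          have := hψ 0 0
          rwa [show (0 : Fin 8) ^^^ 0 = 0 from rfl, right_eq_add] at this
        rw [h0]
        exact e.injective (h.trans (by rw [he]; simp))
      exact absurd (ψ.injective h1) (by decide)
    refine ⟨fun x => if x = a then 1 else if x = e (ψ 1) then 2 else 0, fun g hg => ?_⟩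
    have hga : g • a = a := by
      have := hg a
      simp only [if_pos rfl] at this
      split_ifs at this with h1 h2
      · exact h1
      · exact absurd this (by decide)
      · exact absurd this (by decide)
    have hgb : g • e (ψ 1) = e (ψ 1) := by
      have := hg (e (ψ 1))
      simp only [if_neg hψne, if_pos rfl] at this
      split_ifs at this with h1 h2
      · exact absurd this (by decide)
      · exact h2
      · exact absurd this (by decide)
    exact congrArg Subtype.val (no_fixed_vector_eight hH3 ψ hψ hm (h := ⟨g, hga⟩)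
      (e.injective ((hgHpt ⟨g, hga⟩ _).symm.trans hgb)))
  · exact h16 k P hkk haff hfixframe

/-- Every solvable permutation group of order prime to three has a colouring with stabiliser
acting trivially. -/
theorem threeColour : ∀ m : ℕ, ∀ (G Ω : Type u) [Group G]
    [Finite G] [MulAction G Ω] [Finite Ω], Group.IsSolvable G → ¬ 3 ∣ Nat.card G → Nat.card Ω ≤ m →
    ∃ c : Ω → ZMod 3, ∀ g : G, (∀ x, c (g • x) = c x) → ∀ x : Ω, g • x = x := by
  intro m
  induction m using Nat.strong_induction_on with
  | _ m ih =>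
  intro G Ω _ _ _ _ hsol h3 hcard
  haveI := hsol
  classical
  by_cases hsub : Subsingleton Ω
  · exact ⟨fun _ => 0, fun g _ x => Subsingleton.elim _ _⟩
  rw [not_subsingleton_iff_nontrivial] at hsub
  by_cases htr : MulAction.IsPretransitive G Ω
  swap
  · obtain ⟨a⟩ := (inferInstance : Nonempty Ω)
    set Δ := MulAction.orbit G a
    let P : SubMulAction G Ω := ⟨Δ, fun g x hx => MulAction.mem_orbit_of_mem_orbit g hx⟩
    let P' : SubMulAction G Ω := ⟨Δᶜ, fun g x hx h => hx (by simpa using MulAction.mem_orbit_of_mem_orbit g⁻¹ h)⟩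
    have hne : Δ ≠ Set.univ := fun h => htr ⟨fun x y => by
      obtain ⟨g, rfl⟩ : x ∈ Δ := h ▸ Set.mem_univ x
      obtain ⟨g', rfl⟩ : y ∈ Δ := h ▸ Set.mem_univ y
      exact ⟨g' * g⁻¹, by simp [mul_smul]⟩⟩
    have h1 : Δ.ncard < Nat.card Ω := by
      rw [← Set.ncard_univ]; exact Set.ncard_lt_ncard (Set.ssubset_univ_iff.mpr hne)
    have h2 : Δᶜ.ncard < Nat.card Ω := by
      rw [← Set.ncard_univ]
      exact Set.ncard_lt_ncard (Set.ssubset_univ_iff.mpr (fun h => by
        rw [Set.compl_univ_iff] at h
        exact (Set.eq_empty_iff_forall_notMem.mp h) a (MulAction.mem_orbit_self a)))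
    obtain ⟨f, hf⟩ := ih _ (lt_of_lt_of_le h1 hcard) G P hsol h3 le_rfl
    obtain ⟨f', hf'⟩ := ih _ (lt_of_lt_of_le h2 hcard) G P' hsol h3 le_rfl
    let F : Ω → ZMod 3 := fun x => if h : x ∈ Δ then f ⟨x, h⟩ else f' ⟨x, h⟩
    have hF : ∀ x : P, F x = f x := fun x => dif_pos x.2
    have hF' : ∀ x : P', F x = f' x := fun x => dif_neg x.2
    refine ⟨F, fun g hg x => ?_⟩
    by_cases hx : x ∈ Δ
    · exact congrArg Subtype.val (hf g (fun y => by rw [← hF, ← hF]; exact hg y) ⟨x, hx⟩)
    · exact congrArg Subtype.val (hf' g (fun y => by rw [← hF', ← hF']; exact hg y) ⟨x, hx⟩)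
  haveI := htr
  by_cases hprim : MulAction.IsPreprimitive G Ω
  · let φ := MulAction.toPermHom G Ω
    haveI : MulAction.IsPretransitive φ.range Ω := ⟨fun x y => by
      obtain ⟨g, hg⟩ := MulAction.exists_smul_eq G x y
      exact ⟨⟨φ g, g, rfl⟩, hg⟩⟩
    have hprim' : MulAction.IsPreprimitive φ.range Ω := ⟨fun {B} hB => hprim.isTrivialBlock_of_isBlock (by
      rw [MulAction.isBlock_iff_smul_eq_or_disjoint] at hB ⊢
      exact fun g => hB ⟨φ g, g, rfl⟩)⟩
    haveI : Group.IsSolvable φ.range := Group.isSolvable_of_surjective φ.rangeRestrict_surjective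
    obtain ⟨f, hf⟩ := threeColour_primitive (G := φ.range)
      (fun h => h3 (h.trans (Subgroup.card_range_dvd φ))) hprim'
    refine ⟨f, fun g hg x => ?_⟩
    have := hf ⟨φ g, g, rfl⟩ hg
    exact Equiv.Perm.ext_iff.mp (congrArg Subtype.val this) x
  -- imprimitive
  obtain ⟨B, hB, hBtriv⟩ : ∃ B : Set Ω, MulAction.IsBlock G B ∧ ¬ MulAction.IsTrivialBlock B := by
    by_contra h
    push Not at h
    exact hprim { isTrivialBlock_of_isBlock := fun {B} hB => h B hB }
  rw [MulAction.IsTrivialBlock, not_or, Set.not_subsingleton_iff] at hBtriv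
  obtain ⟨hBns, hBu⟩ := hBtriv
  obtain ⟨b₀, hb₀⟩ := hBns.nonempty
  let Ω' := {C : Set Ω // C ∈ Set.range (fun g : G => g • B)}
  letI : MulAction G Ω' :=
    { smul := fun g C => ⟨g • C.1, by obtain ⟨k, hk⟩ := C.2; exact ⟨g * k, by rw [← hk]; exact mul_smul g k B⟩⟩
      one_smul := fun C => Subtype.ext (one_smul G C.1)
      mul_smul := fun g k C => Subtype.ext (mul_smul g k C.1) }
  have ht : ∀ C : Ω', ∃ g : G, g • B = C.1 := fun C => C.2
  choose t ht using ht
  have hinj : ∀ (C D : Ω') (b c : Ω), b ∈ B → c ∈ B → t C • b = t D • c → C = D ∧ b = c := by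
    intro C D b c hb hc he
    have : C = D := by
      refine Subtype.ext ?_
      rw [← ht C, ← ht D]
      exact hB.smul_eq_smul_of_nonempty ⟨t C • b, Set.smul_mem_smul_set hb, he ▸ Set.smul_mem_smul_set hc⟩
    subst this; exact ⟨rfl, MulAction.injective (t C) he⟩
  have hB2 : 2 ≤ B.ncard := Set.one_lt_ncard_iff_nontrivial.mpr hBns
  have hcardΩ' : Nat.card Ω' * B.ncard ≤ Nat.card Ω := by
    rw [← Nat.card_coe_set_eq, ← Nat.card_prod]
    exact Nat.card_le_card_of_injective (fun p => t p.1 • (p.2 : Ω)) fun p q h => by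
      obtain ⟨h1, h2⟩ := hinj _ _ _ _ p.2.2 q.2.2 h
      exact Prod.ext h1 (Subtype.ext h2)
  haveI : Nonempty Ω' := ⟨⟨B, 1, one_smul G B⟩⟩
  have hΩ'pos : 0 < Nat.card Ω' := Nat.card_pos
  have hΩ'lt : Nat.card Ω' < Nat.card Ω := by
    have := Nat.mul_le_mul_left (Nat.card Ω') hB2
    omega
  have hBlt : B.ncard < Nat.card Ω := by
    rw [← Set.ncard_univ]; exact Set.ncard_lt_ncard (Set.ssubset_univ_iff.mpr hBu)
  let St := MulAction.stabilizer G B
  let PB : SubMulAction St Ω := ⟨B, fun h x hx => by
    have := Set.smul_mem_smul_set (a := (h : G)) hx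
    rwa [h.2] at this⟩
  haveI : Group.IsSolvable St := inferInstance
  haveI : Nonempty PB := ⟨⟨b₀, hb₀⟩⟩
  have hSt3 : ¬ 3 ∣ Nat.card St := fun h => h3 (h.trans (Subgroup.card_subgroup_dvd_card St))
  obtain ⟨fB, hfB⟩ := ih _ (lt_of_lt_of_le hBlt hcard) St PB inferInstance hSt3 le_rfl
  obtain ⟨c, hc⟩ := ih _ (lt_of_lt_of_le hΩ'lt hcard) G Ω' hsol h3 le_rfl
  have hcov : ∀ x : Ω, ∃ (C : Ω') (b : PB), t C • (b : Ω) = x := by
    intro x
    obtain ⟨k, hk⟩ := MulAction.exists_smul_eq G b₀ x
    set C : Ω' := ⟨k • B, k, rfl⟩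
    obtain ⟨b, hb, hbx⟩ : x ∈ t C • B := by rw [ht C, ← hk]; exact Set.smul_mem_smul_set hb₀
    exact ⟨C, ⟨b, hb⟩, hbx⟩
  choose pC pb hpx using hcov
  let F : Ω → ZMod 3 := fun x => c (pC x) + fB (pb x)
  have hF : ∀ (C : Ω') (b : PB), F (t C • (b : Ω)) = c C + fB b := by
    intro C b
    obtain ⟨e1, e2⟩ := hinj _ _ _ _ (pb _).2 b.2 (hpx (t C • (b : Ω)))
    show c (pC _) + fB (pb _) = _
    rw [e1, Subtype.ext e2]
  refine ⟨F, fun g hg => ?_⟩
  have hmem : ∀ C : Ω', (t (g • C))⁻¹ * g * t C ∈ St := fun C => by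
    rw [MulAction.mem_stabilizer_iff, mul_smul, mul_smul, ht, inv_smul_eq_iff, ht]
    rfl
  have hmove : ∀ (C : Ω') (b : PB), g • t C • (b : Ω) = t (g • C) • (((⟨_, hmem C⟩ : St) • b : PB) : Ω) := by
    intro C b
    show _ = t (g • C) • ((t (g • C))⁻¹ * g * t C) • (b : Ω)
    rw [mul_smul, mul_smul, smul_inv_smul]
  have hblock : ∀ C : Ω', c (g • C) = c C ∧ ∀ b : PB, (⟨_, hmem C⟩ : St) • b = b := by
    intro C
    have hs : ∀ b : PB, fB ((⟨_, hmem C⟩ : St) • b) = fB b + (c C - c (g • C)) := fun b => by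
      have := hg (t C • (b : Ω))
      rw [hmove, hF, hF] at this
      rw [← add_sub_assoc, add_comm (fB b), ← this, add_sub_cancel_left]
    have h0 := shift_eq_zero hSt3 fB hs
    refine ⟨(sub_eq_zero.mp h0).symm, hfB _ fun b => ?_⟩
    rw [hs, h0, add_zero]
  have hfix := hc g fun C => (hblock C).1
  intro x
  rw [← hpx x, hmove, (hblock (pC x)).2, hfix]

end Cfsg.Agent.BaseCop
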