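import Cfsg.Agent.Lib.Grp.BaseCop.Defs
import Cfsg.Agent.Lib.Grp.BaseCop.ThreeColour

/-!
# Blocks of imprimitivity, two vectors

Either an abelian normal subgroup generates a field or there is a pair: five colours serve in
characteristic at least five, three colours in characteristic three.
-/

set_option autoImplicit false
set_option linter.style.haveILetI false

universe u

namespace Cfsg.Agent.BaseCop

open BaseTwo (HasPair IsInv IsCR IsIrr invAction isCR_of_isIrr genRing genRing_comm genRing_reduced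
  conj_mem_genRing exists_pow_idem sum_End_apply toEnd)

/-- The imprimitive case, given distinguishable colours of the blocks, no more than the characteristic. -/
theorem hasPair_of_blocks {A : Type u} {V : Type u} [Group A] [Finite A] [AddCommGroup V] [Finite V]
    [DistribMulAction A V] (hsol : Group.IsSolvable A) (hcop : (Nat.card A).Coprime (Nat.card V))
    (hirr : IsIrr A V) {p : ℕ} (hp : p.Prime) (hpV : ∀ x : V, p • x = 0) {n : ℕ} (hn : Nat.card V ≤ n + 1) (IH : ModHyp.{u} n)
    {ι : Type u} [Fintype ι] [MulAction A ι] [MulAction.IsPretransitive A ι] [Nontrivial ι]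
    (π : ι → AddMonoid.End V) (hidem : ∀ i, ∀ v : V, π i (π i v) = π i v)
    (horth : ∀ i j, i ≠ j → ∀ v : V, π i (π j v) = 0)
    (hsum : ∀ v : V, ∑ i, π i v = v) (hequiv : ∀ (a : A) (i : ι) (v : V), a • π i v = π (a • i) (a • v))
    (hne : ∀ i, π i ≠ 0)
    {k : ℕ} (hk : k ≤ p) (col : ι → Fin k) (hcol : ∀ a : A, (∀ i : ι, col (a • i) = col i) → ∀ i : ι, a • i = i) :
    HasPair A V := by
  classical
  obtain ⟨i₀, j₀, hij⟩ := exists_pair_ne ι
  let B : AddSubgroup V := (π i₀ : V →+ V).range
  have hB : ∀ x ∈ B, π i₀ x = x := by rintro _ ⟨v, rfl⟩; exact hidem i₀ v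
  let St := MulAction.stabilizer A i₀
  have hBinv : IsInv St B := by
    rintro ⟨a, ha⟩ _ ⟨v, rfl⟩
    refine ⟨a • v, ?_⟩
    show π i₀ (a • v) = a • π i₀ v
    rw [hequiv a i₀ v, MulAction.mem_stabilizer_iff.mp ha]
  letI := invAction B hBinv
  have hBirr : IsIrr St B := by
    intro X hX
    by_cases hX0 : X = ⊥
    · exact Or.inl hX0
    right
    let U : AddSubgroup V := AddSubgroup.closure {y : V | ∃ a : A, ∃ x ∈ X, a • (x : V) = y}
    have hUinv : IsInv A U := by
      intro a v hv
      induction hv using AddSubgroup.closure_induction with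
      | mem y hy =>
        obtain ⟨b, x, hx, rfl⟩ := hy
        exact AddSubgroup.subset_closure ⟨a * b, x, hx, mul_smul a b _⟩
      | zero => rw [smul_zero]; exact U.zero_mem
      | add y z _ _ hy hz => rw [smul_add]; exact U.add_mem hy hz
      | neg y _ hy => rw [smul_neg]; exact U.neg_mem hy
    have hUtop : U = ⊤ := (hirr U hUinv).resolve_left fun hbot => hX0 (by
      rw [eq_bot_iff]
      intro x hx
      have : (x : V) ∈ U := AddSubgroup.subset_closure ⟨1, x, hx, one_smul A _⟩
      rw [hbot, AddSubgroup.mem_bot] at this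
      exact AddSubgroup.mem_bot.mpr (Subtype.ext this))
    have key : ∀ y ∈ U, ∃ x ∈ X, (x : V) = π i₀ y := by
      intro y hy
      induction hy using AddSubgroup.closure_induction with
      | mem y hy =>
        obtain ⟨a, x, hx, rfl⟩ := hy
        have e : π i₀ (a • (x : V)) = a • π (a⁻¹ • i₀) (x : V) := by rw [hequiv, smul_inv_smul]
        by_cases hfix : a • i₀ = i₀
        · refine ⟨(⟨a, hfix⟩ : St) • x, hX _ x hx, ?_⟩
          rw [e, inv_smul_eq_iff.mpr hfix.symm, hB x x.2]
          rfl
        · refine ⟨0, X.zero_mem, ?_⟩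
          rw [e, ← hB x x.2, horth _ _ (fun h => hfix (inv_smul_eq_iff.mp h).symm), smul_zero]
          rfl
      | zero => exact ⟨0, X.zero_mem, by rw [map_zero]; rfl⟩
      | add y z _ _ hy hz =>
        obtain ⟨x, hx, e⟩ := hy
        obtain ⟨x', hx', e'⟩ := hz
        exact ⟨x + x', X.add_mem hx hx', by rw [map_add, ← e, ← e']; rfl⟩
      | neg y _ hy =>
        obtain ⟨x, hx, e⟩ := hy
        exact ⟨-x, X.neg_mem hx, by rw [map_neg, ← e]; rfl⟩
    rw [eq_top_iff]
    intro b _
    obtain ⟨x, hx, e⟩ := key b (by rw [hUtop]; trivial)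
    rw [hB b b.2] at e
    rwa [← Subtype.ext e]
  have hnontriv : Nontrivial B := by
    rw [AddSubgroup.nontrivial_iff_ne_bot]
    intro h
    exact hne i₀ (AddMonoidHom.ext fun v => AddSubgroup.mem_bot.mp (h ▸ ⟨v, rfl⟩))
  have hBlt : Nat.card B ≤ n := by
    have : Nat.card B < Nat.card V := by
      refine lt_of_le_of_ne (AddSubgroup.card_le_card_addGroup B) fun h => hne j₀ ?_
      have htop := AddSubgroup.eq_top_of_card_eq B h
      refine AddMonoidHom.ext fun v => ?_
      obtain ⟨w, hw⟩ : v ∈ B := htop ▸ trivial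
      show π j₀ v = 0
      rw [← hw]
      exact horth j₀ i₀ hij.symm w
    omega
  haveI : Group.IsSolvable St := by haveI := hsol; infer_instance
  haveI : Nontrivial B := hnontriv
  have hpA : ¬ p ∣ Nat.card A := by
    obtain ⟨x, hx⟩ := exists_ne (0 : B)
    exact not_dvd_card hcop hp (fun h => hx (Subtype.ext h) : (x : V) ≠ 0) (hpV _)
  have hcopB : (Nat.card St).Coprime (Nat.card B) :=
    (hcop.coprime_dvd_left (Subgroup.card_subgroup_dvd_card St)).coprime_dvd_right
      (AddSubgroup.card_addSubgroup_dvd_card B)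
  obtain ⟨pr, hpr⟩ := pairs_of_hasPair hp (fun x : B => Subtype.ext (hpV x))
    (fun h => hpA (h.trans (Subgroup.card_subgroup_dvd_card St)))
    (IH St B inferInstance hcopB (isCR_of_isIrr hBirr) hBlt) hk
  choose t ht using fun i => MulAction.exists_smul_eq A i₀ i
  let f : (B × B → B) → V := fun g => ∑ i, t i • (g (pr (col i)) : V)
  have hproj : ∀ g i, π i (f g) = t i • (g (pr (col i)) : V) := by
    intro g i
    rw [map_sum]
    refine (Finset.sum_eq_single i (fun j _ hji => ?_) (by simp)).trans ?_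
    · rw [← hB _ (g (pr (col j))).2, hequiv, ht, horth i j hji.symm]
    · rw [← hB _ (g (pr (col i))).2, hequiv, ht, hidem]
  refine ⟨f Prod.fst, f Prod.snd, fun a h1 h2 => ?_⟩
  have hmem : ∀ i, (t (a • i))⁻¹ * a * t i ∈ St := fun i => by
    rw [MulAction.mem_stabilizer_iff, mul_smul, mul_smul, ht, inv_smul_eq_iff, ht]
  have hg : ∀ g, a • f g = f g → ∀ i, (⟨_, hmem i⟩ : St) • g (pr (col i)) = g (pr (col (a • i))) := by
    intro g hg i
    have e := hequiv a i (f g)
    rw [hg, hproj, hproj] at e
    refine Subtype.ext ?_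
    show ((t (a • i))⁻¹ * a * t i) • (g (pr (col i)) : V) = _
    rw [mul_smul, mul_smul, e, inv_smul_smul]
  have hstep : ∀ i, col i = col (a • i) ∧ ∀ b : B, (⟨_, hmem i⟩ : St) • b = b := fun i =>
    hpr (col i) (col (a • i)) ⟨_, hmem i⟩ (hg _ h1 i) (hg _ h2 i)
  have hperm := hcol a fun i => ((hstep i).1).symm
  intro x
  rw [← hsum x, Finset.smul_sum]
  refine Finset.sum_congr rfl fun i _ => ?_
  have hy : (t i)⁻¹ • π i x ∈ B := ⟨(t i)⁻¹ • x, by
    show π i₀ _ = _
    rw [hequiv, show (t i)⁻¹ • i = i₀ from inv_smul_eq_iff.mpr (ht i).symm]⟩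
  have e := congrArg Subtype.val ((hstep i).2 ⟨_, hy⟩)
  change ((t (a • i))⁻¹ * a * t i) • ((t i)⁻¹ • π i x) = (t i)⁻¹ • π i x at e
  rw [hperm i, mul_smul, mul_smul, smul_inv_smul] at e
  exact MulAction.injective _ e

variable {V : Type u} [AddCommGroup V] [Finite V] {A : Subgroup (AddMonoid.End V)ˣ}

/-- Either the action is imprimitive, and a pair exists, or the ring generated by an abelian normal
subgroup is a field. -/
theorem hasPair_or_isField (hsol : Group.IsSolvable A) (hcop : (Nat.card A).Coprime (Nat.card V))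
    (hirr : IsIrr A V) {p : ℕ} (hp : p.Prime) (hp3 : 3 ≤ p) (hpV : ∀ x : V, p • x = 0)
    [Nontrivial V] {n : ℕ} (hn : Nat.card V ≤ n + 1) (IH : ModHyp.{u} n) (Z : Subgroup A) [Z.Normal]
    (hZ : ∀ a ∈ Z, ∀ b ∈ Z, a * b = b * a) : HasPair A V ∨ IsField (genRing Z) := by
  classical
  let R := genRing Z
  have hred := genRing_reduced hirr hZ
  by_cases htriv : ∀ e : R, e * e = e → e = 0 ∨ e = 1
  · refine Or.inr { exists_pair_ne := ⟨0, 1, fun h => ?_⟩, mul_comm := fun x y => Subtype.ext (genRing_comm hZ _ x.2 _ y.2), mul_inv_cancel := ?_ }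
    · obtain ⟨v, hv⟩ := exists_ne (0 : V)
      exact hv (congrArg (fun f : R => (f : AddMonoid.End V) v) h).symm
    · intro r hr
      obtain ⟨k, hk0, hk⟩ := exists_pow_idem r
      rcases htriv _ hk with h | h
      · exfalso
        exact hr (Subtype.ext (hred _ r.2 ⟨k, by simpa using congrArg Subtype.val h⟩))
      · exact ⟨r ^ (k - 1), by rw [← pow_succ', Nat.sub_add_cancel hk0, h]⟩
  left
  push Not at htriv
  obtain ⟨e₀, he₀, he₀0, he₀1⟩ := htriv
  have hcomm : ∀ x y : R, x * y = y * x := fun x y => Subtype.ext (genRing_comm hZ _ x.2 _ y.2)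
  let Q : R → Prop := fun e => e * e = e ∧ e ≠ 0 ∧ ∀ f : R, f * f = f → e * f = f → f = 0 ∨ f = e
  let ι := {e : R // Q e}
  let c : A → R → R := fun a r => ⟨toEnd A a * r * toEnd A a⁻¹, conj_mem_genRing a r r.2⟩
  have c_mul : ∀ a r s, c a (r * s) = c a r * c a s := by
    intro a r s
    refine Subtype.ext ?_
    show toEnd A a * (r.1 * s.1) * toEnd A a⁻¹ = (toEnd A a * r.1 * toEnd A a⁻¹) * (toEnd A a * s.1 * toEnd A a⁻¹)
    calc toEnd A a * (r.1 * s.1) * toEnd A a⁻¹
        = toEnd A a * r.1 * (toEnd A a⁻¹ * toEnd A a) * s.1 * toEnd A a⁻¹ := by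
          rw [← map_mul, inv_mul_cancel, map_one]; noncomm_ring
      _ = _ := by noncomm_ring
  have c_comp : ∀ a b r, c (a * b) r = c a (c b r) := by
    intro a b r
    refine Subtype.ext ?_
    show toEnd A (a * b) * r.1 * toEnd A (a * b)⁻¹ = toEnd A a * (toEnd A b * r.1 * toEnd A b⁻¹) * toEnd A a⁻¹
    rw [mul_inv_rev, map_mul, map_mul]
    noncomm_ring
  have c_one : ∀ r, c 1 r = r := fun r => Subtype.ext (by
    show toEnd A 1 * r.1 * toEnd A (1 : A)⁻¹ = r.1
    rw [inv_one, map_one, one_mul, mul_one])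
  have c_zero : ∀ a, c a 0 = 0 := fun a => Subtype.ext (by
    show toEnd A a * 0 * toEnd A a⁻¹ = 0
    rw [mul_zero, zero_mul])
  have hcQ : ∀ a e, Q e → Q (c a e) := by
    intro a e he
    refine ⟨by rw [← c_mul, he.1], fun h => he.2.1 ?_, fun f hf hef => ?_⟩
    · rw [← c_one e, ← inv_mul_cancel a, c_comp, h, c_zero]
    · have h1 : c a⁻¹ f * c a⁻¹ f = c a⁻¹ f := by rw [← c_mul, hf]
      have h2 : e * c a⁻¹ f = c a⁻¹ f := by
        conv_rhs => rw [← hef, c_mul, ← c_comp, inv_mul_cancel, c_one]
      rcases he.2.2 _ h1 h2 with h | h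
      · left
        rw [← c_one f, ← mul_inv_cancel a, c_comp, h, c_zero]
      · right
        conv_rhs => rw [← h, ← c_comp, mul_inv_cancel, c_one]
  letI : MulAction A ι :=
    { smul := fun a e => ⟨c a e.1, hcQ a e.1 e.2⟩
      one_smul := fun e => Subtype.ext (c_one e.1)
      mul_smul := fun a b e => Subtype.ext (c_comp a b e.1) }
  haveI : Fintype ι := Fintype.ofFinite ι
  have horth : ∀ i j : ι, i ≠ j → i.1 * j.1 = 0 := by
    intro i j hij
    have hidem : (i.1 * j.1) * (i.1 * j.1) = i.1 * j.1 := by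
      rw [mul_assoc, ← mul_assoc j.1, hcomm j.1 i.1, mul_assoc i.1 j.1, j.2.1, ← mul_assoc, i.2.1]
    by_contra h0
    have e1 := (i.2.2.2 _ hidem (by rw [← mul_assoc, i.2.1])).resolve_left h0
    have e2 := (j.2.2.2 _ hidem (by rw [hcomm i.1 j.1, ← mul_assoc, j.2.1])).resolve_left h0
    exact hij (Subtype.ext (e1.symm.trans e2))
  have habove : ∀ r : R, r * r = r → r ≠ 0 → ∃ e : ι, r * e.1 = e.1 := by
    intro r hr hr0
    haveI : Fintype R := Fintype.ofFinite R
    obtain ⟨e, hemem, hmin⟩ := Finset.exists_min_image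
      (Finset.univ.filter fun e : R => e * e = e ∧ e ≠ 0 ∧ r * e = e)
      (fun e => (Finset.univ.filter fun f : R => f * f = f ∧ e * f = f).card)
      ⟨r, Finset.mem_filter.mpr ⟨Finset.mem_univ r, hr, hr0, hr⟩⟩
    obtain ⟨he, he0, hre⟩ := (Finset.mem_filter.mp hemem).2
    refine ⟨⟨e, he, he0, fun f hf hef => or_iff_not_imp_left.mpr fun hf0 => ?_⟩, hre⟩
    have hfmem : f ∈ Finset.univ.filter fun e : R => e * e = e ∧ e ≠ 0 ∧ r * e = e := by
      simp only [Finset.mem_filter, Finset.mem_univ, true_and]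
      exact ⟨hf, hf0, by rw [← hef, ← mul_assoc, hre]⟩
    have hsub : (Finset.univ.filter fun g : R => g * g = g ∧ f * g = g) ⊆
        Finset.univ.filter fun g : R => g * g = g ∧ e * g = g := by
      intro g hg
      simp only [Finset.mem_filter, Finset.mem_univ, true_and] at hg ⊢
      exact ⟨hg.1, by rw [← hg.2, ← mul_assoc, hef]⟩
    have heq := Finset.eq_of_subset_of_card_le hsub (hmin f hfmem)
    have : e ∈ Finset.univ.filter fun g : R => g * g = g ∧ f * g = g := by
      rw [heq]; simp [he]
    rw [Finset.mem_filter] at this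
    rw [← this.2.2, hcomm, hef]
  have hidemS : ∀ s : Finset ι, (∑ i ∈ s, i.1) * (∑ i ∈ s, i.1) = ∑ i ∈ s, i.1 := by
    intro s
    rw [Finset.sum_mul]
    refine Finset.sum_congr rfl fun i hi => ?_
    rw [Finset.mul_sum, Finset.sum_eq_single_of_mem i hi fun j _ hj => horth i j (Ne.symm hj), i.2.1]
  have hsum : ∑ i : ι, i.1 = 1 := by
    by_contra hne
    set s : R := ∑ i : ι, i.1
    have h1 : (1 - s) * (1 - s) = 1 - s := by
      rw [sub_mul, one_mul, mul_sub, mul_one, hidemS, sub_self, sub_zero]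
    obtain ⟨e, he⟩ := habove _ h1 (sub_ne_zero.mpr (Ne.symm hne))
    rw [sub_mul, one_mul, sub_eq_self] at he
    refine e.2.2.1 ?_
    rw [← he, Finset.sum_mul, Finset.sum_eq_single_of_mem e (Finset.mem_univ _) fun j _ hj => horth j e hj, e.2.1]
  let π : ι → AddMonoid.End V := fun i => (i.1 : AddMonoid.End V)
  have hπorth : ∀ i j, i ≠ j → ∀ v : V, π i (π j v) = 0 := fun i j hij v => by
    have := congrArg (fun f : R => (f : AddMonoid.End V) v) (horth i j hij)
    exact this
  have hequiv : ∀ (a : A) (i : ι) (v : V), a • π i v = π (a • i) (a • v) := fun a i v => by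
    show a • π i v = a • π i (a⁻¹ • a • v)
    rw [inv_smul_smul]
  haveI : Nontrivial ι := by
    by_contra h
    rw [not_nontrivial_iff_subsingleton] at h
    obtain ⟨e, he⟩ := habove _ he₀ he₀0
    have he1 : e.1 = 1 := by
      rw [← hsum, Finset.sum_eq_single_of_mem e (Finset.mem_univ _) fun j _ hj => absurd (Subsingleton.elim j e) hj]
    rw [he1, mul_one] at he
    exact he₀1 he
  haveI : MulAction.IsPretransitive A ι := by
    refine ⟨fun i j => ?_⟩
    by_contra hno
    push Not at hno
    let s := Finset.univ.filter (fun k : ι => k ∈ MulAction.orbit A i)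
    let σ : R := ∑ k ∈ s, k.1
    let U : AddSubgroup V := ((σ : AddMonoid.End V) : V →+ V).range
    have hσ : (σ : AddMonoid.End V) = ∑ k ∈ s, π k := AddSubmonoidClass.coe_finset_sum _ _
    have hU : IsInv A U := by
      rintro a _ ⟨v, rfl⟩
      refine ⟨a • v, ?_⟩
      rw [hσ]
      show (∑ k ∈ s, π k) (a • v) = a • (∑ k ∈ s, π k) v
      rw [sum_End_apply, sum_End_apply, Finset.smul_sum]
      refine (Finset.sum_bij (fun k _ => a • k) ?_ ?_ ?_ ?_).symm
      · intro k hk
        simp only [s, Finset.mem_filter, Finset.mem_univ, true_and] at hk ⊢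
        exact MulAction.mem_orbit_of_mem_orbit a hk
      · intro k _ l _ h; exact MulAction.injective a h
      · intro k hk
        refine ⟨a⁻¹ • k, ?_, smul_inv_smul a k⟩
        simp only [s, Finset.mem_filter, Finset.mem_univ, true_and] at hk ⊢
        exact MulAction.mem_orbit_of_mem_orbit a⁻¹ hk
      · intro k _; exact hequiv a k v
    have his : i ∈ s := by simp [s, MulAction.mem_orbit_self]
    have hjs : j ∉ s := by
      simp only [s, Finset.mem_filter, Finset.mem_univ, true_and]
      rintro ⟨a, ha⟩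
      exact hno a ha
    rcases hirr U hU with h | h
    · refine i.2.2.1 ?_
      have hz : σ = 0 := Subtype.ext (AddMonoidHom.ext fun v => AddSubgroup.mem_bot.mp (h ▸ ⟨v, rfl⟩))
      have : i.1 * σ = i.1 := by
        rw [Finset.mul_sum, Finset.sum_eq_single_of_mem i his fun k _ hk => horth i k (Ne.symm hk), i.2.1]
      rw [hz, mul_zero] at this
      exact this.symm
    · refine j.2.2.1 ?_
      have hone : σ = 1 := by
        refine Subtype.ext (AddMonoidHom.ext fun v => ?_)
        obtain ⟨w, rfl⟩ : v ∈ U := h ▸ trivial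
        exact congrArg (fun f : R => (f : AddMonoid.End V) w) (hidemS s)
      have : j.1 * σ = 0 := by
        rw [Finset.mul_sum]
        exact Finset.sum_eq_zero fun k hk => horth j k fun h => hjs (h ▸ hk)
      rwa [hone, mul_one] at this
  have hπne : ∀ i, π i ≠ 0 := fun i h => i.2.2.1 (Subtype.ext h)
  have hcardι : Nat.card ι ≤ n := by
    have hvec : ∀ i : ι, ∃ v : V, π i v ≠ 0 := fun i => by
      by_contra h
      push Not at h
      exact hπne i (AddMonoidHom.ext h)
    choose w hw using hvec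
    have hidem : ∀ i : ι, ∀ v : V, π i (π i v) = π i v := fun i v =>
      congrArg (fun f : R => (f : AddMonoid.End V) v) i.2.1
    have hinj : Function.Injective (fun o : Option ι => o.elim (0 : V) fun i => π i (w i)) := by
      intro o o' h
      cases o with
      | none => cases o' with
        | none => rfl
        | some j => exact absurd h.symm (hw j)
      | some i => cases o' with
        | none => exact absurd h (hw i)
        | some j =>
          by_contra hne
          have := congrArg (π i) h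
          simp only [Option.elim] at this
          rw [hidem, hπorth i j (fun e => hne (congrArg some e))] at this
          exact hw i this
    have := Nat.card_le_card_of_injective _ hinj
    rw [Finite.card_option] at this
    omega
  obtain ⟨k, hk, col, hcol⟩ : ∃ k, k ≤ p ∧ ∃ col : ι → Fin k,
      ∀ a : A, (∀ i, col (a • i) = col i) → ∀ i, a • i = i := by
    by_cases h3 : p = 3
    · have hA3 : ¬ 3 ∣ Nat.card A := by
        obtain ⟨x, hx⟩ := exists_ne (0 : V)
        subst h3
        exact not_dvd_card hcop hp hx (hpV x)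
      obtain ⟨c, hc⟩ := threeColour (Nat.card ι) A ι hsol hA3 le_rfl
      exact ⟨3, h3.ge, c, hc⟩
    · have h4 : p ≠ 4 := fun h => by rw [h] at hp; exact absurd hp (by norm_num)
      obtain ⟨c, hc⟩ := BaseThree.fiveColour (BaseThree.modHyp _) (Nat.card ι) le_rfl A ι hsol le_rfl
      exact ⟨5, by omega, c 0, fun a ha => (hc 0 0 a ha).2⟩
  refine hasPair_of_blocks hsol hcop hirr hp hpV hn IH π
    (fun i v => congrArg (fun f : R => (f : AddMonoid.End V) v) i.2.1) hπorth ?_ hequiv hπne hk col hcol
  intro v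
  have h1 : (((∑ i : ι, i.1 : R)) : AddMonoid.End V) = 1 := congrArg Subtype.val hsum
  rw [AddSubmonoidClass.coe_finset_sum] at h1
  rw [← sum_End_apply]
  exact congrArg (fun f : AddMonoid.End V => f v) h1

end Cfsg.Agent.BaseCop
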