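import Cfsg.Agent.Lib.Grp.BaseCop.Defs
import Cfsg.Agent.Lib.Grp.BaseThree.Tensor

/-!
# Two good vectors in a corner

The group acts projectively and irreducibly on the corner of a matrix splitting, with order prime to
the characteristic, so by induction the corner has a pair; moving the second vector by the first makes
it insensitive to its sign.
-/

set_option autoImplicit false
set_option linter.style.haveILetI false

universe u

namespace Cfsg.Agent.BaseCop

open BaseThree (Semi Split exists_map_of_ne_zero)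
open BaseTwo (HasPair IsInv IsCR IsIrr isCR_of_isIrr)

/-- Two good vectors in the corner, good even when the second is only known up to sign. -/
theorem exists_corner_pair {A V : Type u} {K J : Type*} [Group A] [Finite A] [Group.IsSolvable A]
    [AddCommGroup V] [Finite V] [Nontrivial V] [DistribMulAction A V] [Field K] [Finite K] [Module K V]
    [Fintype J] (D : Semi A V K) {M : Set (Module.End K V)} (S : Split M J)
    (hM : ∀ (a : A), ∀ e ∈ M, D.cj a e ∈ M) (hirr : IsIrr A V) (hJ : 2 ≤ Fintype.card J)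
    {p : ℕ} (hp : p.Prime) (hp3 : 3 ≤ p) (hpV : ∀ x : V, p • x = 0)
    (hcop : (Nat.card A).Coprime (Nat.card V)) {n : ℕ} (hn : Nat.card V ≤ n + 1) (IH : ModHyp.{u} n) :
    ∃ u₀ u₁ : V, S.P u₀ = u₀ ∧ S.P u₁ = u₁ ∧ u₀ ≠ 0 ∧ u₁ ≠ 0 ∧
      ∀ a : A, D.cj a S.P = S.P → a • u₀ = u₀ → (a • u₁ = u₁ ∨ a • u₁ = -u₁) →
        ∀ x, S.P x = x → a • x = x := by
  classical
  let L : Set (Module.End K V) := {F | ∀ e ∈ M, F * e = e * F}
  have hLP : ∀ F ∈ L, ∀ x, S.P x = x → S.P (F x) = F x := by
    intro F hF x hx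
    have := DFunLike.congr_fun (S.gen F hF).1 x
    rw [Module.End.mul_apply, Module.End.mul_apply, hx] at this
    exact this.symm
  have hLext : ∀ F, S.ext F ∈ L := fun F e he => S.ext_commute F he
  have hLcj : ∀ (a : A), ∀ F ∈ L, D.cj a F ∈ L := by
    intro a F hF e he
    have h := congrArg (D.cj a) (hF _ (hM a⁻¹ e he))
    rwa [Semi.cj_mul, Semi.cj_mul, Semi.cj_inv_cj] at h
  let U : AddSubgroup V :=
    { carrier := {x | S.P x = x}
      zero_mem' := map_zero _
      add_mem' := fun {x y} hx hy => by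
        show S.P (x + y) = x + y
        rw [map_add, show S.P x = x from hx, show S.P y = y from hy]
      neg_mem' := fun {x} hx => by
        show S.P (-x) = -x
        rw [map_neg, show S.P x = x from hx] }
  have hPU : ∀ v, S.P v ∈ U := fun v => DFunLike.congr_fun S.idem v
  -- the pairs of an element and a compatible map of the corner
  let Pr : Subgroup (A × (AddMonoid.End U)ˣ) :=
    { carrier := {ab | ∀ F ∈ L, ∀ (x y : U), (y : V) = F x →
        ((ab.2 : AddMonoid.End U) y : V) = D.cj ab.1 F ((ab.2 : AddMonoid.End U) x)}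
      one_mem' := fun F _ x y hy => by rw [Prod.fst_one, Semi.cj_id]; exact hy
      mul_mem' := by
        rintro ⟨a, b⟩ ⟨a', b'⟩ h h' F hF x y hy
        show ((b : AddMonoid.End U) ((b' : AddMonoid.End U) y) : V) =
          D.cj (a * a') F ((b : AddMonoid.End U) ((b' : AddMonoid.End U) x))
        rw [← Semi.cj_cj]
        exact h _ (hLcj a' F hF) _ _ (h' F hF x y hy)
      inv_mem' := by
        rintro ⟨a, b⟩ h F hF x y hy
        show ((↑b⁻¹ : AddMonoid.End U) y : V) = D.cj a⁻¹ F ((↑b⁻¹ : AddMonoid.End U) x)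
        have hF' := hLcj a⁻¹ F hF
        let w : U := ⟨D.cj a⁻¹ F ((↑b⁻¹ : AddMonoid.End U) x), hLP _ hF' _ ((↑b⁻¹ : AddMonoid.End U) x).2⟩
        have h1 : ((b : AddMonoid.End U) w : V) = _ := h _ hF' ((↑b⁻¹ : AddMonoid.End U) x) w rfl
        have e1 : (b : AddMonoid.End U) ((↑b⁻¹ : AddMonoid.End U) x) = x :=
          DFunLike.congr_fun b.mul_inv x
        rw [Semi.cj_inv_cj, e1, ← hy] at h1
        have e2 : (↑b⁻¹ : AddMonoid.End U) ((b : AddMonoid.End U) w) = w :=
          DFunLike.congr_fun b.inv_mul w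
        rw [Subtype.ext h1] at e2
        exact congrArg Subtype.val e2 }
  have hU0 : ∃ x : U, x ≠ 0 := by
    obtain ⟨v, hv⟩ := exists_ne (0 : V)
    by_contra h
    push Not at h
    refine hv ((S.decomp v).trans (Finset.sum_eq_zero fun j _ => ?_))
    rw [show S.P (S.s' j v) = 0 from congrArg Subtype.val (h ⟨_, hPU _⟩), map_zero]
  obtain ⟨x₀, hx₀⟩ := hU0
  haveI : Nontrivial U := ⟨⟨x₀, 0, hx₀⟩⟩
  haveI : Finite (AddMonoid.End U) := Finite.of_injective (fun f : AddMonoid.End U => (f : U → U)) DFunLike.coe_injective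
  -- solvability
  have hline : ∀ b : Pr, b.1.1 = 1 → ∀ x : U, ∃ k : K,
      (((b.1.2 : AddMonoid.End U) x : U) : V) = k • (x : V) := by
    intro b hb x
    have hb' : b.1.1 = 1 := hb
    by_cases hx : (x : V) = 0
    · exact ⟨0, by rw [show x = 0 from Subtype.ext hx, map_zero, zero_smul]; rfl⟩
    by_contra hne
    push Not at hne
    have hmem : (((b.1.2 : AddMonoid.End U) x : U) : V) ∉ Submodule.span K {(x : V)} := fun h => by
      obtain ⟨k, hk⟩ := Submodule.mem_span_singleton.mp h
      exact hne k hk.symm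
    obtain ⟨φ, hφ1, hφ0⟩ := Submodule.exists_dual_map_eq_bot_of_notMem hmem inferInstance
    let F : Module.End K V := φ.smulRight (x : V)
    have hFx : S.ext F x = 0 := by
      rw [S.ext_apply_of_mem F x.2, LinearMap.smulRight_apply]
      rw [show φ (x : V) = 0 from by
        rw [← Submodule.mem_bot (R := K), ← hφ0]
        exact Submodule.mem_map_of_mem (Submodule.mem_span_singleton_self _), zero_smul, map_zero]
    have h := b.2 _ (hLext F) x 0 hFx.symm
    rw [hb', Semi.cj_id, map_zero, S.ext_apply_of_mem F ((b.1.2 : AddMonoid.End U) x).2,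
      LinearMap.smulRight_apply, map_smul, x.2] at h
    rcases smul_eq_zero.mp h.symm with h | h
    · exact hφ1 h
    · exact hx h
  haveI : Group.IsSolvable Pr := by
    let f : Pr →* A := (MonoidHom.fst A _).comp Pr.subtype
    haveI : Group.IsSolvable f.ker := by
      refine Group.isSolvable_of_comm fun b b' => Subtype.ext (Subtype.ext (Prod.ext ?_ ?_))
      · show b.1.1.1 * b'.1.1.1 = b'.1.1.1 * b.1.1.1
        rw [show b.1.1.1 = 1 from b.2, show b'.1.1.1 = 1 from b'.2]
      refine Units.ext (AddMonoidHom.ext fun x => Subtype.ext ?_)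
      show ((b.1.1.2 : AddMonoid.End U) ((b'.1.1.2 : AddMonoid.End U) x) : V) =
        ((b'.1.1.2 : AddMonoid.End U) ((b.1.1.2 : AddMonoid.End U) x) : V)
      obtain ⟨k, hk⟩ := hline _ b.2 x
      obtain ⟨k', hk'⟩ := hline _ b'.2 x
      have hscal : ∀ c : K, (c • 1 : Module.End K V) ∈ L := fun c e _ => by
        rw [smul_mul_assoc, mul_smul_comm, one_mul, mul_one]
      have e1 := b.1.2 _ (hscal k') x ((b'.1.1.2 : AddMonoid.End U) x) hk'
      have e2 := b'.1.2 _ (hscal k) x ((b.1.1.2 : AddMonoid.End U) x) hk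
      rw [show b.1.1.1 = 1 from b.2, Semi.cj_id] at e1
      rw [show b'.1.1.1 = 1 from b'.2, Semi.cj_id] at e2
      rw [e1, e2, LinearMap.smul_apply, LinearMap.smul_apply, Module.End.one_apply, Module.End.one_apply, hk, hk',
        smul_smul, smul_smul, mul_comm]
    exact Group.isSolvable_of_ker_le_range f.ker.subtype f (by rw [Subgroup.range_subtype])
  letI actU : DistribMulAction Pr U :=
    { smul := fun b x => (b.1.2 : AddMonoid.End U) x
      one_smul := fun x => rfl
      mul_smul := fun b b' x => rfl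
      smul_zero := fun b => map_zero (b.1.2 : AddMonoid.End U)
      smul_add := fun b x y => map_add (b.1.2 : AddMonoid.End U) x y }
  -- every element acts on the corner
  have hexists : ∀ a : A, ∃ b : Pr, b.1.1 = a := by
    intro a
    obtain ⟨i, hi⟩ : ∃ i, S.P (S.s' i (a • (x₀ : V))) ≠ 0 := by
      by_contra h
      push Not at h
      refine hx₀ (Subtype.ext ((smul_eq_zero_iff_eq a).mp ((S.decomp _).trans ?_)))
      exact Finset.sum_eq_zero fun j _ => by rw [h j, map_zero]
    let β : U →+ U :=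
      { toFun := fun x => ⟨S.P (S.s' i (a • (x : V))), hPU _⟩
        map_zero' := Subtype.ext (by simp)
        map_add' := fun x y => Subtype.ext (by simp) }
    have hβF : ∀ F ∈ L, ∀ x y : U, (y : V) = F x → (β y : V) = D.cj a F (β x) := by
      intro F hF x y hy
      have hF' := hLcj a F hF
      obtain ⟨hP, hs⟩ := S.gen _ hF'
      have hs' : D.cj a F * S.s' i = S.s' i * D.cj a F := by
        calc D.cj a F * S.s' i = S.s' i * (S.s i * D.cj a F) * S.s' i := by
              simp only [← mul_assoc, S.hs', one_mul]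
          _ = S.s' i * (D.cj a F * S.s i) * S.s' i := by rw [hs i]
          _ = S.s' i * D.cj a F * (S.s i * S.s' i) := by simp only [mul_assoc]
          _ = _ := by rw [S.hs, mul_one]
      show S.P (S.s' i (a • (y : V))) = D.cj a F (S.P (S.s' i (a • (x : V))))
      rw [hy, ← Semi.cj_smul_vec]
      have e := DFunLike.congr_fun (show D.cj a F * (S.P * S.s' i) = S.P * S.s' i * D.cj a F by
        rw [← mul_assoc, hP, mul_assoc, hs', ← mul_assoc]) (a • (x : V))
      exact e.symm
    have hβ : Function.Injective β := by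
      rw [injective_iff_map_eq_zero]
      intro x hx
      by_contra hx0
      obtain ⟨F, hF⟩ := exists_map_of_ne_zero (K := K) (fun h => hx0 (Subtype.ext h)) (x₀ : V)
      have := hβF _ (hLext F) x x₀ (by rw [S.ext_apply_of_mem F x.2, hF, x₀.2])
      rw [hx, ZeroMemClass.coe_zero, map_zero] at this
      exact hi this
    let e := AddEquiv.ofBijective β ⟨hβ, Finite.injective_iff_surjective.mp hβ⟩
    exact ⟨⟨(a, ⟨e.toAddMonoidHom, e.symm.toAddMonoidHom, AddMonoidHom.ext fun x => e.apply_symm_apply x,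
      AddMonoidHom.ext fun x => e.symm_apply_apply x⟩), hβF⟩, rfl⟩
  have hirrU : IsIrr Pr U := by
    intro W hW
    by_contra hne
    push Not at hne
    let V' : AddSubgroup V :=
      { carrier := {v | ∀ F ∈ L, (∀ w ∈ W, F (w : V) = 0) → F v = 0}
        zero_mem' := fun F _ _ => map_zero F
        add_mem' := fun {v v'} hv hv' F h1 h2 => by rw [map_add, hv F h1 h2, hv' F h1 h2, add_zero]
        neg_mem' := fun {v} hv F h1 h2 => by rw [map_neg, hv F h1 h2, neg_zero] }
    have hV' : IsInv A V' := by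
      intro a v hv F hF hFW
      have h := hv _ (hLcj a⁻¹ F hF) fun w hw => ?_
      · rw [Semi.cj_apply, inv_inv, inv_smul_eq_iff, smul_zero] at h
        exact h
      obtain ⟨b, rfl⟩ := hexists a
      let y : U := ⟨D.cj b.1.1⁻¹ F w, hLP _ (hLcj _ F hF) _ w.2⟩
      have e := b.2 _ (hLcj _ F hF) w y rfl
      rw [Semi.cj_inv_cj, show F (((b.1.2 : AddMonoid.End U) w : U) : V) = 0 from hFW _ (hW b w hw)] at e
      have e2 : (↑b.1.2⁻¹ : AddMonoid.End U) ((b.1.2 : AddMonoid.End U) y) = y :=
        DFunLike.congr_fun b.1.2.inv_mul y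
      rw [show (b.1.2 : AddMonoid.End U) y = 0 from Subtype.ext e, map_zero] at e2
      exact congrArg Subtype.val e2.symm
    -- the corner part is a subspace
    have hscal : ∀ (k : K), ∀ w ∈ W, ∀ h : S.P (k • (w : V)) = k • (w : V), (⟨k • (w : V), h⟩ : U) ∈ W := by
      intro k w hw h
      by_cases hk : k = 0
      · rw [show (⟨k • (w : V), h⟩ : U) = 0 from Subtype.ext (by simp [hk])]
        exact W.zero_mem
      let mk : K → AddMonoid.End U := fun c =>
        { toFun := fun x => ⟨c • (x : V), show S.P (c • (x : V)) = _ by rw [map_smul, x.2]⟩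
          map_zero' := Subtype.ext (smul_zero c)
          map_add' := fun x y => Subtype.ext (smul_add c (x : V) y) }
      let b : (AddMonoid.End U)ˣ := ⟨mk k, mk k⁻¹,
        AddMonoidHom.ext fun x => Subtype.ext (by
          show k • k⁻¹ • (x : V) = x
          rw [smul_smul, mul_inv_cancel₀ hk, one_smul]),
        AddMonoidHom.ext fun x => Subtype.ext (by
          show k⁻¹ • k • (x : V) = x
          rw [smul_smul, inv_mul_cancel₀ hk, one_smul])⟩
      have hb : ((1 : A), b) ∈ Pr := fun F _ x y hy => by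
        show k • (y : V) = D.cj 1 F (k • (x : V))
        rw [Semi.cj_id, hy, map_smul]
      exact hW ⟨_, hb⟩ w hw
    let Ws : Submodule K V :=
      { carrier := {v | ∃ h : S.P v = v, (⟨v, h⟩ : U) ∈ W}
        zero_mem' := ⟨map_zero _, W.zero_mem⟩
        add_mem' := by
          rintro v v' ⟨h, hv⟩ ⟨h', hv'⟩
          exact ⟨by rw [map_add, h, h'], W.add_mem hv hv'⟩
        smul_mem' := by
          rintro k v ⟨h, hv⟩
          exact ⟨by rw [map_smul, h], hscal k _ hv _⟩ }
    rcases hirr V' hV' with h | h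
    · refine hne.1 (W.eq_bot_iff_forall.mpr fun w hw => ?_)
      have : (w : V) ∈ V' := fun F _ hFW => hFW w hw
      rw [h, AddSubgroup.mem_bot] at this
      exact Subtype.ext this
    · obtain ⟨y, hy⟩ : ∃ y : U, y ∉ W := by
        by_contra hall
        push Not at hall
        exact hne.2 (eq_top_iff.mpr fun y _ => hall y)
      have hyW : (y : V) ∉ Ws := fun ⟨_, h⟩ => hy h
      obtain ⟨φ, hφ1, hφ0⟩ := Submodule.exists_dual_map_eq_bot_of_notMem hyW inferInstance
      let F : Module.End K V := φ.smulRight (y : V)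
      have hy' : (y : V) ∈ V' := h ▸ trivial
      have := hy' (S.ext F) (hLext F) fun w hw => by
        rw [S.ext_apply_of_mem F w.2, LinearMap.smulRight_apply,
          show φ (w : V) = 0 by
            rw [← Submodule.mem_bot (R := K), ← hφ0]
            exact Submodule.mem_map_of_mem ⟨w.2, hw⟩, zero_smul, map_zero]
      rw [S.ext_apply_of_mem F y.2, LinearMap.smulRight_apply, map_smul, y.2] at this
      rcases smul_eq_zero.mp this with h1 | h1
      · exact hφ1 h1
      · exact hy (by rw [show y = 0 from Subtype.ext h1]; exact W.zero_mem)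
  have hlt : Nat.card U ≤ n := by
    have : Nat.card U < Nat.card V := by
      refine lt_of_le_of_ne (AddSubgroup.card_le_card_addGroup U) fun h => ?_
      have htop := AddSubgroup.eq_top_of_card_eq U h
      have hP1 : S.P = 1 := LinearMap.ext fun v => (htop ▸ trivial : v ∈ U)
      obtain ⟨j, hj⟩ := Fintype.exists_ne_of_one_lt_card (by omega) S.j₀
      have := S.orth j S.j₀ hj
      rw [hP1, one_mul, mul_one, S.s_zero, mul_one] at this
      have h2 := S.hs j
      rw [this, mul_zero] at h2
      obtain ⟨v, hv⟩ := exists_ne (0 : V)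
      exact hv (DFunLike.congr_fun h2 v).symm
    omega
  haveI := Fact.mk hp
  have hx₀V : (x₀ : V) ≠ 0 := fun h => hx₀ (Subtype.ext h)
  have hpA : ¬ p ∣ Nat.card A := not_dvd_card hcop hp hx₀V (hpV x₀)
  haveI : CharP K p := by
    refine (CharP.charP_iff_prime_eq_zero hp).mpr ?_
    have h : (p : K) • (x₀ : V) = 0 := by rw [Nat.cast_smul_eq_nsmul, hpV]
    exact (smul_eq_zero.mp h).resolve_right hx₀V
  haveI : Finite Pr := inferInstance
  have hpPr : ¬ p ∣ Nat.card Pr := by
    intro hdvd
    obtain ⟨b, hb⟩ := exists_prime_orderOf_dvd_card' p hdvd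
    have hb1 : b.1.1 = 1 := by
      have hd : orderOf b.1.1 ∣ p := hb ▸ orderOf_map_dvd ((MonoidHom.fst A _).comp Pr.subtype) b
      rcases (Nat.dvd_prime hp).mp hd with h | h
      · exact orderOf_eq_one_iff.mp h
      · exact absurd (h ▸ orderOf_dvd_natCard b.1.1) hpA
    have hfix : ∀ x : U, b • x = x := by
      intro x
      obtain ⟨k, hk⟩ := hline b hb1 x
      by_cases hx : (x : V) = 0
      · rw [show x = 0 from Subtype.ext hx, smul_zero]
      have hscal : (k • 1 : Module.End K V) ∈ L := fun c _ => by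
        rw [smul_mul_assoc, mul_smul_comm, one_mul, mul_one]
      have hiter : ∀ j : ℕ, ((b ^ j • x : U) : V) = k ^ j • (x : V) := by
        intro j
        induction j with
        | zero => rw [pow_zero, one_smul, pow_zero, one_smul]
        | succ j ih =>
          have h1 := b.2 _ hscal x (b • x) hk
          rw [hb1, Semi.cj_id] at h1
          let y : U := ⟨k ^ j • (x : V), show S.P (k ^ j • (x : V)) = _ by rw [map_smul, x.2]⟩
          have hscal' : (k ^ j • 1 : Module.End K V) ∈ L := fun c _ => by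
            rw [smul_mul_assoc, mul_smul_comm, one_mul, mul_one]
          have h2 := b.2 _ hscal' x y rfl
          rw [hb1, Semi.cj_id] at h2
          rw [pow_succ', mul_smul, show b ^ j • x = y from Subtype.ext ih]
          show ((b.1.2 : AddMonoid.End U) y : V) = _
          rw [h2, LinearMap.smul_apply, Module.End.one_apply, hk, smul_smul, ← pow_succ]
      have hkp : k ^ p = 1 := by
        refine smul_left_injective K hx ?_
        show k ^ p • (x : V) = (1 : K) • (x : V)
        rw [← hiter, ← hb, pow_orderOf_eq_one, one_smul, one_smul]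
      have hk1 : k = 1 := by
        have h0 : (k - 1) ^ p = 0 := by rw [sub_pow_char, hkp, one_pow, sub_self]
        exact sub_eq_zero.mp (eq_zero_of_pow_eq_zero h0)
      refine Subtype.ext ?_
      show ((b.1.2 : AddMonoid.End U) x : V) = x
      rw [hk, hk1, one_smul]
    have hb2 : b = 1 := Subtype.ext (Prod.ext hb1 (Units.ext (AddMonoidHom.ext hfix)))
    rw [hb2, orderOf_one] at hb
    exact hp.one_lt.ne hb
  have hcopU : (Nat.card Pr).Coprime (Nat.card U) := by
    refine Nat.coprime_of_dvd fun q hq hqP hqU => hpPr ?_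
    haveI := Fact.mk hq
    obtain ⟨x, hx⟩ := exists_prime_addOrderOf_dvd_card' q hqU
    have h : q ∣ p := hx ▸ addOrderOf_dvd_of_nsmul_eq_zero (Subtype.ext (hpV (x : V)))
    rwa [(Nat.prime_dvd_prime_iff_eq hq hp).mp h] at hqP
  letI : Module (ZMod p) U :=
    AddCommGroup.zmodModule (n := p) fun x => Subtype.ext (hpV (x : V))
  obtain ⟨v, w, hvw⟩ := IH Pr U inferInstance hcopU (isCR_of_isIrr hirrU) hlt
  obtain ⟨x, y, hx, hxy⟩ : ∃ x y : U, x ≠ 0 ∧ ∀ b : Pr, b • x = x → b • y = y → ∀ z : U, b • z = z := by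
    by_cases hv : v = 0
    · by_cases hw : w = 0
      · exact ⟨x₀, 0, hx₀, fun b _ _ => hvw b (by rw [hv, smul_zero]) (by rw [hw, smul_zero])⟩
      · exact ⟨w, 0, hw, fun b h _ => hvw b (by rw [hv, smul_zero]) h⟩
    · exact ⟨v, w, hv, hvw⟩
  obtain ⟨z, hz, hgood⟩ : ∃ z : U, z ≠ 0 ∧
      ∀ b : Pr, b • x = x → (b • z = z ∨ b • z = -z) → ∀ t : U, b • t = t := by
    by_cases hy : y = 0
    · exact ⟨x, hx, fun b h _ => hxy b h (by rw [hy, smul_zero])⟩
    by_cases hyx : x + y = 0
    · exact ⟨x, hx, fun b h _ => hxy b h (by rw [eq_neg_of_add_eq_zero_right hyx, smul_neg, h])⟩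
    by_contra hno
    push Not at hno
    obtain ⟨b₁, h1, h1', t₁, ht₁⟩ := hno y hy
    obtain ⟨b₂, h2, h2', t₂, ht₂⟩ := hno (x + y) hyx
    have e1 : b₁ • y = -y := h1'.resolve_left fun h => ht₁ (hxy b₁ h1 h t₁)
    have e2 : b₂ • y = -y - (x + x) := by
      rcases h2' with h | h <;> rw [smul_add, h2] at h
      · exact absurd (hxy b₂ h2 (add_left_cancel h) t₂) ht₂
      · rw [eq_sub_iff_add_eq.mpr (show b₂ • y + x = -(x + y) by rw [add_comm]; exact h)]
        abel
    have e3 : (b₁ * b₂) • y = y + (-2 : ZMod p) • x := by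
      rw [mul_smul, e2, smul_sub, smul_neg, e1, smul_add, h1, neg_neg, neg_smul, two_smul, sub_eq_add_neg]
    have h4 := eq_zero_of_shift hpPr (show (b₁ * b₂) • x = x by rw [mul_smul, h2, h1]) e3 hx
    rw [neg_eq_zero] at h4
    have h5 : p ∣ 2 := (ZMod.natCast_eq_zero_iff 2 p).mp (by exact_mod_cast h4)
    exact absurd (Nat.le_of_dvd two_pos h5) (by omega)
  refine ⟨x, z, x.2, z.2, fun h => hx (Subtype.ext h), fun h => hz (Subtype.ext h),
    fun a haP ha0 ha1 t ht => ?_⟩
  have haU : ∀ c : A, D.cj c S.P = S.P → ∀ y : U, S.P (c • (y : V)) = c • (y : V) := by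
    intro c hc y
    conv_lhs => rw [← hc]
    rw [Semi.cj_smul_vec, y.2]
  have haP' : D.cj a⁻¹ S.P = S.P := by
    conv_lhs => rw [← haP]
    rw [Semi.cj_cj, inv_mul_cancel, Semi.cj_id]
  let mk : ∀ c : A, D.cj c S.P = S.P → AddMonoid.End U := fun c hc =>
    { toFun := fun y => ⟨c • (y : V), haU c hc y⟩
      map_zero' := Subtype.ext (smul_zero c)
      map_add' := fun y z => Subtype.ext (smul_add c (y : V) z) }
  let b : (AddMonoid.End U)ˣ := ⟨mk a haP, mk a⁻¹ haP',
    AddMonoidHom.ext fun y => Subtype.ext (smul_inv_smul a (y : V)),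
    AddMonoidHom.ext fun y => Subtype.ext (inv_smul_smul a (y : V))⟩
  have hb : (a, b) ∈ Pr := fun F _ y z hz => by
    show a • (z : V) = D.cj a F (a • (y : V))
    rw [Semi.cj_smul_vec, hz]
  have htriv := hgood ⟨_, hb⟩ (Subtype.ext ha0)
    (ha1.imp (fun h => Subtype.ext h) (fun h => Subtype.ext h))
  exact congrArg Subtype.val (htriv ⟨t, ht⟩)

end Cfsg.Agent.BaseCop
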