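import Cfsg.Agent.Lib.Grp.BaseThree.Twist

/-!
# The quaternion factor, sharper

An element fixing a vector of each side preserves the splitting and moves the partner by a sign.
-/

set_option autoImplicit false
set_option linter.style.haveILetI false
set_option linter.unusedSectionVars false

namespace Cfsg.Agent.BaseCop

open BaseThree (Semi Ops Twist)

variable {A V K : Type*} [Group A] [AddCommGroup V] [DistribMulAction A V] [Field K] [Module K V]
  (D : Semi A V K) {r : ℕ} {ζ : K} {O : Ops K (Module.End K V) r ζ} {m : ℕ} (P : O.Pre m)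

set_option maxHeartbeats 2000000 in
/-- A quaternion pair is left: the sharper rigidity. -/
theorem exists_quat [Finite K] (h2 : (2 : K) ≠ 0) (hneg : ¬ IsSquare (-1 : K))
    (X Y : Module.End K V) (hX : P.Rem X) (hY : P.Rem Y) (hX2 : X * X = -1) (hY2 : Y * Y = -1)
    (hXY : X * Y = -(Y * X))
    (hall : ∀ n, P.Rem n → ∃ l : K, n = l • 1 ∨ n = l • X ∨ n = l • Y ∨ n = l • (X * Y)) :
    ∃ T : Twist D P (Fin 2), T.k₀ = 0 ∧ T.l = 1 ∧
      (∀ n, P.Rem n → ∀ x : V, T.η x = x → x ≠ 0 → T.η (n x) = n x → ∃ k : K, n = k • 1) ∧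
      ∀ (a : A) (π : Module.End K V), (∀ n, P.Rem n → π * n = n * π) → D.cj a π = π →
        (∀ n, P.Rem n → ∃ n', P.Rem n' ∧ ∀ y : V, π y = y → a • n y = n' (a • y)) → π * π = π →
        ∀ x y : V, π x = x → T.η x = x → x ≠ 0 → π y = y → T.η y = y → y ≠ 0 → a • x = x →
          a • T.z T.l y = T.z T.l y →
          D.cj a (π * T.η) = π * T.η ∧
            ∃ s : K, (s = 1 ∨ s = -1) ∧ ∀ v, π v = v → a • T.z T.l v = s • T.z T.l (a • v) := by
  obtain ⟨p, hp⟩ := CharP.exists K
  haveI : Fact p.Prime := ⟨CharP.char_is_prime K p⟩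
  haveI : NeZero p := ⟨(Fact.out : p.Prime).ne_zero⟩
  obtain ⟨α', β', hαβ'⟩ := CharP.sq_add_sq K p (-1)
  set α : K := (α' : K) with hα
  set β : K := (β' : K) with hβ
  have hαβ : α * α + β * β = -1 := by
    rw [← pow_two, ← pow_two]
    simpa using hαβ'
  have hβ0 : β ≠ 0 := fun h => hneg ⟨α, by rw [← hαβ, h, mul_zero, add_zero]⟩
  have hα0 : α ≠ 0 := fun h => hneg ⟨β, by rw [← hαβ, h, mul_zero, zero_add]⟩
  have hYX : Y * X = -(X * Y) := by rw [hXY, neg_neg]
  set j : Module.End K V := α • X + β • Y with hj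
  set w : Module.End K V := X * Y with hw
  have hjj : j * j = 1 := by
    rw [hj, add_mul, mul_add, mul_add]
    simp only [smul_mul_assoc, mul_smul_comm, smul_smul, hX2, hY2, hYX, smul_neg]
    rw [show α * α = -1 - β * β from by linear_combination hαβ, sub_smul, neg_smul, one_smul, mul_comm β α]
    abel
  have hww : w * w = -1 := by
    show (X * Y) * (X * Y) = -1
    calc (X * Y) * (X * Y) = X * (Y * X) * Y := by simp only [mul_assoc]
      _ = -((X * X) * (Y * Y)) := by rw [hYX]; simp only [hw, mul_neg, neg_mul, mul_assoc]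
      _ = -1 := by rw [hX2, hY2, neg_mul_neg, one_mul]
  have hwX : w * X = Y := by
    rw [hw, mul_assoc, hYX, mul_neg, ← mul_assoc, hX2, neg_mul, neg_neg, one_mul]
  have hXw : X * w = -Y := by rw [hw, ← mul_assoc, hX2, neg_mul, one_mul]
  have hwY : w * Y = -X := by rw [hw, mul_assoc, hY2, mul_neg, mul_one]
  have hYw : Y * w = X := by
    rw [hw, ← mul_assoc, hYX, neg_mul, mul_assoc, hY2, mul_neg, neg_neg, mul_one]
  have hwj : w * j = -(j * w) := by
    rw [hj, mul_add, add_mul]
    simp only [mul_smul_comm, smul_mul_assoc, hwX, hwY, hXw, hYw, smul_neg]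
    abel
  have hXeq : X = -(α • j + β • (j * w)) := by
    rw [hj, add_mul]
    simp only [smul_mul_assoc, hXw, hYw, smul_neg, smul_add, smul_smul]
    rw [show α * α = -1 - β * β from by linear_combination hαβ, sub_smul, neg_smul, one_smul, mul_comm β α]
    abel
  have hYeq : Y = -(β • j - α • (j * w)) := by
    rw [hj, add_mul]
    simp only [smul_mul_assoc, hXw, hYw, smul_neg, smul_add, smul_smul]
    rw [show β * β = -1 - α * α from by linear_combination hαβ, sub_smul, neg_smul, one_smul, mul_comm β α]
    abel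
  -- combinations of the four basic operators
  let q : K → K → K → K → Module.End K V := fun a b c d => a • 1 + b • j + c • w + d • (j * w)
  let Q : Module.End K V → Prop := fun e => ∃ a b c d, e = q a b c d
  have hQX : Q X := ⟨0, -α, 0, -β, by
    conv_lhs => rw [hXeq]
    simp only [q, zero_smul, zero_add, add_zero, neg_smul, neg_add]⟩
  have hQY : Q Y := ⟨0, -β, 0, α, by
    conv_lhs => rw [hYeq]
    simp only [q, zero_smul, zero_add, add_zero, neg_smul, neg_sub]
    abel⟩
  have hQw : Q w := ⟨0, 0, 1, 0, by simp [q]⟩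
  have hQsmul : ∀ e, Q e → ∀ k : K, Q (k • e) := by
    rintro _ ⟨a, b, c, d, rfl⟩ k
    exact ⟨k * a, k * b, k * c, k * d, by simp only [q, smul_add, smul_smul]⟩
  have hQ1 : Q 1 := ⟨1, 0, 0, 0, by simp [q]⟩
  have hQrem : ∀ n, P.Rem n → Q n := by
    intro n hn
    obtain ⟨l, h | h | h | h⟩ := hall n hn <;> rw [h] <;> apply hQsmul
    exacts [hQ1, hQX, hQY, hQw]
  have hwjw : w * (j * w) = j := by rw [← mul_assoc, hwj, neg_mul, mul_assoc, hww, mul_neg, neg_neg, mul_one]
  have hQwl : ∀ e, Q e → Q (w * e) := by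
    rintro _ ⟨a, b, c, d, rfl⟩
    refine ⟨-c, d, a, -b, ?_⟩
    simp only [q, mul_add, mul_smul_comm, mul_one, hwj, hwjw, hww, smul_neg, neg_smul]
    abel
  have hQwr : ∀ e, Q e → Q (e * w) := by
    rintro _ ⟨a, b, c, d, rfl⟩
    refine ⟨-c, -d, a, b, ?_⟩
    simp only [q, add_mul, smul_mul_assoc, one_mul, mul_assoc, hww, smul_neg, neg_smul, mul_neg, mul_one]
    abel
  set η : Module.End K V := (2⁻¹ : K) • (1 + j) with hη
  have hjη : j * η = η := by rw [hη, mul_smul_comm, mul_add, mul_one, hjj, add_comm]
  have hηj : η * j = η := by rw [hη, smul_mul_assoc, add_mul, one_mul, hjj, add_comm]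
  have hηη : η * η = η := by
    conv_lhs => arg 1; rw [hη]
    rw [smul_mul_assoc, add_mul, one_mul, hjη, ← two_smul K η, smul_smul, inv_mul_cancel₀ h2, one_smul]
  have hηjw : η * (j * w) = η * w := by rw [← mul_assoc, hηj]
  have hηwη : η * w * η = 0 := by
    conv_lhs => arg 2; rw [hη]
    rw [mul_smul_comm, mul_add, mul_one, mul_assoc η w j, hwj, mul_neg, hηjw, add_neg_cancel, smul_zero]
  have hQη : ∀ e, Q e → ∃ k : K, η * e * η = k • η := by
    rintro _ ⟨a, b, c, d, rfl⟩
    refine ⟨a + b, ?_⟩
    simp only [q, mul_add, add_mul, mul_smul_comm, smul_mul_assoc, mul_one, hηj, hηjw, hηwη, hηη, smul_zero,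
      add_zero, add_smul]
  have hηapply : ∀ x : V, η x = x → j x = x := fun x hx => by
    rw [← hx]; exact DFunLike.congr_fun hjη x
  have hwx : ∀ x : V, η x = x → j (w x) = -w x := fun x hx => by
    have := DFunLike.congr_fun hwj x
    simp only [Module.End.mul_apply, LinearMap.neg_apply, hηapply x hx] at this
    rw [← neg_eq_iff_eq_neg.mpr this]
  have hwwx : ∀ x : V, w (w x) = -x := fun x => by
    have := DFunLike.congr_fun hww x
    simpa [Module.End.mul_apply] using this
  -- a combination vanishing on a vector and its partner is zero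
  have hindep : ∀ (x : V), η x = x → x ≠ 0 → ∀ s t : K, s • x + t • w x = 0 → s = 0 ∧ t = 0 := by
    intro x hx hx0 s t h
    have h' := congrArg j h
    rw [map_add, map_smul, map_smul, map_zero, hηapply x hx, hwx x hx, smul_neg] at h'
    have hs : (s + s) • x = 0 := by
      have := congrArg₂ (· + ·) h h'
      simp only [add_zero] at this
      rw [add_smul, ← this]; abel
    rw [← two_mul] at hs
    have hs0 : s = 0 := (mul_eq_zero.mp ((smul_eq_zero.mp hs).resolve_right hx0)).resolve_left h2
    rw [hs0, zero_smul, zero_add] at h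
    refine ⟨hs0, (smul_eq_zero.mp h).resolve_right fun hw0 => hx0 ?_⟩
    have := hwwx x
    rw [hw0, map_zero] at this
    exact neg_eq_zero.mp this.symm
  have hqx : ∀ x : V, η x = x → ∀ a b c d, q a b c d x = (a + b) • x + (c - d) • w x := by
    intro x hx a b c d
    simp only [q, LinearMap.add_apply, LinearMap.smul_apply, Module.End.mul_apply, Module.End.one_apply,
      hηapply x hx, hwx x hx, add_smul, sub_smul, smul_neg]
    abel
  have hqy : ∀ x : V, η x = x → ∀ a b c d, q a b c d (w x) = (-c - d) • x + (a - b) • w x := by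
    intro x hx a b c d
    simp only [q, LinearMap.add_apply, LinearMap.smul_apply, Module.End.mul_apply, Module.End.one_apply,
      hwwx, map_neg, hηapply x hx, hwx x hx, neg_smul, sub_smul, smul_neg]
    abel
  have hQeq : ∀ (x : V), η x = x → x ≠ 0 → ∀ e f, Q e → Q f → e x = f x → e (w x) = f (w x) → e = f := by
    rintro x hx hx0 _ _ ⟨a, b, c, d, rfl⟩ ⟨a', b', c', d', rfl⟩ h1 h2'
    rw [hqx x hx, hqx x hx] at h1
    rw [hqy x hx, hqy x hx] at h2'
    obtain ⟨e1, e2⟩ := hindep x hx hx0 ((a + b) - (a' + b')) ((c - d) - (c' - d')) (by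
      rw [← sub_eq_zero.mpr h1, sub_smul (a + b), sub_smul (c - d)]; abel)
    obtain ⟨e3, e4⟩ := hindep x hx hx0 ((-c - d) - (-c' - d')) ((a - b) - (a' - b')) (by
      rw [← sub_eq_zero.mpr h2', sub_smul (-c - d), sub_smul (a - b)]; abel)
    have ha : a = a' := mul_left_cancel₀ h2 (by linear_combination e1 + e4)
    have hb : b = b' := mul_left_cancel₀ h2 (by linear_combination e1 - e4)
    have hc : c = c' := mul_left_cancel₀ h2 (by linear_combination e2 - e3)
    have hd : d = d' := mul_left_cancel₀ h2 (by linear_combination -e2 - e3)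
    rw [ha, hb, hc, hd]
  -- the line property at a vector of the corner
  have hlineX : ∀ (x : V), η x = x → x ≠ 0 → ∀ k : K, X x ≠ k • x ∧ Y x ≠ k • x ∧ w x ≠ k • x := by
    intro x hx hx0 k
    refine ⟨fun h => ?_, fun h => ?_, fun h => ?_⟩
    · rw [hXeq, LinearMap.neg_apply, LinearMap.add_apply, LinearMap.smul_apply, LinearMap.smul_apply,
        Module.End.mul_apply, hηapply x hx, hwx x hx, smul_neg] at h
      exact hβ0 (hindep x hx hx0 (-α - k) β (by rw [sub_smul, neg_smul, ← h]; abel)).2
    · rw [hYeq, LinearMap.neg_apply, LinearMap.sub_apply, LinearMap.smul_apply, LinearMap.smul_apply,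
        Module.End.mul_apply, hηapply x hx, hwx x hx, smul_neg] at h
      exact hα0 (neg_eq_zero.mp (hindep x hx hx0 (-β - k) (-α) (by rw [sub_smul, neg_smul, neg_smul, ← h]; abel)).2)
    · exact one_ne_zero (hindep x hx hx0 (-k) 1 (by rw [one_smul, h, neg_smul, neg_add_cancel])).2
  have hwrem : P.Rem w := Ops.Pre.rem_mul P hX hY
  have hnegrem : (-w) * w = 1 := by rw [neg_mul, hww, neg_neg]
  have hsum2 : η + w * η * -w = 1 := by
    conv_lhs => arg 2; arg 1; arg 2; rw [hη]
    rw [mul_smul_comm, mul_add, mul_one, hwj, smul_mul_assoc, add_mul, neg_mul, mul_neg, hww, mul_neg,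
      mul_assoc, hww, mul_neg, mul_one, hη, neg_neg, neg_neg, ← smul_add,
      show 1 + j + (1 + -j) = (2 : K) • (1 : Module.End K V) by rw [two_smul]; abel,
      smul_smul, inv_mul_cancel₀ h2, one_smul]
  refine ⟨{
    η := η
    z := ![1, w]
    z' := ![1, -w]
    k₀ := 0
    l := 1
    z_zero := rfl
    zz' := fun i => by fin_cases i <;> simp [mul_neg, hww]
    z'z := fun i => by fin_cases i <;> simp [hnegrem]
    idem := hηη
    orth := fun i k hik => by
      fin_cases i <;> fin_cases k <;> simp at hik ⊢ <;> simp [hηwη]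
    sum_eq := by
      rw [Fin.sum_univ_two]
      simpa using hsum2
    comm := fun F hF => ?_
    entries := fun n hn i k => ?_
    line := fun n hn i x hx hx0 hk => ?_
    single := fun h => absurd h (by decide)
    rigid := fun a x hx hx0 _ hmap ha1 ha2 => ?_ }, rfl, rfl, ?_, ?_⟩
  · have hFj : F * j = j * F := by
      rw [hj, mul_add, add_mul, mul_smul_comm, mul_smul_comm, smul_mul_assoc, smul_mul_assoc, hF X hX, hF Y hY]
    have hFw := hF w hwrem
    refine ⟨by rw [hη, mul_smul_comm, smul_mul_assoc, mul_add, add_mul, mul_one, one_mul, hFj], fun i => ?_⟩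
    fin_cases i <;> simp [hFw, mul_neg, neg_mul]
  · refine hQη _ ?_
    have hQn := hQrem n hn
    have hQneg : ∀ e, Q e → Q (-e) := fun e he => by simpa using hQsmul e he (-1)
    fin_cases i <;> fin_cases k <;> simp
    · exact hQn
    · exact hQwr _ hQn
    · exact hQneg _ (hQwl _ hQn)
    · exact hQneg _ (hQwr _ (hQwl _ hQn))
  · obtain ⟨k, hk⟩ := hk
    obtain ⟨l, h | h | h | h⟩ := hall n hn
    · exact ⟨l, h⟩
    all_goals
      by_cases hl : l = 0
      · exact ⟨0, by rw [h, hl, zero_smul, zero_smul]⟩
      exfalso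
      subst h
      rw [LinearMap.smul_apply] at hk
      fin_cases i
    · simp at hk
      exact (hlineX x hx hx0 (l⁻¹ * k)).1 (by rw [← smul_smul, ← hk, smul_smul, inv_mul_cancel₀ hl, one_smul])
    · simp at hk
      refine (hlineX x hx hx0 (-(l⁻¹ * k))).1 ?_
      have e1 : X (w x) = -(w (X x)) := by
        have := DFunLike.congr_fun (show X * w = -(w * X) by rw [hXw, hwX]) x
        simpa using this
      rw [e1] at hk
      have := congrArg w hk
      simp only [map_smul, map_neg, smul_neg, hwwx, neg_neg] at this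
      rw [neg_smul, ← smul_smul, show k • x = -(l • X x) by rw [this, neg_neg], smul_neg, neg_neg, smul_smul,
        inv_mul_cancel₀ hl, one_smul]
    · simp at hk
      exact (hlineX x hx hx0 (l⁻¹ * k)).2.1 (by rw [← smul_smul, ← hk, smul_smul, inv_mul_cancel₀ hl, one_smul])
    · simp at hk
      refine (hlineX x hx hx0 (-(l⁻¹ * k))).2.1 ?_
      have e1 : Y (w x) = -(w (Y x)) := by
        have := DFunLike.congr_fun (show Y * w = -(w * Y) by rw [hYw, hwY, neg_neg]) x
        simpa using this
      rw [e1] at hk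
      have := congrArg w hk
      simp only [map_smul, map_neg, smul_neg, hwwx, neg_neg] at this
      rw [neg_smul, ← smul_smul, show k • x = -(l • Y x) by rw [this, neg_neg], smul_neg, neg_neg, smul_smul,
        inv_mul_cancel₀ hl, one_smul]
    · simp at hk
      exact (hlineX x hx hx0 (l⁻¹ * k)).2.2 (by rw [← smul_smul, ← hk, smul_smul, inv_mul_cancel₀ hl, one_smul])
    · simp at hk
      simp only [hwwx, smul_neg] at hk
      exact hl (hindep x hx hx0 l k (by rw [← hk, add_neg_cancel])).1
  · have hQj : Q j := ⟨0, 1, 0, 0, by simp [q]⟩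
    have hjmap : Q (D.cj a j) := by
      rw [hj, Semi.cj_add, Semi.cj_smul, Semi.cj_smul, hα, hβ, map_natCast, map_natCast]
      obtain ⟨a1, b1, c1, d1, h1⟩ := hQrem _ (hmap X hX)
      obtain ⟨a2, b2, c2, d2, h2'⟩ := hQrem _ (hmap Y hY)
      exact ⟨(α' : K) * a1 + (β' : K) * a2, (α' : K) * b1 + (β' : K) * b2, (α' : K) * c1 + (β' : K) * c2,
        (α' : K) * d1 + (β' : K) * d2, by
          rw [h1, h2']; simp only [q, smul_add, add_smul, smul_smul]; abel⟩
    have ha2' : a • w x = w x := by simpa using ha2
    have ej : D.cj a j = j := by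
      refine hQeq x hx hx0 _ _ hjmap hQj ?_ ?_
      · conv_lhs => rw [← ha1]
        rw [Semi.cj_smul_vec, hηapply x hx, ha1]
      · conv_lhs => rw [← ha2']
        rw [Semi.cj_smul_vec, hwx x hx, smul_neg, ha2']
    have ew : D.cj a w = w := by
      refine hQeq x hx hx0 _ _ (hQrem _ (hmap w hwrem)) hQw ?_ ?_
      · conv_lhs => rw [← ha1]
        rw [Semi.cj_smul_vec, ha2']
      · conv_lhs => rw [← ha2']
        rw [Semi.cj_smul_vec, hwwx, smul_neg, ha1]
    refine ⟨?_, fun i => ?_⟩
    · rw [hη, Semi.cj_smul, Semi.cj_add, Semi.cj_one, ej, map_inv₀, map_ofNat]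
    · fin_cases i
      · simp [Semi.cj_one]
      · simpa using ew
  · intro n hn x hx hx0 hnx
    change η x = x at hx
    change η (n x) = n x at hnx
    have hjx := hηapply x hx
    obtain ⟨l, h | h | h | h⟩ := hall n hn
    · exact ⟨l, h⟩
    all_goals
      by_cases hl : l = 0
      · exact ⟨0, by rw [h, hl, zero_smul, zero_smul]⟩
      exfalso
      have hj' := hηapply _ hnx
      rw [h, LinearMap.smul_apply, map_smul] at hj'
      have hj'' := smul_right_injective V hl hj'
    · rw [hXeq] at hj''
      simp only [LinearMap.neg_apply, LinearMap.add_apply, LinearMap.smul_apply, Module.End.mul_apply, hjx,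
        hwx x hx, map_neg, map_add, map_smul, smul_neg, neg_neg] at hj''
      exact hβ0 (mul_left_cancel₀ h2 (by
        rw [mul_zero]
        exact (hindep x hx hx0 0 (2 * β) (by rw [zero_smul, zero_add, two_mul, add_smul]; linear_combination (norm := module) -hj'')).2))
    · rw [hYeq] at hj''
      simp only [LinearMap.neg_apply, LinearMap.sub_apply, LinearMap.smul_apply, Module.End.mul_apply, hjx,
        hwx x hx, map_neg, map_sub, map_smul, smul_neg, neg_neg] at hj''
      exact hα0 (mul_left_cancel₀ h2 (by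
        rw [mul_zero]
        exact (hindep x hx hx0 0 (2 * α) (by rw [zero_smul, zero_add, two_mul, add_smul]; linear_combination (norm := module) hj'')).2))
    · exact h2 (hindep x hx hx0 0 2 (by
        rw [zero_smul, zero_add, two_smul]
        nth_rw 1 [← hj'']
        rw [hwx x hx, neg_add_cancel])).2
  · intro a π hπc hπ hmap hππ x y hπx hx hx0 hπy hy hy0 hax hay
    change η x = x at hx
    change η y = y at hy
    change a • w y = w y at hay
    obtain ⟨X', hX', hXX⟩ := hmap X hX
    obtain ⟨Y', hY', hYY⟩ := hmap Y hY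
    obtain ⟨W', hW', hWW⟩ := hmap w hwrem
    have hπr : ∀ n, P.Rem n → ∀ v, π v = v → π (n v) = n v := fun n hn v hv => by
      rw [← Module.End.mul_apply, hπc n hn, Module.End.mul_apply, hv]
    have hπj : ∀ v, π v = v → π (j v) = j v := fun v hv => by
      simp only [hj, LinearMap.add_apply, LinearMap.smul_apply, map_add, map_smul, hπr X hX v hv, hπr Y hY v hv]
    have hgπ : ∀ v, π v = v → π (a • v) = a • v := fun v hv => by
      conv_lhs => rw [← hπ]
      rw [Semi.cj_smul_vec, hv]
    -- the image of the involution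
    set J := α • X' + β • Y' with hJ
    have hJj : ∀ v, π v = v → a • j v = J (a • v) := fun v hv => by
      simp only [hj, hJ, LinearMap.add_apply, LinearMap.smul_apply, smul_add, D.semilinear, hXX v hv, hYY v hv,
        hα, hβ, map_natCast]
    obtain ⟨a1, b1, c1, d1, h1⟩ := hQrem _ hX'
    obtain ⟨a2, b2, c2, d2, h2'⟩ := hQrem _ hY'
    have hJq : J = q (α * a1 + β * a2) (α * b1 + β * b2) (α * c1 + β * c2) (α * d1 + β * d2) := by
      rw [hJ, h1, h2']; simp only [q, smul_add, add_smul, smul_smul]; abel
    have hjJ : J = j := by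
      have e1 := hJj x hπx
      rw [hηapply x hx, hax, hJq, hqx x hx] at e1
      have e2 := hJj (w y) (hπr w hwrem y hπy)
      rw [hwx y hy, smul_neg, hay, hJq, hqy y hy] at e2
      obtain ⟨f1, f2⟩ := hindep x hx hx0 (α * a1 + β * a2 + (α * b1 + β * b2) - 1)
        (α * c1 + β * c2 - (α * d1 + β * d2)) (by rw [sub_smul _ (1 : K), one_smul]; linear_combination (norm := module) -e1)
      obtain ⟨f3, f4⟩ := hindep y hy hy0 (-(α * c1 + β * c2) - (α * d1 + β * d2))
        (α * a1 + β * a2 - (α * b1 + β * b2) + 1) (by rw [add_smul _ (1 : K), one_smul]; linear_combination (norm := module) -e2)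
      have hA : α * a1 + β * a2 = 0 := mul_left_cancel₀ h2 (by linear_combination f1 + f4)
      have hB : α * b1 + β * b2 = 1 := mul_left_cancel₀ h2 (by linear_combination f1 - f4)
      have hC : α * c1 + β * c2 = 0 := mul_left_cancel₀ h2 (by linear_combination f2 - f3)
      have hD : α * d1 + β * d2 = 0 := mul_left_cancel₀ h2 (by linear_combination -f2 - f3)
      rw [hJq, hA, hB, hC, hD]
      simp [q]
    have hjc : ∀ v, π v = v → a • j v = j (a • v) := fun v hv => by rw [hJj v hv, hjJ]
    have hπη : π * η = η * π := by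
      rw [hη, hj, mul_smul_comm, smul_mul_assoc]
      simp only [mul_add, add_mul, mul_smul_comm, smul_mul_assoc, mul_one, one_mul, hπc X hX, hπc Y hY]
    refine ⟨?_, ?_⟩
    · show D.cj a (π * η) = π * η
      refine LinearMap.ext fun v => ?_
      have hp : π (π (a⁻¹ • v)) = π (a⁻¹ • v) := DFunLike.congr_fun hππ _
      have hπv : a • π (a⁻¹ • v) = π v := by rw [← D.cj_apply, hπ]
      rw [hπη, D.cj_apply, Module.End.mul_apply, Module.End.mul_apply, hη]
      simp only [LinearMap.smul_apply, LinearMap.add_apply, Module.End.one_apply, D.semilinear, smul_add, map_inv₀,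
        map_ofNat, hjc _ hp, hπv]
    · -- the image of the partner
      have hWj : W' x = -(j (W' x)) := by
        have e1 := hWW (j x) (hπj x hπx)
        have e2 : w (j x) = -(j (w x)) := DFunLike.congr_fun hwj x
        rw [e2, smul_neg, hjc _ (hπr w hwrem x hπx), hWW x hπx, hjc x hπx, hax, hηapply x hx] at e1
        exact e1.symm
      have hW2 : W' (W' x) = -x := by
        rw [← hax, ← hWW x hπx, ← hWW _ (hπr w hwrem x hπx), hwwx, smul_neg]
      obtain ⟨l, h | h | h | h⟩ := hall W' hW'
      all_goals rw [h] at hWj hW2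
      all_goals simp only [LinearMap.smul_apply, Module.End.one_apply, map_smul, hηapply x hx] at hWj hW2
      all_goals
        have hl : l ≠ 0 := fun e => by
          rw [e] at hW2
          simp at hW2
          exact hx0 hW2
        rw [← smul_neg] at hWj
        have hWj' := smul_right_injective V hl hWj
      · refine absurd ?_ hx0
        have e : (2 : K) • x = 0 := by rw [two_smul]; nth_rw 1 [hWj']; rw [neg_add_cancel]
        exact (smul_eq_zero.mp e).resolve_left h2
      · rw [hXeq] at hWj'
        simp only [LinearMap.neg_apply, LinearMap.add_apply, LinearMap.smul_apply, Module.End.mul_apply,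
          hηapply x hx, hwx x hx, map_neg, map_add, map_smul, smul_neg, neg_neg] at hWj'
        exact absurd (mul_left_cancel₀ h2 (by
          rw [mul_zero]
          exact (hindep x hx hx0 (2 * α) 0 (by rw [zero_smul, add_zero, two_mul, add_smul]; linear_combination (norm := module) -hWj')).1)) hα0
      · rw [hYeq] at hWj'
        simp only [LinearMap.neg_apply, LinearMap.sub_apply, LinearMap.smul_apply, Module.End.mul_apply,
          hηapply x hx, hwx x hx, map_neg, map_sub, map_smul, smul_neg, neg_neg] at hWj'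
        exact absurd (mul_left_cancel₀ h2 (by
          rw [mul_zero]
          exact (hindep x hx hx0 (2 * β) 0 (by rw [zero_smul, add_zero, two_mul, add_smul]; linear_combination (norm := module) -hWj')).1)) hβ0
      · rw [hwwx, smul_smul, smul_neg, neg_inj] at hW2
        refine ⟨l, mul_self_eq_one_iff.mp (smul_left_injective K hx0 (hW2.trans (one_smul K x).symm)), fun v hv => ?_⟩
        show a • w v = l • w (a • v)
        rw [hWW v hv, h]
        rfl

end Cfsg.Agent.BaseCop
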