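import Cfsg.Agent.Lib.Grp.BaseCop.TailCases
import Cfsg.Agent.Lib.Grp.BaseCop.Corner
import Cfsg.Agent.Lib.Grp.BaseCop.Quat

/-!
# A pair from a nonabelian set of operators

The corner gives two vectors; when it has too few classes the colours use zero or a tail.
-/

set_option autoImplicit false
set_option linter.style.haveILetI false
set_option linter.unusedSectionVars false

universe u

namespace Cfsg.Agent.BaseCop

open BaseThree (Semi Ops Split Twist chi)
open BaseTwo (HasPair IsIrr)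

section

variable {A V : Type u} {K : Type*} [Group A] [Finite A] [Group.IsSolvable A] [AddCommGroup V] [Finite V]
  [Nontrivial V] [DistribMulAction A V] [Field K] [Finite K] [Module K V] {r : ℕ} {ζ : K} {m : ℕ}

/-- A set of vectors covered by two short orbits of scalars is small. -/
theorem card_le_of_two_classes {n : ℕ} (hn : 0 < n) (U : Submodule K V) (y z : V)
    (hcov : ∀ x ∈ U, x ≠ 0 → ∃ k : K, k ^ n = 1 ∧ (x = k • y ∨ x = k • z)) :
    Nat.card U ≤ 1 + 2 * Nat.card {k : K // k ^ n = 1} := by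
  classical
  haveI := Fintype.ofFinite K
  let S : Finset K := Finset.univ.filter fun k => k ^ n = 1
  have hsub : (U : Set V) ⊆ ↑(insert (0 : V) (S.image (fun k => k • y) ∪ S.image (fun k => k • z))) := by
    intro x hx
    simp only [Finset.coe_insert, Finset.coe_union, Finset.coe_image, Set.mem_insert_iff, Set.mem_union,
      Set.mem_image, Finset.mem_coe]
    by_cases hx0 : x = 0
    · exact Or.inl hx0
    obtain ⟨k, hk, h | h⟩ := hcov x hx hx0
    · exact Or.inr (Or.inl ⟨k, by simp [S, hk], h.symm⟩)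
    · exact Or.inr (Or.inr ⟨k, by simp [S, hk], h.symm⟩)
  have h1 := Nat.card_mono (Finset.finite_toSet _) hsub
  rw [Nat.card_coe_set_eq, Nat.card_coe_set_eq, Set.ncard_coe_finset, ← Nat.card_coe_set_eq] at h1
  refine le_trans h1 (le_trans (Finset.card_insert_le _ _) ?_)
  have hS : S.card = Nat.card {k : K // k ^ n = 1} := by
    rw [Nat.card_eq_fintype_card, Fintype.card_subtype]
  have h2 := Finset.card_union_le (S.image (fun k => k • y)) (S.image (fun k => k • z))
  have h3 := Finset.card_image_le (s := S) (f := fun k => k • y)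
  have h4 := Finset.card_image_le (s := S) (f := fun k => k • z)
  omega

theorem card_roots_le {n : ℕ} (hn : 0 < n) : Nat.card {k : K // k ^ n = 1} ≤ n := by
  classical
  haveI := Fintype.ofFinite K
  rw [Nat.card_eq_fintype_card, Fintype.card_subtype]
  refine le_trans (Finset.card_le_card fun k hk => ?_) ((Multiset.toFinset_card_le _).trans
    (Polynomial.card_nthRoots n (1 : K)))
  rw [Multiset.mem_toFinset, Polynomial.mem_nthRoots hn]
  exact (Finset.mem_filter.mp hk).2

theorem card_field_le (U : Submodule K V) {y : V} (hy : y ∈ U) (hy0 : y ≠ 0) : Nat.card K ≤ Nat.card U :=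
  Nat.card_le_card_of_injective (fun k : K => (⟨k • y, U.smul_mem k hy⟩ : U))
    fun k l h => smul_left_injective K hy0 (congrArg Subtype.val h)

/-- A plane inside. -/
theorem card_sq_le (U : Submodule K V) {y z : V} (hy : y ∈ U) (hy0 : y ≠ 0) (hz : z ∈ U)
    (h : ∀ k : K, z ≠ k • y) : Nat.card K * Nat.card K ≤ Nat.card U := by
  rw [← Nat.card_prod]
  refine Nat.card_le_card_of_injective (fun kl : K × K => (⟨kl.1 • y + kl.2 • z, U.add_mem (U.smul_mem _ hy) (U.smul_mem _ hz)⟩ : U))
    fun kl kl' e => ?_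
  obtain ⟨k, l⟩ := kl
  obtain ⟨k', l'⟩ := kl'
  have e' : k • y + l • z = k' • y + l' • z := congrArg Subtype.val e
  by_cases hl : l = l'
  · subst hl
    rw [smul_left_injective K hy0 (add_right_cancel e')]
  · refine absurd ?_ (h ((l - l')⁻¹ * (k' - k)))
    rw [← smul_smul, sub_smul k', ← eq_sub_of_add_eq' (show k • y + (l - l') • z = k' • y by
      rw [sub_smul, ← add_sub_assoc, e', add_sub_cancel_right]), smul_smul, inv_mul_cancel₀ (sub_ne_zero.mpr hl),
      one_smul]

/-- The characteristic and the order of the field. -/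
theorem field_card {p : ℕ} (hp : p.Prime) (hpV : ∀ x : V, p • x = 0) :
    CharP K p ∧ ∃ e : ℕ, e ≠ 0 ∧ Nat.card K = p ^ e := by
  obtain ⟨v, hv⟩ := exists_ne (0 : V)
  have h : (p : K) • v = 0 := by rw [Nat.cast_smul_eq_nsmul, hpV]
  have hch : CharP K p := (CharP.charP_iff_prime_eq_zero hp).mpr ((smul_eq_zero.mp h).resolve_right hv)
  haveI := hch
  haveI := Fintype.ofFinite K
  obtain ⟨e, -, he⟩ := FiniteField.card K p
  exact ⟨hch, e, e.ne_zero, by rw [Nat.card_eq_fintype_card, he]⟩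

theorem eq_of_pow_le {p e b : ℕ} (he : e ≠ 0) (h : p ^ e ≤ b) (hb : b < p * p) (hp : 1 ≤ p) : p ^ e = p := by
  rcases Nat.lt_or_ge e 2 with h' | h'
  · rw [show e = 1 by omega, pow_one]
  · have := Nat.pow_le_pow_right hp h'
    rw [pow_two] at this
    omega

variable {O : Ops K (Module.End K V) r ζ} (P : O.Pre m) (D : Semi A V K)
  (hmap : ∀ (a : A), ∀ e ∈ O.carrier, D.cj a e ∈ O.carrier)

include hmap

/-- Only scalars beside the frame. -/
theorem hasPair_trivial [Fact r.Prime] (h : ∀ n, P.Rem n → ∃ l : K, n = l • 1) (hirr : IsIrr A V) (hm : m ≠ 0)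
    {p : ℕ} (hp : p.Prime) (hp3 : 3 ≤ p) (hpV : ∀ x : V, p • x = 0)
    (hcop : (Nat.card A).Coprime (Nat.card V)) {n : ℕ} (hn : Nat.card V ≤ n + 1) (IH : ModHyp.{u} n) :
    HasPair A V := by
  classical
  obtain ⟨hchar, e, he, hcard⟩ := field_card (K := K) hp hpV
  have h2 : (2 : K) ≠ 0 := fun h2 => by
    have := Nat.le_of_dvd two_pos ((CharP.cast_eq_zero_iff K p 2).mp (by exact_mod_cast h2))
    omega
  let S : Split O.carrier (Fin m → ZMod r) :=
    { P := P.proj
      s := P.S
      s' := fun c => P.S (-c)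
      j₀ := 0
      s_zero := P.S_zero
      hs := P.S_mul_neg
      hs' := P.S_neg_mul
      idem := Ops.Pre.proj_idem P
      orth := fun c c' hcc => by
        rw [← P.S_add]
        exact Ops.Pre.proj_S_proj P fun e => hcc (neg_add_eq_zero.mp e)
      sum_eq := Ops.Pre.sum_proj P
      entries := fun e he' i j => by
        obtain ⟨c, d, n', hn', rfl⟩ := P.decomp he'
        obtain ⟨l, rfl⟩ := h n' hn'
        have e1 : P.S (-i) * (P.S c * P.D d * (l • 1)) * P.S j =
            (l * chi ζ (d ⬝ᵥ j)) • (P.S (-i + c + j) * P.D d) := by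
          rw [mul_smul_comm, mul_one, mul_smul_comm, smul_mul_assoc, P.S_add, P.S_add, mul_assoc, mul_assoc (P.S c),
            P.DS, mul_smul_comm, mul_smul_comm, smul_smul]
          simp only [mul_assoc]
        refine ⟨if -i + c + j = 0 then l * chi ζ (d ⬝ᵥ j) else 0, ?_⟩
        rw [e1, mul_smul_comm, smul_mul_assoc, ← mul_assoc, mul_assoc _ (P.D d), Ops.Pre.D_proj P]
        split_ifs with h0
        · rw [h0, P.S_zero, mul_one, Ops.Pre.proj_idem P]
        · rw [Ops.Pre.proj_S_proj P h0, smul_zero, zero_smul]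
      gen := fun F hF => ⟨Ops.Pre.proj_comm P fun d => hF _ (P.D_mem d), fun c => hF _ (P.S_mem c)⟩ }
  have hJ : 2 ≤ Fintype.card (Fin m → ZMod r) := by
    rw [Fintype.card_fun, ZMod.card, Fintype.card_fin]
    exact le_trans (Fact.out : r.Prime).two_le (Nat.le_self_pow hm r)
  obtain ⟨u₀, u₁, hu₀, hu₁, hu₀0, hu₁0, hcorner⟩ :=
    exists_corner_pair D S hmap hirr hJ hp hp3 hpV hcop hn IH
  have hfree : ∀ x, P.proj x = x → x ≠ 0 → Free P x := fun x _ hx n' hn' e => by
    obtain ⟨l, rfl⟩ := h n' hn'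
    rw [LinearMap.smul_apply, Module.End.one_apply] at e
    rw [smul_left_injective K hx (e.trans (one_smul K x).symm), one_smul]
  have hR : Rigid P D u₀ u₁ := ⟨hu₀, hu₀0, hfree _ hu₀ hu₀0, hu₁, hu₁0,
    fun g hg _ h0 h1 => hcorner g hg h0 (Or.inl h1)⟩
  have hrelk : ∀ x y, Rel P x y →
      ∃ k : K, ((k • (1 : Module.End K V)) ^ r = 1 ∨ (r = 2 ∧ (k • (1 : Module.End K V)) ^ r = -1)) ∧ y = k • x := by
    rintro x y ⟨n', ⟨hn', hnorm⟩, rfl⟩
    obtain ⟨l, rfl⟩ := h n' hn'
    exact ⟨l, hnorm, by rw [LinearMap.smul_apply, Module.End.one_apply]⟩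
  have hEnd : ∀ a b : K, a • (1 : Module.End K V) = b • 1 → a = b := fun a b h => by
    obtain ⟨v, hv⟩ := exists_ne (0 : V)
    exact smul_left_injective K hv (DFunLike.congr_fun h v)
  by_cases hr : r = 2
  swap
  · -- odd exponent
    have hnr : ∀ x y, x ≠ 0 → y = -x → ¬ Rel P x y := by
      rintro x y hx rfl hrel
      obtain ⟨k, hk, hkx⟩ := hrelk _ _ hrel
      obtain rfl : k = -1 := smul_left_injective K hx (hkx.symm.trans (neg_one_smul K x).symm)
      have h1 := hk.resolve_right fun h => hr h.1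
      rw [smul_pow, one_pow, ((Fact.out : r.Prime).odd_of_ne_two hr).neg_one_pow] at h1
      exact h2 (by linear_combination -(hEnd _ _ (h1.trans (one_smul K _).symm)))
    have hneg : P.proj (-u₁) = -u₁ := by rw [map_neg, show P.proj u₁ = u₁ from hu₁]
    rcases Nat.lt_or_ge m 2 with hm' | hm'
    · exact hasPair_line hmap hR (by omega) hr h2 u₁ (-u₁) hu₁ hneg (hfree _ hu₁ hu₁0)
        (hfree _ hneg (neg_ne_zero.mpr hu₁0)) (hnr _ _ hu₁0 rfl)
    · exact hasPair_zero hmap hR h2 hm' (fun h => absurd h hr) u₁ (-u₁) hu₁ hneg (hfree _ hu₁ hu₁0)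
        (hfree _ hneg (neg_ne_zero.mpr hu₁0)) (hnr _ _ hu₁0 rfl) (hnr _ _ (neg_ne_zero.mpr hu₁0) (neg_neg u₁).symm)
  subst hr
  -- classes of the corner
  have hrel4 : ∀ x y, Rel P x y → ∃ k : K, k ^ 4 = 1 ∧ y = k • x := by
    intro x y hxy
    obtain ⟨k, hk, hy⟩ := hrelk x y hxy
    refine ⟨k, ?_, hy⟩
    rw [smul_pow, one_pow] at hk
    rcases hk with hk | ⟨-, hk⟩
    · rw [show 4 = 2 * 2 from rfl, pow_mul, hEnd _ _ (hk.trans (one_smul K _).symm), one_pow]
    · rw [show 4 = 2 * 2 from rfl, pow_mul, hEnd (k ^ 2) (-1) (by rw [hk, neg_one_smul]), neg_one_sq]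
  let R4 : V → V → Prop := fun x y => ∃ k : K, k ^ 4 = 1 ∧ y = k • x
  have hR4symm : ∀ x y, R4 x y → R4 y x := by
    rintro x y ⟨k, hk, rfl⟩
    have hk0 : k ≠ 0 := fun h => by simp [h] at hk
    exact ⟨k⁻¹, by rw [inv_pow, hk, inv_one], by rw [smul_smul, inv_mul_cancel₀ hk0, one_smul]⟩
  let U : Submodule K V := LinearMap.eqLocus P.proj 1
  have hUmem : ∀ x, x ∈ U ↔ P.proj x = x := fun x => Iff.rfl
  by_cases h3 : ∃ val : Fin 3 → V, (∀ i, P.proj (val i) = val i ∧ val i ≠ 0) ∧ ∀ i j, R4 (val i) (val j) → i = j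
  · obtain ⟨val, hval, hdist⟩ := h3
    exact hasPair_three hmap hR h2 val (fun i => (hval i).1) (fun i => hfree _ (hval i).1 (hval i).2)
      fun i j hij => hdist i j (hrel4 _ _ hij)
  have hthree : ∀ x y z, x ∈ U → y ∈ U → z ∈ U → x ≠ 0 → y ≠ 0 → z ≠ 0 → ¬ R4 y z → R4 y x ∨ R4 z x := by
    intro x y z hx hy hz hx0 hy0 hz0 hyz
    by_contra hno
    push Not at hno
    refine h3 ⟨![x, y, z], fun i => ?_, fun i j hij => ?_⟩
    · fin_cases i
      exacts [⟨hx, hx0⟩, ⟨hy, hy0⟩, ⟨hz, hz0⟩]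
    · fin_cases i <;> fin_cases j <;> first | rfl | exfalso
      · exact hno.1 (hR4symm _ _ hij)
      · exact hno.2 (hR4symm _ _ hij)
      · exact hno.1 hij
      · exact hyz hij
      · exact hno.2 hij
      · exact hyz (hR4symm _ _ hij)
  have hA3 : p = 3 → ¬ 3 ∣ Nat.card A := fun e => by
    subst e
    exact not_dvd_card hcop hp hu₀0 (hpV u₀)
  by_cases htwo : ∃ y z, y ∈ U ∧ z ∈ U ∧ y ≠ 0 ∧ z ≠ 0 ∧ ¬ R4 y z
  · obtain ⟨y, z, hy, hz, hy0, hz0, hyz⟩ := htwo
    have hsymm : ¬ R4 z y := fun h => hyz (hR4symm _ _ h)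
    by_cases hp3' : p = 3
    · rcases Nat.lt_or_ge m 2 with hm' | hm'
      · exact hasPair_const hmap hR rfl (by omega)
      rcases Nat.lt_or_ge m 3 with hm'' | hm''
      · obtain rfl : m = 2 := by omega
        exact hasPair_two hmap hR rfl (hA3 hp3') h2 y z hy hz (hfree _ hy hy0) hz0
          fun h => hsymm (hrel4 _ _ h)
      · exact hasPair_zero hmap hR h2 hm' (fun _ => hm'') y z hy hz (hfree _ hy hy0) (hfree _ hz hz0)
          (fun h => hyz (hrel4 _ _ h)) fun h => hsymm (hrel4 _ _ h)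
    · exfalso
      have hU9 := card_le_of_two_classes (n := 4) (by norm_num) U y z fun x hx hx0 => by
        rcases hthree x y z hx hy hz hx0 hy0 hz0 hyz with ⟨k, hk, e⟩ | ⟨k, hk, e⟩
        exacts [⟨k, hk, Or.inl e⟩, ⟨k, hk, Or.inr e⟩]
      have hroots := card_roots_le (K := K) (n := 4) (by norm_num)
      have hKU := card_field_le U hy hy0
      have hp5 : 5 ≤ p := by
        rcases Nat.lt_or_ge p 5 with h5 | h5
        · interval_cases p
          · exact absurd rfl hp3'
          · norm_num at hp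
        · exact h5
      have hq : Nat.card K = p := by
        rw [hcard]
        exact eq_of_pow_le he (b := 9) (by rw [← hcard]; omega) (by nlinarith) hp.one_le
      obtain ⟨k, hk⟩ : ∃ k : K, z = k • y := by
        by_contra hno
        push Not at hno
        have := card_sq_le U hy hy0 hz hno
        rw [hq] at this
        nlinarith
      have hk0 : k ≠ 0 := fun h => hz0 (by rw [hk, h, zero_smul])
      have hfer : ∀ x : K, x ≠ 0 → x ^ (p - 1) = 1 := fun x hx => by
        haveI := Fintype.ofFinite K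
        rw [← hq, Nat.card_eq_fintype_card]
        exact FiniteField.pow_card_sub_one_eq_one x hx
      have hp9 : p ≤ 9 := by omega
      interval_cases p
      · exact hyz ⟨k, hfer k hk0, hk⟩
      · norm_num at hp
      · have h2roots : Nat.card {k : K // k ^ 4 = 1} ≤ 2 := by
          refine le_trans (Nat.card_le_card_of_injective (fun x : {k : K // k ^ 4 = 1} =>
            (⟨x.1, by
              have hx0 : x.1 ≠ 0 := fun h => by simpa [h] using x.2
              have h6 : x.1 ^ 6 = 1 := hfer _ hx0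
              rw [show 6 = 4 + 2 from rfl, pow_add, x.2, one_mul] at h6
              exact h6⟩ : {k : K // k ^ 2 = 1})) fun a b h => Subtype.ext (congrArg (·.1) h))
            (card_roots_le (by norm_num))
        omega
      · norm_num at hp
      · norm_num at hp
  -- one class
  push Not at htwo
  have hline : ∀ x ∈ U, x ≠ 0 → ∃ k : K, k ^ 4 = 1 ∧ x = k • u₀ := fun x hx hx0 =>
    htwo u₀ x hu₀ hx hu₀0 hx0
  have hU5 : Nat.card U ≤ 5 := by
    classical
    haveI := Fintype.ofFinite K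
    have hroots := card_roots_le (K := K) (n := 4) (by norm_num)
    rw [Nat.card_eq_fintype_card, Fintype.card_subtype] at hroots
    have hsub : (U : Set V) ⊆ ↑(insert (0 : V) ((Finset.univ.filter fun k : K => k ^ 4 = 1).image fun k => k • u₀)) := by
      intro x hx
      simp only [Finset.coe_insert, Finset.coe_image, Set.mem_insert_iff, Set.mem_image, Finset.mem_coe,
        Finset.mem_filter, Finset.mem_univ, true_and]
      by_cases hx0 : x = 0
      · exact Or.inl hx0
      · obtain ⟨k, hk, e⟩ := hline x hx hx0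
        exact Or.inr ⟨k, hk, e.symm⟩
    have h1 := Nat.card_mono (Finset.finite_toSet _) hsub
    rw [Nat.card_coe_set_eq, Nat.card_coe_set_eq, Set.ncard_coe_finset, ← Nat.card_coe_set_eq] at h1
    refine le_trans h1 (le_trans (Finset.card_insert_le _ _) ?_)
    have h3' := Finset.card_image_le (s := Finset.univ.filter fun k : K => k ^ 4 = 1) (f := fun k => k • u₀)
    omega
  have hKU := card_field_le U (show u₀ ∈ U from hu₀) hu₀0
  have hq : Nat.card K = p := by
    rw [hcard]
    exact eq_of_pow_le he (b := 5) (by rw [← hcard]; omega) (by nlinarith) hp.one_le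
  have hline' : ∀ v, P.proj v = v → ∃ k : K, v = k • u₀ := fun v hv => by
    by_cases hv0 : v = 0
    · exact ⟨0, by rw [hv0, zero_smul]⟩
    · obtain ⟨k, -, e⟩ := hline v hv hv0
      exact ⟨k, e⟩
  rcases Nat.lt_or_ge m 2 with hm' | hm'
  · exact hasPair_const hmap hR rfl (by omega)
  obtain ⟨m', rfl⟩ : ∃ m', m = m' + 2 := ⟨m - 2, by omega⟩
  have hp5 : p ≤ 5 := by omega
  interval_cases p
  · exact hasPair_tail_three P D hmap u₀ hu₀ hu₀0 hq h hline' h2 (hA3 rfl)
  · norm_num at hp
  · exact hasPair_tail_five P D hmap u₀ hu₀ hu₀0 hq h hline' h2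

/-- A quaternion pair beside the frame. -/
theorem hasPair_quat [Fact r.Prime] (hr : r = 2) (h2 : (2 : K) ≠ 0) (hneg : ¬ IsSquare (-1 : K))
    (X Y : Module.End K V) (hX : P.Rem X) (hY : P.Rem Y) (hX2 : X * X = -1) (hY2 : Y * Y = -1)
    (hXY : X * Y = -(Y * X))
    (hall : ∀ n, P.Rem n → ∃ l : K, n = l • 1 ∨ n = l • X ∨ n = l • Y ∨ n = l • (X * Y))
    (hirr : IsIrr A V) {p : ℕ} (hp : p.Prime) (hp3 : 3 ≤ p) (hpV : ∀ x : V, p • x = 0)
    (hcop : (Nat.card A).Coprime (Nat.card V)) {n : ℕ} (hn : Nat.card V ≤ n + 1) (IH : ModHyp.{u} n) :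
    HasPair A V := by
  classical
  subst hr
  obtain ⟨hchar, e, he, hcard⟩ := field_card (K := K) hp hpV
  obtain ⟨T, hk₀, hl, hU, hrig⟩ := exists_quat D P h2 hneg X Y hX hY hX2 hY2 hXY hall
  let I := Fin m → ZMod 2
  let κ := Fin 2
  set π := P.proj with hπ
  have hremπ : ∀ F, (∀ d, F * P.D d = P.D d * F) → F * π = π * F := fun F hF => Ops.Pre.proj_comm P hF
  -- the twist commutes with the frame
  have hTD : ∀ d, (P.D d * T.η = T.η * P.D d) ∧ ∀ i, P.D d * T.z i = T.z i * P.D d ∧ P.D d * T.z' i = T.z' i * P.D d :=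
    fun d => T.comm (P.D d) fun n hn => hn.2.1 d
  have hTS : ∀ c, (P.S c * T.η = T.η * P.S c) ∧ ∀ i, P.S c * T.z i = T.z i * P.S c ∧ P.S c * T.z' i = T.z' i * P.S c :=
    fun c => T.comm (P.S c) fun n hn => hn.2.2 c
  have cπη : T.η * π = π * T.η := hremπ _ fun d => ((hTD d).1).symm
  have cπz : ∀ i, T.z i * π = π * T.z i := fun i => hremπ _ fun d => (((hTD d).2 i).1).symm
  have cπz' : ∀ i, T.z' i * π = π * T.z' i := fun i => hremπ _ fun d => (((hTD d).2 i).2).symm
  -- move everything of the twist to the outside of the projection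
  have hsand : ∀ (c : I) (i j : κ) (F : Module.End K V), (∀ d, F * P.D d = P.D d * F) →
      π * T.η * (T.z' i * (P.S c * F) * T.z j) * (π * T.η) =
        (π * P.S c * π) * (T.η * (T.z' i * F * T.z j) * T.η) := by
    intro c i j F hF
    calc π * T.η * (T.z' i * (P.S c * F) * T.z j) * (π * T.η)
        = π * (T.η * T.z' i) * P.S c * (F * T.z j * π) * T.η := by simp only [mul_assoc]
      _ = π * (P.S c * (T.η * T.z' i)) * (π * (F * T.z j)) * T.η := by
          rw [show F * T.z j * π = π * (F * T.z j) by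
            rw [mul_assoc, cπz, ← mul_assoc, hremπ F hF, mul_assoc]]
          simp only [mul_assoc]
          rw [← mul_assoc (P.S c) T.η, (hTS c).1, mul_assoc T.η, ← mul_assoc (P.S c) (T.z' i), ((hTS c).2 i).2,
            mul_assoc (T.z' i)]
      _ = π * P.S c * ((T.η * T.z' i) * π) * (F * T.z j * T.η) := by simp only [mul_assoc]
      _ = π * P.S c * (π * (T.η * T.z' i)) * (F * T.z j * T.η) := by
          rw [show (T.η * T.z' i) * π = π * (T.η * T.z' i) by rw [mul_assoc, cπz', ← mul_assoc, cπη, mul_assoc]]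
      _ = _ := by simp only [mul_assoc]
  have hidemP : π * T.η * (π * T.η) = π * T.η := by
    rw [mul_assoc, ← mul_assoc T.η, cπη, mul_assoc, T.idem, ← mul_assoc, Ops.Pre.proj_idem P]
  let S : Split O.carrier (I × κ) :=
    { P := π * T.η
      s := fun p => P.S p.1 * T.z p.2
      s' := fun p => T.z' p.2 * P.S (-p.1)
      j₀ := (0, T.k₀)
      s_zero := by rw [P.S_zero, T.z_zero, mul_one]
      hs := fun p => by rw [mul_assoc, ← mul_assoc (T.z p.2), T.zz', one_mul, P.S_mul_neg]
      hs' := fun p => by rw [mul_assoc, ← mul_assoc (P.S _), P.S_neg_mul, one_mul, T.z'z]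
      idem := hidemP
      orth := fun p q hpq => by
        rw [show T.z' p.2 * P.S (-p.1) * (P.S q.1 * T.z q.2) = T.z' p.2 * (P.S (-p.1 + q.1) * 1) * T.z q.2 by
          rw [mul_one, P.S_add]; simp only [mul_assoc], hsand _ _ _ _ (fun d => by rw [one_mul, mul_one]),
          mul_one]
        by_cases hc : -p.1 + q.1 = 0
        · have : p.2 ≠ q.2 := fun e => hpq (Prod.ext (neg_add_eq_zero.mp hc) e)
          rw [T.orth _ _ this, mul_zero]
        · rw [Ops.Pre.proj_S_proj P hc, zero_mul]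
      sum_eq := by
        rw [Fintype.sum_prod_type]
        calc ∑ c : I, ∑ i, P.S c * T.z i * (π * T.η) * (T.z' i * P.S (-c))
            = ∑ c : I, P.S c * π * (∑ i, T.z i * T.η * T.z' i) * P.S (-c) := by
              refine Finset.sum_congr rfl fun c _ => ?_
              rw [Finset.mul_sum, Finset.sum_mul]
              refine Finset.sum_congr rfl fun i _ => ?_
              rw [show P.S c * T.z i * (π * T.η) = P.S c * (T.z i * π) * T.η by simp only [mul_assoc], cπz]
              simp only [mul_assoc]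
          _ = 1 := by rw [T.sum_eq]; simp only [mul_one]; exact Ops.Pre.sum_proj P
      entries := fun e he p q => by
        obtain ⟨c, d, n, hn, rfl⟩ := P.decomp he
        obtain ⟨k, hk⟩ := T.entries n hn p.2 q.2
        refine ⟨(if -p.1 + c + q.1 = 0 then k * chi ζ (d ⬝ᵥ q.1) else 0), ?_⟩
        have e1 : T.z' p.2 * P.S (-p.1) * (P.S c * P.D d * n) * (P.S q.1 * T.z q.2) =
            chi ζ (d ⬝ᵥ q.1) • (T.z' p.2 * (P.S (-p.1 + c + q.1) * (P.D d * n)) * T.z q.2) := by
          rw [P.S_add, P.S_add]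
          calc T.z' p.2 * P.S (-p.1) * (P.S c * P.D d * n) * (P.S q.1 * T.z q.2)
              = T.z' p.2 * (P.S (-p.1) * P.S c) * (P.D d * (n * P.S q.1)) * T.z q.2 := by simp only [mul_assoc]
            _ = T.z' p.2 * (P.S (-p.1) * P.S c) * ((P.D d * P.S q.1) * n) * T.z q.2 := by
                rw [← hn.2.2, mul_assoc (P.D d)]
            _ = _ := by
                rw [P.DS]
                simp only [smul_mul_assoc, mul_smul_comm, mul_assoc]
        rw [e1, mul_smul_comm, smul_mul_assoc, hsand _ _ _ _ (fun d' => by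
          rw [mul_assoc, ← hn.2.1, ← mul_assoc, P.D_comm, mul_assoc])]
        split_ifs with h0
        · rw [h0, P.S_zero, mul_one, Ops.Pre.proj_idem P]
          rw [show T.z' p.2 * (P.D d * n) * T.z q.2 = P.D d * (T.z' p.2 * n * T.z q.2) by
            rw [← mul_assoc (T.z' p.2), ← ((hTD d).2 p.2).2]; simp only [mul_assoc],
            show T.η * (P.D d * (T.z' p.2 * n * T.z q.2)) * T.η =
              P.D d * (T.η * (T.z' p.2 * n * T.z q.2) * T.η) by
            rw [← mul_assoc T.η, ← (hTD d).1]; simp only [mul_assoc],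
            hk, ← mul_assoc, Ops.Pre.proj_D P, mul_smul_comm, smul_smul, mul_comm k]
        · rw [Ops.Pre.proj_S_proj P h0, zero_mul, smul_zero, zero_smul]
      gen := fun F hF => by
        obtain ⟨hη, hz⟩ := T.comm F fun n hn => hF n hn.1
        refine ⟨?_, fun p => ?_⟩
        · rw [← mul_assoc, hremπ F fun d => hF _ (P.D_mem d), mul_assoc, hη, ← mul_assoc]
        · rw [← mul_assoc, hF _ (P.S_mem p.1), mul_assoc, (hz p.2).1, ← mul_assoc] }
  have hJ : 2 ≤ Fintype.card (I × κ) := by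
    rw [Fintype.card_prod, Fintype.card_fin]
    exact Nat.le_mul_of_pos_left _ Fintype.card_pos
  obtain ⟨u₀, u₁, hu₀, hu₁, hu₀0, hu₁0, hcorner⟩ :=
    exists_corner_pair D S hmap hirr hJ hp hp3 hpV hcop hn IH
  have hππ := Ops.Pre.proj_idem P
  have hsplit : ∀ x, S.P x = x → π x = x ∧ T.η x = x := fun x hx => by
    constructor
    · conv_lhs => rw [← hx]
      conv_rhs => rw [← hx]
      show (π * (π * T.η)) x = (π * T.η) x
      rw [← mul_assoc, hππ]
    · conv_lhs => rw [← hx]
      conv_rhs => rw [← hx]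
      show (T.η * (π * T.η)) x = (π * T.η) x
      rw [← mul_assoc, cπη, mul_assoc, T.idem]
  have hjoin : ∀ x, π x = x → T.η x = x → S.P x = x := fun x h1 h2' => by
    show π (T.η x) = x
    rw [h2', h1]
  obtain ⟨hπu₀, hηu₀⟩ := hsplit u₀ hu₀
  obtain ⟨hπu₁, hηu₁⟩ := hsplit u₁ hu₁
  have hz0 : T.z T.k₀ = 1 := T.z_zero
  have hfree : ∀ x, π x = x → T.η x = x → x ≠ 0 → Free P x := fun x _ hx hx0 n' hn' e => by
    obtain ⟨k, rfl⟩ := T.line n' hn' T.k₀ x hx hx0 ⟨1, by rw [hz0, Module.End.one_apply, e, one_smul]⟩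
    rw [LinearMap.smul_apply, Module.End.one_apply] at e
    rw [smul_left_injective K hx0 (e.trans (one_smul K x).symm), one_smul]
  have hzinj : Function.Injective (T.z T.l) := fun x y h => by
    have := congrArg (T.z' T.l) h
    rw [← Module.End.mul_apply, ← Module.End.mul_apply, T.z'z] at this
    simpa using this
  have hπz : ∀ i x, π x = x → π (T.z i x) = T.z i x := by
    intro i x hx
    have := DFunLike.congr_fun (cπz i) x
    rw [Module.End.mul_apply, Module.End.mul_apply, hx] at this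
    exact this.symm
  have hR : Rigid P D u₀ (T.z T.l u₁) := by
    refine ⟨hπu₀, hu₀0, hfree _ hπu₀ hηu₀ hu₀0, hπz _ _ hπu₁, fun h => hu₁0 (hzinj (h.trans (map_zero _).symm)),
      fun g hg hrem h0 h1 y hy => ?_⟩
    obtain ⟨hgP, s, hs, hgs⟩ := hrig g π (fun n' hn' => (Ops.Pre.proj_comm P fun d => (hn'.2.1 d).symm).symm)
      hg hrem hππ u₀ u₁ hπu₀ hηu₀ hu₀0 hπu₁ hηu₁ hu₁0 h0 h1
    have hgu : s • (g • u₁) = u₁ := hzinj (by rw [map_smul, ← hgs u₁ hπu₁, h1])
    have hgu' : g • u₁ = u₁ ∨ g • u₁ = -u₁ := by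
      rcases hs with rfl | rfl
      · exact Or.inl (by rwa [one_smul] at hgu)
      · exact Or.inr (by rw [neg_one_smul] at hgu; exact neg_eq_iff_eq_neg.mp hgu)
    have hfix := hcorner g hgP h0 hgu'
    obtain rfl : s = 1 := by
      rw [hfix u₁ hu₁] at hgu
      exact smul_left_injective K hu₁0 (hgu.trans (one_smul K u₁).symm)
    have hpart : ∀ i, S.P (π (T.η (T.z' i y))) = π (T.η (T.z' i y)) := fun i => DFunLike.congr_fun S.idem _
    have hdec : y = ∑ i, T.z i (π (T.η (T.z' i y))) := by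
      have e1 := DFunLike.congr_fun T.sum_eq y
      simp only [LinearMap.sum_apply, Module.End.mul_apply, Module.End.one_apply] at e1
      conv_lhs => rw [← hy, ← e1, map_sum]
      refine Finset.sum_congr rfl fun i _ => ?_
      rw [← Module.End.mul_apply, ← cπz i, Module.End.mul_apply]
    rw [hdec, Finset.smul_sum]
    refine Finset.sum_congr rfl fun i _ => ?_
    have hi : i = T.k₀ ∨ i = T.l := by rw [hk₀, hl]; revert i; decide
    rcases hi with rfl | rfl
    · rw [hz0, Module.End.one_apply, hfix _ (hpart _)]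
    · rw [hgs _ (hsplit _ (hpart _)).1, one_smul, hfix _ (hpart _)]
  let U : Submodule K V := LinearMap.eqLocus S.P 1
  let R2 : V → V → Prop := fun x y => y = x ∨ y = -x
  have hrel2 : ∀ x y, S.P x = x → S.P y = y → x ≠ 0 → y ≠ 0 → Rel P x y → R2 x y := by
    rintro x y hx hy hx0 hy0 ⟨n', ⟨hn', hnorm⟩, rfl⟩
    obtain ⟨k, rfl⟩ := hU n' hn' x (hsplit x hx).2 hx0 (hsplit _ hy).2
    have hEnd : ∀ a b : K, a • (1 : Module.End K V) = b • 1 → a = b := fun a b h =>
      smul_left_injective K hx0 (DFunLike.congr_fun h x)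
    rw [smul_pow, one_pow] at hnorm
    have hk1 : k * k = 1 := by
      rcases hnorm with h | ⟨-, h⟩
      · rw [← pow_two]
        exact hEnd _ _ (h.trans (one_smul K _).symm)
      · exact absurd ⟨k, by rw [← pow_two]; exact (hEnd (k ^ 2) (-1) (by rw [h, neg_one_smul])).symm⟩ hneg
    rcases mul_self_eq_one_iff.mp hk1 with rfl | rfl <;>
      simp [R2, LinearMap.smul_apply, Module.End.one_apply]
  by_cases h3 : ∃ val : Fin 3 → V, (∀ i, S.P (val i) = val i ∧ val i ≠ 0) ∧ ∀ i j, R2 (val i) (val j) → i = j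
  · obtain ⟨val, hval, hdist⟩ := h3
    exact hasPair_three hmap hR h2 val (fun i => (hsplit _ (hval i).1).1)
      (fun i => hfree _ (hsplit _ (hval i).1).1 (hsplit _ (hval i).1).2 (hval i).2)
      fun i j hij => hdist i j (hrel2 _ _ (hval i).1 (hval j).1 (hval i).2 (hval j).2 hij)
  have hU5 : Nat.card U ≤ 5 := by
    haveI := Fintype.ofFinite K
    have hex : ∃ z, ∀ x ∈ U, x ≠ 0 → R2 u₀ x ∨ R2 z x := by
      by_cases htwo : ∃ z ∈ U, z ≠ 0 ∧ ¬ R2 u₀ z
      · obtain ⟨z, hz, hz0', hzu⟩ := htwo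
        refine ⟨z, fun x hx hx0 => ?_⟩
        by_contra hno
        push Not at hno
        refine h3 ⟨![u₀, z, x], fun i => ?_, fun i j hij => ?_⟩
        · fin_cases i
          exacts [⟨hu₀, hu₀0⟩, ⟨hz, hz0'⟩, ⟨hx, hx0⟩]
        · have hsymm : ∀ a b, R2 a b → R2 b a := by
            rintro a b (rfl | rfl)
            exacts [Or.inl rfl, Or.inr (neg_neg a).symm]
          fin_cases i <;> fin_cases j <;> first | rfl | exfalso
          · exact hzu hij
          · exact hno.1 hij
          · exact hzu (hsymm _ _ hij)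
          · exact hno.2 hij
          · exact hno.1 (hsymm _ _ hij)
          · exact hno.2 (hsymm _ _ hij)
      · push Not at htwo
        exact ⟨u₀, fun x hx hx0 => Or.inl (htwo x hx hx0)⟩
    obtain ⟨z, hz⟩ := hex
    have h1 := card_le_of_two_classes (n := 2) two_pos U u₀ z fun x hx hx0 => by
      rcases hz x hx hx0 with (h | h) | (h | h)
      exacts [⟨1, one_pow 2, Or.inl (by rw [one_smul, h])⟩, ⟨-1, neg_one_sq, Or.inl (by rw [neg_one_smul, h])⟩,
        ⟨1, one_pow 2, Or.inr (by rw [one_smul, h])⟩, ⟨-1, neg_one_sq, Or.inr (by rw [neg_one_smul, h])⟩]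
    have := card_roots_le (K := K) (n := 2) two_pos
    omega
  have hKU := card_field_le U (show u₀ ∈ U from hu₀) hu₀0
  have hq : Nat.card K = p := by
    rw [hcard]
    exact eq_of_pow_le he (b := 5) (by rw [← hcard]; omega) (by nlinarith) hp.one_le
  have hp5 : p ≤ 5 := by omega
  obtain rfl : p = 3 := by
    haveI := Fintype.ofFinite K
    have h4 := mt FiniteField.isSquare_neg_one_iff.mpr hneg
    rw [not_not, ← Nat.card_eq_fintype_card, hq] at h4
    omega
  rcases Nat.lt_or_ge m 2 with hm' | hm'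
  · exact hasPair_const hmap hR rfl (by omega)
  obtain ⟨m', rfl⟩ : ∃ m', m = m' + 2 := ⟨m - 2, by omega⟩
  have hindep : ∀ k l : K, k • u₀ + l • X u₀ = 0 → k = 0 ∧ l = 0 := by
    intro k l hkl
    by_cases hl0 : l = 0
    · rw [hl0, zero_smul, add_zero] at hkl
      exact ⟨(smul_eq_zero.mp hkl).resolve_right hu₀0, hl0⟩
    exfalso
    obtain ⟨c, hc⟩ := T.line X hX T.k₀ u₀ hηu₀ hu₀0 ⟨-(l⁻¹ * k), by
      rw [hz0, Module.End.one_apply, neg_smul, ← smul_smul, eq_neg_of_add_eq_zero_left hkl, smul_neg, neg_neg,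
        smul_smul, inv_mul_cancel₀ hl0, one_smul]⟩
    have h4 : (2 : K) • (X * Y) = 0 := by
      rw [two_smul]
      nth_rw 1 [hXY]
      rw [hc, mul_smul_comm c Y 1, smul_mul_assoc c 1 Y, mul_one, one_mul, neg_add_cancel]
    exact O.ne_zero (O.mul_mem _ hX.1 _ hY.1) ((smul_eq_zero.mp h4).resolve_left h2)
  refine hasPair_tail_quat P D hmap u₀ hπu₀ hu₀0 hq h2
    (not_dvd_card hcop hp hu₀0 (hpV u₀)) X Y hX hY hX2 hY2 hXY hall (fun v hv => ?_) hindep
  -- the plane
  have hline : ∀ x ∈ U, ∃ k : K, x = k • u₀ := fun x hx => by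
    by_contra hno
    push Not at hno
    have := card_sq_le U (show u₀ ∈ U from hu₀) hu₀0 hx hno
    rw [hq] at this
    omega
  let W : Submodule K V := LinearMap.eqLocus π 1
  have hW : Nat.card W ≤ Nat.card (K × K) := by
    refine Nat.card_le_card_of_surjective (fun kl : K × K => (⟨kl.1 • u₀ + kl.2 • T.z T.l u₀,
      W.add_mem (W.smul_mem _ hπu₀) (W.smul_mem _ (hπz _ _ hπu₀))⟩ : W)) fun w => ?_
    have hw : π (w : V) = w := w.2
    obtain ⟨k, hk⟩ := hline (π (T.η (T.z' T.k₀ w))) (DFunLike.congr_fun S.idem _)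
    obtain ⟨l, hl'⟩ := hline (π (T.η (T.z' T.l w))) (DFunLike.congr_fun S.idem _)
    refine ⟨(k, l), Subtype.ext ?_⟩
    have e1 := DFunLike.congr_fun T.sum_eq (w : V)
    simp only [LinearMap.sum_apply, LinearMap.add_apply, Module.End.mul_apply, Module.End.one_apply, Fin.sum_univ_two] at e1
    show k • u₀ + l • T.z T.l u₀ = w
    rw [← map_smul, ← hk, ← hl', hl]
    conv_rhs => rw [← hw, ← e1, map_add]
    rw [← Module.End.mul_apply π (T.z 0), ← cπz 0, ← Module.End.mul_apply π (T.z 1), ← cπz 1,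
      Module.End.mul_apply, Module.End.mul_apply, hk₀, show T.z 0 = 1 from hk₀ ▸ hz0, Module.End.one_apply]
  let F : K × K → W := fun kl => ⟨kl.1 • u₀ + kl.2 • X u₀,
    W.add_mem (W.smul_mem _ hπu₀) (W.smul_mem _ (rem_fix P hπu₀ hX))⟩
  have hF : Function.Injective F := fun kl kl' e => by
    have e' : kl.1 • u₀ + kl.2 • X u₀ = kl'.1 • u₀ + kl'.2 • X u₀ := congrArg Subtype.val e
    obtain ⟨f1, f2⟩ := hindep (kl.1 - kl'.1) (kl.2 - kl'.2) (by
      rw [sub_smul, sub_smul, sub_add_sub_comm]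
      exact sub_eq_zero.mpr e')
    exact Prod.ext (sub_eq_zero.mp f1) (sub_eq_zero.mp f2)
  obtain ⟨⟨k, l⟩, hkl⟩ := (hF.bijective_of_nat_card_le hW).2 ⟨v, hv⟩
  exact ⟨k, l, (congrArg Subtype.val hkl).symm⟩

omit hmap in
/-- A pair from a nonabelian set of operators. -/
theorem hasPair_of_ops (D : Semi A V K) (O : Ops K (Module.End K V) r ζ)
    (hmap : ∀ (a : A), ∀ e ∈ O.carrier, D.cj a e ∈ O.carrier)
    (hna : ∃ e ∈ O.carrier, ∀ l : K, e ≠ l • 1) (hirr : IsIrr A V)
    {p : ℕ} (hp : p.Prime) (hp3 : 3 ≤ p) (hpV : ∀ x : V, p • x = 0)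
    (hcop : (Nat.card A).Coprime (Nat.card V)) {n : ℕ} (hn : Nat.card V ≤ n + 1) (IH : ModHyp.{u} n) :
    HasPair A V := by
  haveI := Fact.mk O.prime
  haveI : Finite (Module.End K V) :=
    Finite.of_injective (fun f : Module.End K V => (f : V → V)) DFunLike.coe_injective
  obtain ⟨m, P, h | ⟨hr2, h2, hneg, X, Y, hX, hY, hX2, hY2, hXY, hall⟩⟩ := O.exists_frame
  · refine hasPair_trivial P D hmap h hirr (fun hm => ?_) hp hp3 hpV hcop hn IH
    obtain ⟨e, he, hel⟩ := hna
    obtain ⟨c, d, n', hn', rfl⟩ := P.decomp he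
    obtain ⟨l, rfl⟩ := h n' hn'
    subst hm
    rw [Subsingleton.elim c 0, Subsingleton.elim d 0, P.S_zero, P.D_zero, one_mul, one_mul] at hel
    exact hel l rfl
  · exact hasPair_quat P D hmap hr2 h2 hneg X Y hX hY hX2 hY2 hXY hall hirr hp hp3 hpV hcop hn IH

end

end Cfsg.Agent.BaseCop
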