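import Cfsg.Agent.Lib.Grp.BaseCop.ColourTools

/-!
# Three colours for groups of order prime to three: four, eight, sixteen and thirty-two points

Four points need nothing. On an affine space of order eight an element of order seven and an
element fixing a vector generate something of order three. On sixteen and thirty-two points an
affine frame is coloured together with the sums of chosen triples of it.
-/

set_option autoImplicit false
set_option linter.style.haveILetI false
set_option maxRecDepth 4000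
set_option synthInstance.maxSize 1024

namespace Cfsg.Agent.BaseCop

/-- Four points. -/
theorem threeColour_four {G Ω : Type*} [Group G] [Finite G] [MulAction G Ω] [FaithfulSMul G Ω]
    [Fintype Ω] (h3 : ¬ 3 ∣ Nat.card G) (hΩ : Fintype.card Ω = 4) :
    ∃ c : Ω → ZMod 3, ∀ g : G, (∀ x, c (g • x) = c x) → g = 1 := by
  obtain ⟨e⟩ : Nonempty (Ω ≃ Fin 4) := ⟨Fintype.equivFinOfCardEq hΩ⟩
  let φ : G →* Equiv.Perm (Fin 4) := (e.permCongrHom).toMonoidHom.comp (MulAction.toPermHom G Ω)
  have hφa : ∀ (g : G) (i : Fin 4), φ g i = e (g • e.symm i) := fun g i => rfl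
  let col : Fin 4 → Fin 4 → Fin 4 → ZMod 3 := fun a b x => if x = a then 1 else if x = b then 2 else 0
  have key : ∀ g h : Equiv.Perm (Fin 4), (∀ x, col 0 1 (g x) = col 0 1 x) →
      (∀ x, col 0 2 (h x) = col 0 2 x) → g ≠ 1 → h ≠ 1 → (g * h) ^ 3 = 1 ∧ g * h ≠ 1 := by decide +kernel
  have hφinj : ∀ g : G, φ g = 1 → g = 1 := by
    intro g hg
    refine eq_of_smul_eq_smul (α := Ω) fun x => e.injective ?_
    have := Equiv.Perm.ext_iff.mp hg (e x)
    rw [hφa, e.symm_apply_apply] at this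
    rw [one_smul]
    exact this
  classical
  by_contra hall
  push Not at hall
  obtain ⟨g, hg, hg1⟩ := hall fun x => col 0 1 (e x)
  obtain ⟨h, hh, hh1⟩ := hall fun x => col 0 2 (e x)
  have hgc : ∀ x, col 0 1 (φ g x) = col 0 1 x := fun x => by
    have := hg (e.symm x)
    rw [e.apply_symm_apply] at this
    exact this
  have hhc : ∀ x, col 0 2 (φ h x) = col 0 2 x := fun x => by
    have := hh (e.symm x)
    rw [e.apply_symm_apply] at this
    exact this
  obtain ⟨h1, h2⟩ := key _ _ hgc hhc (fun h => hg1 (hφinj g h)) (fun h' => hh1 (hφinj h h'))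
  haveI := Fact.mk Nat.prime_three
  rw [← map_mul] at h1 h2
  exact h2 (eq_one_of_hom φ h3 h1)

/-! ### Eight points -/

/-- A linear map on three bits, given by the images of the unit vectors. -/
abbrev Bits3 := Fin 8 × Fin 8 × Fin 8

/-- The image of a vector. -/
def app3 (M : Bits3) (v : Fin 8) : Fin 8 :=
  (if v.val.testBit 0 then M.1 else 0) ^^^ (if v.val.testBit 1 then M.2.1 else 0) ^^^
    (if v.val.testBit 2 then M.2.2 else 0)

/-- Composition. -/
def comp3 (M M' : Bits3) : Bits3 := (app3 M M'.1, app3 M M'.2.1, app3 M M'.2.2)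

/-- Powers. -/
def pow3 (M : Bits3) : ℕ → Bits3
  | 0 => (1, 2, 4)
  | n + 1 => comp3 (pow3 M n) M

theorem eight_certificate : ∀ a b c : Fin 8, pow3 (a, b, c) 7 = (1, 2, 4) → (a, b, c) ≠ ((1, 2, 4) : Bits3) →
    ∀ y z : Fin 8, (∀ v : Fin 8, v ≠ 0 → app3 (1, y, z) v ≠ 0) → ((1, y, z) : Bits3) ≠ (1, 2, 4) →
    ∃ j : Fin 8, (if j = 7 then (1, y, z) else comp3 (pow3 (a, b, c) j) (1, y, z)) ≠ ((1, 2, 4) : Bits3) ∧
      pow3 (if j = 7 then (1, y, z) else comp3 (pow3 (a, b, c) j) (1, y, z)) 3 = (1, 2, 4) := by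
  decide +kernel

/-- Three bit coordinates of a space of order eight. -/
theorem app3_unique (M : Bits3) : app3 M 1 = M.1 ∧ app3 M 2 = M.2.1 ∧ app3 M 4 = M.2.2 := by
  revert M; decide +kernel

theorem app3_map {V : Type*} [AddCommGroup V] (ψ : Fin 8 ≃ V) (hψ : ∀ v w, ψ (v ^^^ w) = ψ v + ψ w)
    (L : V →+ V) (v : Fin 8) :
    app3 (ψ.symm (L (ψ 1)), ψ.symm (L (ψ 2)), ψ.symm (L (ψ 4))) v = ψ.symm (L (ψ v)) := by
  apply ψ.injective
  rw [ψ.apply_symm_apply]
  have hv : v = (if v.val.testBit 0 then 1 else 0) ^^^ (if v.val.testBit 1 then 2 else 0) ^^^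
      (if v.val.testBit 2 then 4 else 0) := by revert v; decide
  have h0 : ψ 0 = 0 := by
    have := hψ 0 0
    rwa [show (0 : Fin 8) ^^^ 0 = 0 from rfl, right_eq_add] at this
  conv_rhs => rw [hv]
  simp only [app3, hψ, map_add]
  congr 1
  congr 1
  all_goals split_ifs <;> simp [h0]

/-- An element of order seven and a nontrivial element fixing a vector generate a group of order
divisible by three. -/
theorem no_fixed_vector_eight {H V : Type*} [Group H] [Finite H] [AddCommGroup V] [DistribMulAction H V]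
    [FaithfulSMul H V] (h3 : ¬ 3 ∣ Nat.card H) (ψ : Fin 8 ≃ V) (hψ : ∀ v w, ψ (v ^^^ w) = ψ v + ψ w)
    {m h : H} (hm : orderOf m = 7) (hh : h • ψ 1 = ψ 1) : h = 1 := by
  let toM : H → Bits3 := fun x => (ψ.symm (x • ψ 1), ψ.symm (x • ψ 2), ψ.symm (x • ψ 4))
  have happ : ∀ x v, app3 (toM x) v = ψ.symm (x • ψ v) := fun x v =>
    app3_map ψ hψ (DistribSMul.toAddMonoidHom V x) v
  have hone : toM 1 = (1, 2, 4) := by simp [toM]
  have hmul : ∀ x y, toM (x * y) = comp3 (toM x) (toM y) := fun x y => by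
    simp only [comp3, happ, toM, ψ.apply_symm_apply, mul_smul]
  have hpow : ∀ x (n : ℕ), toM (x ^ n) = pow3 (toM x) n := by
    intro x n
    induction n with
    | zero => rw [pow_zero, hone]; rfl
    | succ n ih => rw [pow_succ, hmul, ih]; rfl
  have hinj : ∀ x, toM x = (1, 2, 4) → x = 1 := by
    intro x hx
    refine eq_of_smul_eq_smul fun v : V => ?_
    obtain ⟨w, rfl⟩ := ψ.surjective v
    have e := happ x w
    rw [hx, ← hone, happ, one_smul, ψ.symm_apply_apply] at e
    rw [one_smul]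
    conv_rhs => rw [e, ψ.apply_symm_apply]
  by_contra hh1
  have hth : toM h = (1, (toM h).2.1, (toM h).2.2) := by simp [toM, hh]
  have h0 : ψ 0 = 0 := by
    have := hψ 0 0
    rwa [show (0 : Fin 8) ^^^ 0 = 0 from rfl, right_eq_add] at this
  obtain ⟨j, hj1, hj2⟩ := eight_certificate (toM m).1 (toM m).2.1 (toM m).2.2
    (by
      show pow3 (toM m) 7 = _
      rw [← hpow]
      exact (congrArg toM (hm ▸ pow_orderOf_eq_one m)).trans hone)
    (fun e => by
      have := hinj m e
      rw [this, orderOf_one] at hm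
      omega)
    (toM h).2.1 (toM h).2.2
    (fun v hv e => hv (ψ.injective (by
      rw [← hth, happ, ← ψ.symm_apply_apply 0, h0] at e
      have := ψ.symm.injective e
      rw [h0]
      exact (smul_eq_zero_iff_eq h).mp this)))
    (fun e => hh1 (hinj h (hth.trans e)))
  obtain ⟨x, hx⟩ : ∃ x : H, toM x =
      if j = 7 then ((1, (toM h).2.1, (toM h).2.2) : Bits3)
      else comp3 (pow3 (toM m) j) (1, (toM h).2.1, (toM h).2.2) := by
    by_cases hj : j = 7
    · exact ⟨h, by rw [if_pos hj]; exact hth⟩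
    · exact ⟨m ^ (j : ℕ) * h, by rw [if_neg hj, hmul, hpow, ← hth]⟩
  rw [← hx] at hj1 hj2
  rw [← hpow] at hj2
  haveI := Fact.mk Nat.prime_three
  refine hj1 ?_
  rw [show x = 1 from eq_one_of_hom (MonoidHom.id H) h3 (g := x) (hinj _ hj2)]
  exact hone

/-! ### Affine frames -/

/-- A permutation preserves a list of triples, up to order inside a triple. -/
def pres {n : ℕ} (T : List (Fin n × Fin n × Fin n)) (σ : Equiv.Perm (Fin n)) : Bool :=
  T.all fun t => T.any fun t' =>
    decide (({σ t.1, σ t.2.1, σ t.2.2} : Finset (Fin n)) = {t'.1, t'.2.1, t'.2.2})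

/-- The point of a set of frame vertices: the origin adds nothing. -/
def frameVec {k : ℕ} (T : Finset (Fin (k + 1))) : Fin k → ZMod 2 :=
  ∑ i ∈ T, Fin.cases 0 (fun j => Pi.single j 1) i

/-- A frame colouring: vertices one colour, the sums of the chosen triples another. -/
theorem frame_stabilizer {G Ω : Type*} [Group G] [MulAction G Ω] {k : ℕ}
    (P : Ω ≃ (Fin k → ZMod 2))
    (haff : ∀ g : G, ∀ x y z : Ω, P (g • P.symm (P x + P y + P z)) = P (g • x) + P (g • y) + P (g • z))
    (hfix : ∀ g : G, (∀ i, g • P.symm (frameVec (k := k) {i}) = P.symm (frameVec {i})) → g = 1)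
    (T : List (Fin (k + 1) × Fin (k + 1) × Fin (k + 1)))
    (hT : ∀ t ∈ T, t.1 ≠ t.2.1 ∧ t.1 ≠ t.2.2 ∧ t.2.1 ≠ t.2.2)
    (hsep : ∀ i, ∀ a b c : Fin (k + 1), a ≠ b → a ≠ c → b ≠ c → frameVec (k := k) {i} ≠ frameVec {a, b, c})
    (hone : ∀ i j, frameVec (k := k) {i} = frameVec {j} → i = j)
    (hthree : ∀ S S' : Finset (Fin (k + 1)), S.card = 3 → S'.card = 3 →
      frameVec (k := k) S = frameVec S' → S = S') :
    ∃ c : Ω → ZMod 3, ∀ g : G, (∀ x, c (g • x) = c x) → ∃ σ : Equiv.Perm (Fin (k + 1)),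
      (∀ i, g • P.symm (frameVec {i}) = P.symm (frameVec {σ i})) ∧ (σ = 1 → g = 1) ∧
      pres T σ = true := by
  classical
  let s : Fin (k + 1) → Ω := fun i => P.symm (frameVec {i})
  let p : Fin (k + 1) × Fin (k + 1) × Fin (k + 1) → Ω := fun t => P.symm (frameVec {t.1, t.2.1, t.2.2})
  let c : Ω → ZMod 3 := fun x => if x ∈ Set.range s then 1 else if ∃ t ∈ T, x = p t then 2 else 0
  refine ⟨c, fun g hg => ?_⟩
  have hπ : ∀ i, ∃ j, g • s i = s j := by
    intro i
    have h := hg (s i)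
    simp only [c] at h
    rw [if_pos (Set.mem_range_self i)] at h
    split_ifs at h with h1 h2
    · obtain ⟨j, hj⟩ := h1; exact ⟨j, hj.symm⟩
    · exact absurd h (by decide)
    · exact absurd h (by decide)
  choose π hπ using hπ
  have hπinj : Function.Injective π := fun i j h => by
    have := (hπ i).trans ((congrArg s h).trans (hπ j).symm)
    exact hone _ _ (P.symm.injective (MulAction.injective g this))
  refine ⟨Equiv.ofBijective π ⟨hπinj, Finite.injective_iff_surjective.mp hπinj⟩, hπ, fun hσ => ?_, ?_⟩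
  · refine hfix g fun i => ?_
    have := hπ i
    rw [show π i = i from Equiv.Perm.ext_iff.mp hσ i] at this
    exact this
  simp only [pres, List.all_eq_true, List.any_eq_true, decide_eq_true_eq]
  intro t ht
  obtain ⟨h12, h13, h23⟩ := hT t ht
  have hsum : ∀ a b d : Fin (k + 1), a ≠ b → a ≠ d → b ≠ d →
      frameVec (k := k) {a, b, d} = frameVec {a} + frameVec {b} + frameVec {d} := by
    intro a b d hab had hbd
    simp only [frameVec, Finset.sum_singleton]
    rw [Finset.sum_insert (by simp [hab, had]), Finset.sum_insert (by simp [hbd]), Finset.sum_singleton,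
      add_assoc]
  have himg : g • p t = P.symm (frameVec {π t.1, π t.2.1, π t.2.2}) := by
    apply P.injective
    rw [P.apply_symm_apply, hsum _ _ _ (hπinj.ne h12) (hπinj.ne h13) (hπinj.ne h23)]
    have e : p t = P.symm (P (s t.1) + P (s t.2.1) + P (s t.2.2)) := by
      simp only [p, s, P.apply_symm_apply]
      rw [hsum _ _ _ h12 h13 h23]
    rw [e, haff, hπ, hπ, hπ]
    simp only [s, P.apply_symm_apply]
  have h := hg (p t)
  have hnr : ∀ a b d : Fin (k + 1), a ≠ b → a ≠ d → b ≠ d →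
      P.symm (frameVec {a, b, d}) ∉ Set.range s := by
    rintro a b d hab had hbd ⟨j, hj⟩
    exact hsep j a b d hab had hbd (P.symm.injective hj)
  simp only [c, himg] at h
  rw [if_neg (hnr _ _ _ h12 h13 h23), if_pos (⟨t, ht, rfl⟩ : ∃ t' ∈ T, p t = p t'),
    if_neg (hnr _ _ _ (hπinj.ne h12) (hπinj.ne h13) (hπinj.ne h23))] at h
  split_ifs at h with h2
  · obtain ⟨t', ht', hpe⟩ := h2
    obtain ⟨a1, a2, a3⟩ := hT t' ht'
    have h3card : ∀ a b d : Fin (k + 1), a ≠ b → a ≠ d → b ≠ d → ({a, b, d} : Finset (Fin (k + 1))).card = 3 :=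
      fun a b d hab had hbd => Finset.card_eq_three.mpr ⟨a, b, d, hab, had, hbd, rfl⟩
    exact ⟨t', ht', hthree _ _ (h3card _ _ _ (hπinj.ne h12) (hπinj.ne h13) (hπinj.ne h23))
      (h3card _ _ _ a1 a2 a3) (P.symm.injective hpe)⟩
  · exact absurd h (by decide)

/-- The triples whose complements form a path on five vertices. -/
def path5 (v : Fin 5 → Fin 5) : List (Fin 5 × Fin 5 × Fin 5) :=
  [(v 2, v 3, v 4), (v 0, v 3, v 4), (v 0, v 1, v 4), (v 0, v 1, v 2)]

/-- Four triples on six vertices with no symmetry. -/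
def rigid6 : List (Fin 6 × Fin 6 × Fin 6) := [(0, 1, 2), (0, 1, 3), (0, 2, 4), (1, 4, 5)]

theorem path5_symm : ∀ σ : Equiv.Perm (Fin 5), pres (path5 id) σ = true → σ ≠ 1 →
    ∀ τ : Equiv.Perm (Fin 5), pres (path5 ![0, 1, 4, 3, 2]) τ = true → τ ≠ 1 →
    (σ * τ) ^ 3 = 1 ∧ σ * τ ≠ 1 := by decide +kernel

theorem rigid6_symm : ∀ σ : Equiv.Perm (Fin 6), pres rigid6 σ = true → σ = 1 := by decide +kernel

/-- Sixteen points. -/
theorem threeColour_sixteen {G Ω : Type*} [Group G] [Finite G] [MulAction G Ω]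
    (h3 : ¬ 3 ∣ Nat.card G) (P : Ω ≃ (Fin 4 → ZMod 2))
    (haff : ∀ g : G, ∀ x y z : Ω, P (g • P.symm (P x + P y + P z)) = P (g • x) + P (g • y) + P (g • z))
    (hfix : ∀ g : G, (∀ i, g • P.symm (frameVec (k := 4) {i}) = P.symm (frameVec {i})) → g = 1) :
    ∃ c : Ω → ZMod 3, ∀ g : G, (∀ x, c (g • x) = c x) → g = 1 := by
  have hsep : ∀ i, ∀ a b c : Fin 5, a ≠ b → a ≠ c → b ≠ c → frameVec (k := 4) {i} ≠ frameVec {a, b, c} := by
    decide +kernel
  have hone : ∀ i j, frameVec (k := 4) {i} = frameVec {j} → i = j := by decide +kernel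
  have hthree : ∀ S S' : Finset (Fin 5), S.card = 3 → S'.card = 3 →
      frameVec (k := 4) S = frameVec S' → S = S' := by
    decide +kernel
  obtain ⟨c₁, hc₁⟩ := frame_stabilizer P haff hfix (path5 id) (by decide +kernel) hsep hone hthree
  obtain ⟨c₂, hc₂⟩ := frame_stabilizer P haff hfix (path5 ![0, 1, 4, 3, 2]) (by decide +kernel) hsep hone hthree
  by_contra hall
  push Not at hall
  obtain ⟨g, hg, hg1⟩ := hall c₁
  obtain ⟨h, hh, hh1⟩ := hall c₂
  obtain ⟨σ, hσ, hσ1, hσT⟩ := hc₁ g hg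
  obtain ⟨τ, hτ, hτ1, hτT⟩ := hc₂ h hh
  obtain ⟨h1, h2⟩ := path5_symm σ hσT (fun e => hg1 (hσ1 e)) τ hτT (fun e => hh1 (hτ1 e))
  have hcube : (g * h) ^ 3 = 1 := by
    refine hfix _ fun i => ?_
    have hmul : ∀ i, (g * h) • P.symm (frameVec {i}) = P.symm (frameVec {(σ * τ) i}) := fun i => by
      rw [mul_smul, hτ, hσ]; rfl
    have hp : ∀ (n : ℕ) (i), (g * h) ^ n • P.symm (frameVec {i}) = P.symm (frameVec {((σ * τ) ^ n) i}) := by
      intro n
      induction n with
      | zero => simp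
      | succ n ih => intro i; rw [pow_succ, mul_smul, hmul, ih, pow_succ]; rfl
    rw [hp, h1]
    rfl
  haveI := Fact.mk Nat.prime_three
  have hone' : g * h = 1 := eq_one_of_hom (MonoidHom.id G) h3 (g := g * h) hcube
  refine h2 (Equiv.ext fun i => hone _ _ (P.symm.injective ?_))
  show P.symm (frameVec {σ (τ i)}) = P.symm (frameVec {i})
  rw [← hσ, ← hτ, ← mul_smul, hone', one_smul]

/-- Thirty-two points. -/
theorem threeColour_thirtyTwo {G Ω : Type*} [Group G] [MulAction G Ω]
    (P : Ω ≃ (Fin 5 → ZMod 2))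
    (haff : ∀ g : G, ∀ x y z : Ω, P (g • P.symm (P x + P y + P z)) = P (g • x) + P (g • y) + P (g • z))
    (hfix : ∀ g : G, (∀ i, g • P.symm (frameVec (k := 5) {i}) = P.symm (frameVec {i})) → g = 1) :
    ∃ c : Ω → ZMod 3, ∀ g : G, (∀ x, c (g • x) = c x) → g = 1 := by
  have hsep : ∀ i, ∀ a b c : Fin 6, a ≠ b → a ≠ c → b ≠ c → frameVec (k := 5) {i} ≠ frameVec {a, b, c} := by
    decide +kernel
  have hone : ∀ i j, frameVec (k := 5) {i} = frameVec {j} → i = j := by decide +kernel
  have hthree : ∀ S S' : Finset (Fin 6), S.card = 3 → S'.card = 3 →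
      frameVec (k := 5) S = frameVec S' → S = S' := by
    decide +kernel
  obtain ⟨c, hc⟩ := frame_stabilizer P haff hfix rigid6 (by decide +kernel) hsep hone hthree
  refine ⟨c, fun g hg => ?_⟩
  obtain ⟨σ, -, hσ1, hσT⟩ := hc g hg
  exact hσ1 (rigid6_symm σ hσT)

end Cfsg.Agent.BaseCop
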