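import Mathlib

/-!
# Tools for three colours

Shifting the colours of a colouring, counting invariant colourings, and two small pieces of
computation on four, five and six points.
-/

set_option autoImplicit false
set_option linter.style.haveILetI false

namespace Cfsg.Agent.BaseCop

/-- Shifting the colours by a nonzero amount leaves the orbit when three does not divide the order
of the group. -/
theorem shift_eq_zero {G Ω : Type*} [Group G] [Finite G] [MulAction G Ω] [Nonempty Ω]
    (h3 : ¬ 3 ∣ Nat.card G) (f : Ω → ZMod 3) {g : G} {c : ZMod 3} (h : ∀ x, f (g • x) = f x + c) :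
    c = 0 := by
  have hj : ∀ (j : ℕ) (x : Ω), f (g ^ j • x) = f x + (j : ZMod 3) * c := by
    intro j
    induction j with
    | zero => simp
    | succ j ih =>
      intro x
      rw [pow_succ, mul_smul, ih, h, Nat.cast_succ]
      ring
  obtain ⟨x⟩ := (inferInstance : Nonempty Ω)
  have e := hj (Nat.card G) x
  rw [pow_card_eq_one', one_smul, left_eq_add] at e
  haveI := Fact.mk Nat.prime_three
  rcases mul_eq_zero.mp e with e | e
  · exact absurd ((ZMod.natCast_eq_zero_iff _ 3).mp e) h3
  · exact e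

/-- A prime order image of a group of order prime to it is trivial. -/
theorem eq_one_of_hom {G M : Type*} [Group G] [Finite G] [Monoid M] (φ : G →* M) {p : ℕ} [Fact p.Prime]
    (hp : ¬ p ∣ Nat.card G) {g : G} (h : φ g ^ p = 1) : φ g = 1 := by
  rcases (Nat.dvd_prime Fact.out).mp (orderOf_dvd_of_pow_eq_one h) with e | e
  · exact orderOf_eq_one_iff.mp e
  · refine absurd ?_ hp
    rw [← e]
    exact ((orderOf_map_dvd φ g).trans (orderOf_dvd_natCard g))

/-- The colourings invariant under an element which fixes at most half of the points. -/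
theorem card_invariant_le {G Ω κ : Type*} [Group G] [MulAction G Ω] [Finite Ω] [Finite κ] [Nonempty κ]
    (g : G) {f : ℕ} (hf : Nat.card {x : Ω // g • x = x} ≤ f) :
    Nat.card {c : Ω → κ // ∀ x, c (g • x) = c x} ^ 2 ≤ Nat.card κ ^ (Nat.card Ω + f) := by
  classical
  let Q := MulAction.orbitRel.Quotient (Subgroup.zpowers g) Ω
  haveI : Fintype Q := Fintype.ofFinite Q
  haveI : Fintype Ω := Fintype.ofFinite Ω
  have hinj : Function.Injective
      (fun c : {c : Ω → κ // ∀ x, c (g • x) = c x} => fun ω : Q => c.1 (Quotient.out ω)) := by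
    intro c d h
    refine Subtype.ext (funext fun x => ?_)
    have hz : ∀ (c : {c : Ω → κ // ∀ x, c (g • x) = c x}) (k : ℤ) (y : Ω), c.1 (g ^ k • y) = c.1 y := by
      intro c k
      induction k using Int.induction_on with
      | zero => simp
      | succ k ih => intro y; rw [zpow_add_one, mul_smul, ih, c.2]
      | pred k ih => intro y; rw [zpow_sub_one, mul_smul, ih, ← c.2, smul_inv_smul]
    obtain ⟨⟨z, hz'⟩, hzx⟩ := Quotient.exact'
      (Quotient.out_eq' (Quotient.mk'' x : MulAction.orbitRel.Quotient (Subgroup.zpowers g) Ω))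
    obtain ⟨k, rfl⟩ := Subgroup.mem_zpowers_iff.mp hz'
    have e := congrFun h (Quotient.mk'' x)
    change c.1 (Quotient.out _) = d.1 (Quotient.out _) at e
    change g ^ k • x = Quotient.out _ at hzx
    rw [← hzx, hz c k x, hz d k x] at e
    exact e
  have h1 := Nat.card_le_card_of_injective _ hinj
  rw [Nat.card_fun] at h1
  refine le_trans (Nat.pow_le_pow_left h1 2) ?_
  rw [← pow_mul]
  refine Nat.pow_le_pow_right Nat.card_pos ?_
  -- an orbit has two points or is a fixed point
  let sz : Q → ℕ := fun ω => Nat.card ω.orbit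
  have hn : Nat.card Ω = ∑ ω : Q, sz ω := by
    rw [Nat.card_congr (MulAction.selfEquivSigmaOrbits' (Subgroup.zpowers g) Ω), Nat.card_sigma]
  have hmem : ∀ ω : Q, Quotient.out ω ∈ ω.orbit := fun ω => by
    rw [MulAction.orbitRel.Quotient.mem_orbit]; exact Quotient.out_eq' ω
  have hsmall : (Finset.univ.filter fun ω : Q => sz ω = 1).card ≤ f := by
    refine le_trans ?_ hf
    rw [Nat.card_eq_fintype_card, ← Fintype.card_coe]
    refine Fintype.card_le_of_injective (fun ω => ⟨Quotient.out ω.1, ?_⟩) ?_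
    · obtain ⟨hsub, -⟩ := Nat.card_eq_one_iff_unique.mp (Finset.mem_filter.mp ω.2).2
      have hx := hmem ω.1
      have hgx : g • Quotient.out ω.1 ∈ ω.1.orbit := by
        rw [MulAction.orbitRel.Quotient.mem_orbit] at hx ⊢
        exact Eq.trans (Quotient.sound' ⟨⟨g, Subgroup.mem_zpowers g⟩, rfl⟩) hx
      exact congrArg Subtype.val (hsub.elim ⟨_, hgx⟩ ⟨_, hx⟩)
    · intro a b hab
      exact Subtype.ext (Quotient.out_inj.mp (congrArg Subtype.val hab))
  have hpos : ∀ ω : Q, 1 ≤ sz ω := fun ω => by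
    haveI : Nonempty ω.orbit := ⟨⟨_, hmem ω⟩⟩
    exact Nat.card_pos
  rw [hn]
  calc Nat.card Q * 2 = ∑ _ω : Q, 2 := by simp [Nat.card_eq_fintype_card]
    _ ≤ ∑ ω : Q, (sz ω + if sz ω = 1 then 1 else 0) := by
        refine Finset.sum_le_sum fun ω _ => ?_
        have := hpos ω
        split_ifs <;> omega
    _ ≤ _ := by
        rw [Finset.sum_add_distrib, Finset.sum_boole]
        exact Nat.add_le_add_left (by simpa using hsmall) _

/-- Some colouring has trivial stabiliser when the fixed colourings are few. -/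
theorem exists_free_colouring {G Ω κ : Type*} [Group G] [Finite G] [MulAction G Ω] [Finite Ω] [Finite κ]
    [Nonempty κ] {f : ℕ} (hf : ∀ g : G, g ≠ 1 → Nat.card {x : Ω // g • x = x} ≤ f)
    (hbound : Nat.card G ^ 2 * Nat.card κ ^ f ≤ Nat.card κ ^ Nat.card Ω) :
    ∃ c : Ω → κ, ∀ g : G, (∀ x, c (g • x) = c x) → g = 1 := by
  classical
  haveI := Fintype.ofFinite G
  haveI := Fintype.ofFinite (Ω → κ)
  by_contra hall
  push Not at hall
  let Fx : G → Finset (Ω → κ) := fun g => Finset.univ.filter fun c => ∀ x, c (g • x) = c x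
  let E := Finset.univ.filter fun g : G => g ≠ 1
  have hsub : (Finset.univ : Finset (Ω → κ)) ⊆ E.biUnion Fx := fun c _ => by
    obtain ⟨g, hg, hg1⟩ := hall c
    exact Finset.mem_biUnion.mpr ⟨g, by simp [E, hg1], by simp [Fx, hg]⟩
  obtain ⟨g₀, hg₀, hmax⟩ := Finset.exists_max_image E (fun g => (Fx g).card) (by
    obtain ⟨c⟩ := (inferInstance : Nonempty (Ω → κ))
    obtain ⟨g, -, hg1⟩ := hall c
    exact ⟨g, by simp [E, hg1]⟩)
  have h1 : Nat.card κ ^ Nat.card Ω ≤ E.card * (Fx g₀).card := by
    rw [← Nat.card_fun, Nat.card_eq_fintype_card, ← Finset.card_univ]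
    refine (Finset.card_le_card hsub).trans (Finset.card_biUnion_le.trans ?_)
    exact (Finset.sum_le_card_nsmul _ _ _ hmax).trans_eq (smul_eq_mul _ _)
  have h2 : E.card < Nat.card G := by
    rw [Nat.card_eq_fintype_card, ← Finset.card_univ]
    exact Finset.card_lt_card ⟨Finset.filter_subset _ _, fun h => by simpa [E] using h (Finset.mem_univ (1 : G))⟩
  have h3 : (Fx g₀).card ^ 2 ≤ Nat.card κ ^ (Nat.card Ω + f) := by
    refine le_trans (le_of_eq ?_) (card_invariant_le g₀ (hf g₀ (Finset.mem_filter.mp hg₀).2))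
    rw [Nat.card_eq_fintype_card, Fintype.card_subtype]
  have hpos : 0 < Nat.card κ ^ Nat.card Ω := pow_pos Nat.card_pos _
  have hlt : E.card * (Fx g₀).card < Nat.card G * (Fx g₀).card := by
    refine Nat.mul_lt_mul_of_pos_right h2 (Nat.pos_of_ne_zero fun h => ?_)
    rw [h, mul_zero] at h1
    omega
  have h4 : (Nat.card κ ^ Nat.card Ω) ^ 2 < (Nat.card G * (Fx g₀).card) ^ 2 :=
    Nat.pow_lt_pow_left (lt_of_le_of_lt h1 hlt) two_ne_zero
  rw [mul_pow] at h4
  have h5 : Nat.card G ^ 2 * (Fx g₀).card ^ 2 ≤ (Nat.card κ ^ Nat.card Ω) ^ 2 :=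
    calc Nat.card G ^ 2 * (Fx g₀).card ^ 2
        ≤ Nat.card G ^ 2 * Nat.card κ ^ (Nat.card Ω + f) := Nat.mul_le_mul_left _ h3
      _ = Nat.card κ ^ Nat.card Ω * (Nat.card G ^ 2 * Nat.card κ ^ f) := by rw [pow_add]; ring
      _ ≤ _ := by rw [pow_two (Nat.card κ ^ Nat.card Ω)]; exact Nat.mul_le_mul_left _ hbound
  omega

end Cfsg.Agent.BaseCop
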