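import Cfsg.Agent.Lib.Grp.BaseThree.Pattern
import Cfsg.Agent.Lib.Grp.BaseCop.ColourTools

/-!
# Colour patterns with a small class

The three-colour patterns again, now recording that one class consists of basis vectors and that, in
characteristic two, the majority class spans.
-/

set_option autoImplicit false
set_option linter.style.haveILetI false

namespace Cfsg.Agent.BaseCop

open BaseThree (transv transv_apply linearEquiv_ext_single)

theorem zmod_two_add {x y : ZMod 2} : x + y = 0 → x = y := by revert x y; decide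

theorem zmod_two_three {x : ZMod 2} : 3 • x = 0 → x = 0 := by revert x; decide

theorem zmod_two_one {x : ZMod 2} : x ≠ 0 → x = 1 := by revert x; decide

theorem majority_spans : ∀ i j k : Fin 3, i ≠ j → i ≠ k → j ≠ k → ∀ d : Fin 3 → ZMod 2, d ≠ 0 →
    ∃ c : Fin 3 → ZMod 2, c ≠ 0 ∧ c ≠ Pi.single i 1 ∧ c ≠ Pi.single j 1 ∧ c ≠ Pi.single k 1 ∧
      c ≠ Pi.single i 1 + Pi.single j 1 ∧ d ⬝ᵥ c ≠ 0 := by
  decide +kernel

set_option synthInstance.maxSize 1000 in
set_option synthInstance.maxHeartbeats 400000 in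
theorem three_good : ∀ i : Fin 3, ∀ d : Fin 3 → ZMod 2, d ≠ 0 → ∃ c : Fin 3 → ZMod 2,
    c ≠ Pi.single i 1 ∧ d ⬝ᵥ c ≠ 0 ∧ ∀ d' : Fin 3 → ZMod 2, d' ≠ 0 → ∃ c' : Fin 3 → ZMod 2,
      c' ≠ Pi.single i 1 ∧ c + c' ≠ Pi.single i 1 ∧ d' ⬝ᵥ c' ≠ 0 := by
  decide +kernel

variable {r : ℕ} [Fact r.Prime] {m : ℕ}

/-- The small dimensions. -/
theorem pattern_le_two (hm : m ≤ 2) : ∃ col : (Fin m → ZMod r) → Fin 3,
    (∀ c, col c = 1 → ∃ i, c = Pi.single i 1) ∧ ∀ σ : (Fin m → ZMod r) ≃ₗ[ZMod r] (Fin m → ZMod r), (∀ c, c ≠ 0 → col (σ c) = col c) → σ = 1 := by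
  classical
  have hne : ∀ i : Fin m, (Pi.single i 1 : Fin m → ZMod r) ≠ 0 := fun i h => by
    have := congrFun h i
    simp at this
  let col : (Fin m → ZMod r) → Fin 3 := fun c =>
    if h : ∃ i : Fin m, c = Pi.single i 1 then ⟨h.choose.val + 1, by omega⟩ else 0
  have hcol : ∀ i, col (Pi.single i 1) = ⟨i.val + 1, by omega⟩ := by
    intro i
    have h : ∃ j : Fin m, (Pi.single i 1 : Fin m → ZMod r) = Pi.single j 1 := ⟨i, rfl⟩
    have he : i = h.choose := by
      have := congrFun h.choose_spec i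
      by_contra hne'
      simp [hne'] at this
    simp only [col, dif_pos h, ← he]
  refine ⟨col, fun c hc => ?_, fun σ hσ => linearEquiv_ext_single _ _ fun i => ?_⟩
  · by_cases hex : ∃ i : Fin m, c = Pi.single i 1
    · exact hex
    · simp [col, hex] at hc
  have h := hσ _ (hne i)
  rw [hcol] at h
  by_cases hex : ∃ j : Fin m, σ (Pi.single i 1) = Pi.single j 1
  · obtain ⟨j, hj⟩ := hex
    rw [hj, hcol, Fin.mk.injEq] at h
    rw [hj, show j = i from Fin.ext (by omega)]
    rfl
  · simp only [col, dif_neg hex] at h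
    exact absurd (congrArg Fin.val h) (Nat.succ_ne_zero _).symm

/-- Three dimensions: the only symmetry of the colouring is a transvection. -/
theorem pattern_three (i j k : Fin 3) (hij : i ≠ j) (hik : i ≠ k) (hjk : j ≠ k) :
    ∃ col : (Fin 3 → ZMod r) → Fin 3, (∀ c, col c = 1 → c = Pi.single i 1) ∧
      (r = 2 → ∀ d : Fin 3 → ZMod r, d ≠ 0 → ∃ c, c ≠ 0 ∧ col c = 0 ∧ d ⬝ᵥ c ≠ 0) ∧ ∀ σ : (Fin 3 → ZMod r) ≃ₗ[ZMod r] (Fin 3 → ZMod r),
      (∀ c, c ≠ 0 → col (σ c) = col c) → σ = 1 ∨ σ = transv i j hij := by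
  classical
  have hcases : ∀ l : Fin 3, l = i ∨ l = j ∨ l = k := by
    intro l; revert hij hik hjk; revert i j k l; decide
  set ei : Fin 3 → ZMod r := Pi.single i 1 with hei
  set ej : Fin 3 → ZMod r := Pi.single j 1 with hej
  set ek : Fin 3 → ZMod r := Pi.single k 1 with hek
  let col : (Fin 3 → ZMod r) → Fin 3 := fun c =>
    if c = ei then 1 else if c = ej ∨ c = ek ∨ c = ei + ej then 2 else 0
  have h1 : ∀ c, col c = 1 → c = ei := by
    intro c h
    simp only [col] at h
    split_ifs at h with ha hb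
    · exact ha
    · exact absurd h (by decide)
    · exact absurd h (by decide)
  have h2 : ∀ c, col c = 2 → c = ej ∨ c = ek ∨ c = ei + ej := by
    intro c h
    simp only [col] at h
    split_ifs at h with ha hb
    · exact absurd h (by decide)
    · exact hb
    · exact absurd h (by decide)
  have nej : ej ≠ ei := fun h => by
    have := congrFun h j
    simp [hei, hej, hij.symm] at this
  have nek : ek ≠ ei := fun h => by
    have := congrFun h k
    simp [hei, hek, hik.symm] at this
  have nij : ei + ej ≠ ei := fun h => by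
    have := congrFun h j
    simp [hei, hej, hij.symm] at this
  refine ⟨col, h1, fun hr d hd => ?_, fun σ hσ => ?_⟩
  · subst hr
    obtain ⟨c, hc0, n1, n2, n3, n4, hdc⟩ := majority_spans i j k hij hik hjk d hd
    exact ⟨c, hc0, by simp [col, hei, hej, hek, n1, n2, n3, n4], hdc⟩
  have si : σ ei = ei := h1 _ (by
    rw [hσ ei (fun h => by have := congrFun h i; simp [hei] at this)]
    simp [col])
  have sj := h2 (σ ej) (by
    rw [hσ ej (fun h => by have := congrFun h j; simp [hej] at this)]
    simp [col, nej])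
  have sk := h2 (σ ek) (by
    rw [hσ ek (fun h => by have := congrFun h k; simp [hek] at this)]
    simp [col, nek])
  have sij := h2 (σ (ei + ej)) (by
    rw [hσ (ei + ej) (fun h => by have := congrFun h j; simp [hei, hej, hij.symm] at this)]
    simp [col, nij])
  rw [map_add, si] at sij
  have hext : ∀ τ : (Fin 3 → ZMod r) ≃ₗ[ZMod r] (Fin 3 → ZMod r),
      τ ei = ei → τ ej = σ ej → τ ek = σ ek → σ = τ := by
    intro τ t1 t2 t3
    refine linearEquiv_ext_single _ _ fun l => ?_
    rcases hcases l with h | h | h <;> subst h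
    · exact si.trans t1.symm
    · exact t2.symm
    · exact t3.symm
  have hinj : σ ek ≠ σ ej := fun h => by
    have := congrFun (σ.injective h) k
    simp [hej, hek, hjk.symm] at this
  rcases sj with e | e | e
  · left
    refine hext 1 rfl e.symm ?_
    rcases sk with f | f | f
    · exact absurd (f.trans e.symm) hinj
    · exact f.symm
    · exfalso
      have : σ ek = σ (ei + ej) := by rw [f, map_add, si, e]
      have := congrFun (σ.injective this) k
      simp [hei, hej, hek, hik.symm, hjk.symm] at this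
  · exfalso
    rw [e] at sij
    rcases sij with f | f | f
    · have := congrFun f k
      simp [hei, hej, hek, hik.symm, hjk.symm] at this
    · have := congrFun f i
      simp [hei, hek, hik] at this
    · have := congrFun f k
      simp [hei, hej, hek, hik.symm, hjk.symm] at this
  · right
    have hejt : transv i j hij ej = ei + ej := by
      rw [transv_apply, hej, Pi.single_eq_same, add_comm]
    have heit : transv i j hij ei = ei := by
      rw [transv_apply, hei, Pi.single_eq_of_ne hij.symm, Pi.single_zero, add_zero]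
    have hekt : transv i j hij ek = ek := by
      rw [transv_apply, hek, Pi.single_eq_of_ne hjk, Pi.single_zero, add_zero]
    refine hext _ heit (hejt.trans e.symm) (hekt.trans ?_)
    rw [e] at sij
    rcases sij with f | f | f
    · rcases sk with g | g | g
      · exfalso
        have : σ ek = σ (ei + ej) := by rw [g, map_add, si, e, f]
        have := congrFun (σ.injective this) k
        simp [hei, hej, hek, hik.symm, hjk.symm] at this
      · exact g.symm
      · exact absurd (g.trans e.symm) hinj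
    · exfalso
      have := congrFun f k
      simp [hei, hej, hek, hik.symm, hjk.symm] at this
    · exfalso
      have := congrFun f i
      simp [hei, hej, hij] at this

/-- Four or more dimensions. -/
theorem pattern_ge_four (hm : 4 ≤ m) : ∃ col : (Fin m → ZMod r) → Fin 3,
    (∀ c, col c = 1 → ∃ i, c = Pi.single i 1) ∧
    (r = 2 → ∀ d : Fin m → ZMod r, d ≠ 0 → ∃ c, c ≠ 0 ∧ col c = 0 ∧ d ⬝ᵥ c ≠ 0) ∧ ∀ σ : (Fin m → ZMod r) ≃ₗ[ZMod r] (Fin m → ZMod r), (∀ c, c ≠ 0 → col (σ c) = col c) → σ = 1 := by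
  classical
  let ind : Finset (Fin m) → (Fin m → ZMod r) := fun T i => if i ∈ T then 1 else 0
  have hind : Function.Injective ind := by
    intro T T' h
    ext i
    have := congrFun h i
    by_cases hi : i ∈ T <;> by_cases hi' : i ∈ T' <;> simp [ind, hi, hi'] at this ⊢
  have hsum : ∀ T, ind T = ∑ i ∈ T, Pi.single i 1 := by
    intro T
    funext l
    simp [ind, Finset.sum_apply, Pi.single_apply]
  have hsing : ∀ i, ind {i} = Pi.single i 1 := fun i => by rw [hsum, Finset.sum_singleton]
  let low : ℕ → Finset (Fin m) := fun j => Finset.univ.filter (fun i => i.val < j)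
  let W : Finset (Fin m) := {⟨0, by omega⟩, ⟨2, by omega⟩, ⟨3, by omega⟩}
  let C2 : Finset (Fin m) → Prop := fun T => (∃ j, 2 ≤ j ∧ j ≤ m ∧ T = low j) ∨ T = W
  have hlow : ∀ j, j ≤ m → (low j).card = j := by
    intro j hj
    rw [← Finset.card_range j]
    refine Finset.card_bij (fun i _ => i.val) (fun i hi => ?_) (fun a _ b _ h => Fin.ext h) (fun b hb => ?_)
    · simpa [low] using hi
    · have hb' : b < j := Finset.mem_range.mp hb
      exact ⟨⟨b, by omega⟩, by simp [low, hb'], rfl⟩
  have hW : W.card = 3 := by simp [W]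
  have hC2card : ∀ T, C2 T → 2 ≤ T.card := by
    rintro T (⟨j, h1, h2, rfl⟩ | rfl)
    · rw [hlow j h2]; exact h1
    · omega
  let col : (Fin m → ZMod r) → Fin 3 := fun c =>
    if ∃ i, c = ind {i} then 1 else if ∃ T, C2 T ∧ c = ind T then 2 else 0
  have hnz : ∀ T : Finset (Fin m), T.Nonempty → ind T ≠ 0 := by
    rintro T ⟨i, hi⟩ h
    have := congrFun h i
    simp [ind, hi] at this
  have hcol0 : ∀ T : Finset (Fin m), (∀ i, T ≠ {i}) → ¬ C2 T → col (ind T) = 0 := by
    intro T h1 h2
    simp only [col]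
    rw [if_neg fun ⟨i, hi⟩ => h1 i (hind hi), if_neg fun ⟨T', hT', e⟩ => h2 (hind e ▸ hT')]
  have hdot : ∀ (d : Fin m → ZMod r) T, d ⬝ᵥ ind T = ∑ i ∈ T, d i := by
    intro d T
    rw [hsum T, dotProduct_sum]
    exact Finset.sum_congr rfl fun i _ => by rw [dotProduct_single, mul_one]
  refine ⟨col, fun c hc => ?_, fun hr d hd => ?_, fun σ hσ => ?_⟩
  · simp only [col] at hc
    split_ifs at hc with ha hb
    · obtain ⟨i, rfl⟩ := ha
      exact ⟨i, hsing i⟩
    · exact absurd hc (by decide)
    · exact absurd hc (by decide)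
  · subst hr
    by_contra hall
    push Not at hall
    have hpair : ∀ a b : Fin m, a ≠ b → (2 ≤ a.val ∨ 2 ≤ b.val) → d a = d b := by
      intro a b hab h2
      have h := hall (ind {a, b}) (hnz _ (Finset.insert_nonempty _ _)) (hcol0 _ (fun i e => ?_) ?_)
      · rw [hdot, Finset.sum_pair hab] at h
        exact zmod_two_add h
      · have := congrArg Finset.card e
        rw [Finset.card_pair hab, Finset.card_singleton] at this
        omega
      · rintro (⟨j, h1, hj, e⟩ | e)
        · have hc := congrArg Finset.card e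
          rw [Finset.card_pair hab, hlow j hj] at hc
          have ha : a ∈ low j := e ▸ Finset.mem_insert_self a _
          have hb : b ∈ low j := e ▸ Finset.mem_insert_of_mem (Finset.mem_singleton_self b)
          simp [low] at ha hb
          omega
        · have hc := congrArg Finset.card e
          rw [Finset.card_pair hab, hW] at hc
          omega
    let k : Fin m := ⟨2, by omega⟩
    let l : Fin m := ⟨3, by omega⟩
    have hconst : ∀ a, d a = d k := fun a => by
      by_cases h : a = k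
      · rw [h]
      · exact hpair a k h (Or.inr le_rfl)
    let o : Fin m := ⟨1, by omega⟩
    have hcard3 : ({o, k, l} : Finset (Fin m)).card = 3 := by simp [o, k, l, Fin.ext_iff]
    have h := hall (ind {o, k, l}) (hnz _ (Finset.insert_nonempty _ _)) (hcol0 _ (fun i e => ?_) ?_)
    · rw [hdot, Finset.sum_congr rfl fun i _ => hconst i, Finset.sum_const, hcard3] at h
      refine hd (funext fun a => ?_)
      rw [hconst a, Pi.zero_apply]
      exact zmod_two_three h
    · rw [e, Finset.card_singleton] at hcard3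
      omega
    · rintro (⟨j, h1, hj, e⟩ | e)
      · rw [e, hlow j hj] at hcard3
        have hl : l ∈ low j := e ▸ by simp
        simp [low, l] at hl
        omega
      · have ho : o ∈ W := e ▸ Finset.mem_insert_self _ _
        simp [W, o] at ho
  -- the induced permutation
  have hπ : ∀ i, ∃ j, σ (ind {i}) = ind {j} := by
    intro i
    have h := hσ _ (hnz {i} (Finset.singleton_nonempty i))
    simp only [col] at h
    rw [if_pos (⟨i, rfl⟩ : ∃ j, ind {i} = ind {j})] at h
    split_ifs at h with ha hb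
    · exact ha
    · exact absurd h (by decide)
    · exact absurd h (by decide)
  choose π hπ using hπ
  have hπinj : Function.Injective π := fun a b h => by
    have := hπ a
    rw [h, ← hπ b] at this
    exact Finset.singleton_injective (hind (σ.injective this))
  have himg : ∀ T, σ (ind T) = ind (T.image π) := by
    intro T
    rw [hsum T, map_sum, hsum (T.image π), Finset.sum_image fun a _ b _ h => hπinj h]
    refine Finset.sum_congr rfl fun i _ => ?_
    rw [← hsing, hπ, hsing]
  have hC2 : ∀ T, C2 T → C2 (T.image π) := by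
    intro T hT
    have hT2 := hC2card T hT
    have h := hσ _ (hnz T (Finset.card_pos.mp (by omega)))
    rw [himg] at h
    simp only [col] at h
    rw [if_neg (show ¬ ∃ i, ind T = ind {i} from fun ⟨i, hi⟩ => by
      rw [hind hi, Finset.card_singleton] at hT2; omega), if_pos (⟨T, hT, rfl⟩ : ∃ T', C2 T' ∧ ind T = ind T')] at h
    split_ifs at h with ha hb
    · exact absurd h (by decide)
    · obtain ⟨T', hT', e⟩ := hb
      rwa [hind e]
    · exact absurd h (by decide)
  have hcard : ∀ T : Finset (Fin m), (T.image π).card = T.card := fun T => Finset.card_image_of_injective T hπinj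
  have hfix2 : (low 2).image π = low 2 := by
    rcases hC2 _ (Or.inl ⟨2, le_rfl, by omega, rfl⟩) with ⟨j, h1, h2, e⟩ | e
    · have := congrArg Finset.card e
      rw [hcard, hlow 2 (by omega), hlow j h2] at this
      rw [e, this]
    · have := congrArg Finset.card e
      rw [hcard, hlow 2 (by omega), hW] at this
      omega
  have h3W : ¬ low 2 ⊆ W := fun h => by
    have := h (show (⟨1, by omega⟩ : Fin m) ∈ low 2 by simp [low])
    simp [W] at this
  have hfix3 : (low 3).image π = low 3 := by
    rcases hC2 _ (Or.inl ⟨3, by omega, by omega, rfl⟩) with ⟨j, h1, h2, e⟩ | e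
    · have := congrArg Finset.card e
      rw [hcard, hlow 3 (by omega), hlow j h2] at this
      rw [e, this]
    · refine absurd ?_ h3W
      rw [← e, ← hfix2]
      refine Finset.image_subset_image fun i hi => ?_
      simp [low] at hi ⊢
      omega
  have hfixW : W.image π = W := by
    rcases hC2 _ (Or.inr rfl) with ⟨j, h1, h2, e⟩ | e
    · have := congrArg Finset.card e
      rw [hcard, hW, hlow j h2] at this
      subst this
      have : W = low 3 := Finset.image_injective hπinj (e.trans hfix3.symm)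
      refine absurd ?_ h3W
      rw [this]
      intro i hi
      simp [low] at hi ⊢
      omega
    · exact e
  have hfix : ∀ j, 2 ≤ j → j ≤ m → (low j).image π = low j := by
    intro j h1 h2
    rcases hC2 _ (Or.inl ⟨j, h1, h2, rfl⟩) with ⟨l, l1, l2, e⟩ | e
    · have := congrArg Finset.card e
      rw [hcard, hlow j h2, hlow l l2] at this
      rw [e, this]
    · have := congrArg Finset.card e
      rw [hcard, hlow j h2, hW] at this
      subst this
      exact hfix3
  have hmem : ∀ {T : Finset (Fin m)}, T.image π = T → ∀ i, π i ∈ T ↔ i ∈ T := by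
    intro T hT i
    constructor
    · intro h
      rw [← hT, Finset.mem_image] at h
      obtain ⟨l, hl, e⟩ := h
      rwa [← hπinj e]
    · intro h
      rw [← hT]
      exact Finset.mem_image_of_mem π h
  refine linearEquiv_ext_single _ _ fun i => ?_
  rw [← hsing, hπ]
  have hπi : π i = i := by
    apply Fin.ext
    have hlt : ∀ j, 2 ≤ j → j ≤ m → ((π i).val < j ↔ i.val < j) := fun j h1 h2 => by
      have := hmem (hfix j h1 h2) i
      simpa [low] using this
    have hw := hmem hfixW i
    simp [W, Fin.ext_iff] at hw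
    have hπm := (π i).isLt
    have him := i.isLt
    rcases Nat.lt_or_ge i.val 4 with hi | hi
    · have h2 := hlt 2 le_rfl (by omega)
      have h3 := hlt 3 (by omega) (by omega)
      have h4 := hlt 4 (by omega) hm
      omega
    · have ha := hlt i.val (by omega) (by omega)
      have hb := hlt (i.val + 1) (by omega) (by omega)
      omega
  rw [hπi]
  rfl

/-- Three colours breaking a solvable group of invertible maps, with the first colour class small. -/
theorem exists_pattern {G : Type*} [Group G] [Group.IsSolvable G]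
    (ρ : G →* ((Fin m → ZMod r) ≃ₗ[ZMod r] (Fin m → ZMod r))) :
    ∃ col : (Fin m → ZMod r) → Fin 3,
      (∀ c, col c = 1 → ∃ i, c = Pi.single i 1) ∧
      (m = 3 → ∀ c c', col c = 1 → col c' = 1 → c = c') ∧
      (r = 2 → 3 ≤ m → ∀ d : Fin m → ZMod r, d ≠ 0 → ∃ c, c ≠ 0 ∧ col c = 0 ∧ d ⬝ᵥ c ≠ 0) ∧
      ∀ g, (∀ c, c ≠ 0 → col (ρ g c) = col c) → ρ g = 1 := by
  rcases Nat.lt_or_ge m 3 with h | h
  · obtain ⟨col, h1, hcol⟩ := pattern_le_two (r := r) (m := m) (by omega)
    exact ⟨col, h1, fun e => absurd e (by omega), fun _ e => absurd e (by omega), fun g hg => hcol _ hg⟩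
  rcases Nat.lt_or_ge m 4 with h' | h'
  swap
  · obtain ⟨col, h1, h2, hcol⟩ := pattern_ge_four (r := r) h'
    exact ⟨col, h1, fun e => absurd e (by omega), fun hr _ => h2 hr, fun g hg => hcol _ hg⟩
  obtain rfl : m = 3 := by omega
  by_contra hno
  push Not at hno
  refine BaseThree.not_isSolvable_of_transv ρ.range (fun i j hij => ?_)
    (Group.isSolvable_of_surjective ρ.rangeRestrict_surjective)
  obtain ⟨k, hik, hjk⟩ : ∃ k : Fin 3, i ≠ k ∧ j ≠ k := by revert hij; revert i j; decide
  obtain ⟨col, h1, h2, hcol⟩ := pattern_three (r := r) i j k hij hik hjk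
  obtain ⟨g, hg, hg1⟩ := hno col (fun c hc => ⟨i, h1 c hc⟩) (fun _ c c' hc hc' => (h1 c hc).trans (h1 c' hc').symm)
    (fun hr _ => h2 hr)
  exact ⟨g, (hcol _ hg).resolve_left hg1⟩

/-- A colour class small enough leaves enough pairs, odd exponent. -/
theorem good_odd (hr : r ≠ 2) (hm : 2 ≤ m) (Z : (Fin m → ZMod r) → Prop)
    (hZ : ∀ c, Z c → ∃ i, c = Pi.single i 1) : ∀ d : Fin m → ZMod r, d ≠ 0 → ∃ c, ¬ Z c ∧ d ⬝ᵥ c ≠ 0 ∧
      ∀ d' : Fin m → ZMod r, d' ≠ 0 → ∃ c', ¬ Z c' ∧ ¬ Z (c + c') ∧ d' ⬝ᵥ c' ≠ 0 := by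
  have hne : (-1 : ZMod r) ≠ 1 := by
    intro h
    have h2 : ((2 : ℕ) : ZMod r) = 0 := by rw [Nat.cast_ofNat]; linear_combination -h
    exact hr ((Nat.prime_dvd_prime_iff_eq Fact.out Nat.prime_two).mp ((ZMod.natCast_eq_zero_iff _ r).mp h2))
  have h1 : (-1 : ZMod r) ≠ 0 := neg_ne_zero.mpr one_ne_zero
  intro d hd
  obtain ⟨i, hi⟩ := Function.ne_iff.mp hd
  have hn : ∀ l, ¬ Z (Pi.single l (-1)) := fun l hl => by
    obtain ⟨l', e⟩ := hZ _ hl
    have := congrFun e l
    rw [Pi.single_eq_same] at this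
    by_cases hll : l = l'
    · rw [hll, Pi.single_eq_same] at this
      exact hne this
    · rw [Pi.single_eq_of_ne hll] at this
      exact h1 this
  have htwo : ∀ (c : Fin m → ZMod r) a b, a ≠ b → c a ≠ 0 → c b ≠ 0 → ¬ Z c := by
    intro c a b hab ha hb hZc
    obtain ⟨l, rfl⟩ := hZ c hZc
    by_cases hal : a = l
    · exact hb (Pi.single_eq_of_ne (fun e => hab (hal.trans e.symm)) _)
    · exact ha (Pi.single_eq_of_ne hal _)
  refine ⟨Pi.single i (-1), hn i, by simpa using hi, fun d' hd' => ?_⟩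
  by_cases h : ∃ j, j ≠ i ∧ d' j ≠ 0
  · obtain ⟨j, hji, hj⟩ := h
    refine ⟨Pi.single j (-1), hn j, htwo _ i j hji.symm ?_ ?_, by simpa using hj⟩
    · simp [hji.symm]
    · simp [hji]
  · push Not at h
    obtain ⟨k, hk⟩ : ∃ k : Fin m, k ≠ i := Fintype.exists_ne_of_one_lt_card (by simp; omega) i
    refine ⟨Pi.single i (-1) + Pi.single k (-1), htwo _ i k hk.symm ?_ ?_, htwo _ i k hk.symm ?_ ?_, ?_⟩
    · simp [hk.symm]
    · simp [hk]
    · intro e
      simp [hk.symm] at e
      exact hne (by linear_combination e)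
    · simp [hk]
    · obtain ⟨l, hl⟩ := Function.ne_iff.mp hd'
      obtain rfl : l = i := by_contra fun hli => hl (h l hli)
      simpa [dotProduct_add, h k hk] using hl

/-- A colour class small enough leaves enough pairs, four or more dimensions. -/
theorem good_two (hm : 4 ≤ m) (Z : (Fin m → ZMod 2) → Prop)
    (hZ : ∀ c, Z c → ∃ i, c = Pi.single i 1) : ∀ d : Fin m → ZMod 2, d ≠ 0 → ∃ c, ¬ Z c ∧ d ⬝ᵥ c ≠ 0 ∧
      ∀ d' : Fin m → ZMod 2, d' ≠ 0 → ∃ c', ¬ Z c' ∧ ¬ Z (c + c') ∧ d' ⬝ᵥ c' ≠ 0 := by
  have two : ∀ x y : ZMod 2, x + y = 0 → x = y := fun _ _ => zmod_two_add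
  have hsum : ∀ (c : Fin m → ZMod 2), Z c → ∑ l, c l = 1 := by
    intro c hc
    obtain ⟨l, rfl⟩ := hZ c hc
    simp
  have htwo : ∀ (c : Fin m → ZMod 2) a b, a ≠ b → c a ≠ 0 → c b ≠ 0 → ¬ Z c := by
    intro c a b hab ha hb hZc
    obtain ⟨l, rfl⟩ := hZ c hZc
    by_cases hal : a = l
    · exact hb (Pi.single_eq_of_ne (fun e => hab (hal.trans e.symm)) _)
    · exact ha (Pi.single_eq_of_ne hal _)
  let E : Fin m → (Fin m → ZMod 2) := fun i => Pi.single i 1
  have hE : ∀ d : Fin m → ZMod 2, ∀ i, d ⬝ᵥ E i = d i := fun d i => by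
    rw [dotProduct_single, mul_one]
  have hpairZ : ∀ a b, a ≠ b → ¬ Z (E a + E b) := fun a b hab =>
    htwo _ a b hab (by simp [E, hab]) (by simp [E, hab.symm])
  have hfour : ∀ a b e f : Fin m, ¬ Z (E a + E b + (E e + E f)) := by
    intro a b e f hc
    have := hsum _ hc
    simp [E, Finset.sum_add_distrib] at this
    revert this; decide
  have hout : ∀ a b : Fin m, ∃ e, e ≠ a ∧ e ≠ b := by
    intro a b
    obtain ⟨e, he⟩ := Finset.exists_mem_notMem_of_card_lt_card (s := ({a, b} : Finset (Fin m))) (t := Finset.univ)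
      (lt_of_le_of_lt Finset.card_le_two (by rw [Finset.card_univ, Fintype.card_fin]; omega))
    simp at he
    exact ⟨e, he.1, he.2⟩
  intro d hd
  obtain ⟨i, hi⟩ := Function.ne_iff.mp hd
  by_cases h : ∃ j, j ≠ i ∧ d i + d j ≠ 0
  · obtain ⟨j, hji, hj⟩ := h
    refine ⟨E i + E j, hpairZ i j hji.symm, by rwa [dotProduct_add, hE, hE], fun d' hd' => ?_⟩
    by_cases h' : ∃ a b, a ≠ b ∧ d' a + d' b ≠ 0
    · obtain ⟨a, b, hab, hd''⟩ := h'
      exact ⟨E a + E b, hpairZ a b hab, hfour i j a b, by rwa [dotProduct_add, hE, hE]⟩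
    · push Not at h'
      obtain ⟨k, hk1, hk2⟩ := hout i j
      obtain ⟨l, hl1, hl2⟩ : ∃ l, l ≠ i ∧ l ≠ j ∧ l ≠ k := by
        obtain ⟨e, he⟩ := Finset.exists_mem_notMem_of_card_lt_card (s := ({i, j, k} : Finset (Fin m))) (t := Finset.univ)
          (lt_of_le_of_lt Finset.card_le_three (by rw [Finset.card_univ, Fintype.card_fin]; omega))
        simp at he
        exact ⟨e, he.1, he.2.1, he.2.2⟩
      obtain ⟨hl3, hl4⟩ := hl2
      obtain ⟨a, ha⟩ := Function.ne_iff.mp hd'
      have hconst : ∀ b, d' b = 1 := by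
        intro b
        have e1 : d' a = 1 := zmod_two_one (by simpa using ha)
        rcases eq_or_ne a b with rfl | hab
        · exact e1
        · rw [← two _ _ (h' a b hab), e1]
      refine ⟨E i + E k + E l, htwo _ i k hk1.symm ?_ ?_, htwo _ j k hk2.symm ?_ ?_, ?_⟩
      · simp [E, hk1.symm, hl1.symm]
      · simp [E, hk1, hl4.symm]
      · simp [E, hji, hk2.symm, hl3.symm]
      · simp [E, hk1, hk2, hl4.symm]
      · simp only [dotProduct_add, hE, hconst]
        decide
  · push Not at h
    have hdi : d i = 1 := zmod_two_one (by simpa using hi)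
    have hconst : ∀ b, d b = 1 := fun b => by
      rcases eq_or_ne b i with rfl | hb
      · exact hdi
      · rw [← two _ _ (h b hb), hdi]
    obtain ⟨j, hj⟩ : ∃ j : Fin m, j ≠ i := Fintype.exists_ne_of_one_lt_card (by simp; omega) i
    obtain ⟨k, hk1, hk2⟩ := hout i j
    have hcc : (E i + E j + E k) + (E i + E j + E k) = 0 := funext fun l => by rw [Pi.add_apply, Pi.zero_apply]; exact CharTwo.add_self_eq_zero _
    refine ⟨E i + E j + E k, htwo _ i j hj.symm (by simp [E, hj.symm, hk1.symm]) (by simp [E, hj, hk2.symm]),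
      by simp only [dotProduct_add, hE, hconst]; decide, fun d' hd' => ?_⟩
    by_cases hc : d' ⬝ᵥ (E i + E j + E k) = 0
    · obtain ⟨a, b, ha, hb, hab⟩ : ∃ a b, (a = i ∨ a = j ∨ a = k) ∧ (b ≠ i ∧ b ≠ j ∧ b ≠ k) ∧ d' a + d' b ≠ 0 := by
        by_contra hall
        push Not at hall
        refine hd' (funext fun l => ?_)
        obtain ⟨e, he⟩ := Finset.exists_mem_notMem_of_card_lt_card (s := ({i, j, k} : Finset (Fin m))) (t := Finset.univ)
          (lt_of_le_of_lt Finset.card_le_three (by rw [Finset.card_univ, Fintype.card_fin]; omega))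
        simp at he
        have hi' := two _ _ (hall i e (Or.inl rfl) he)
        have hj' := two _ _ (hall j e (Or.inr (Or.inl rfl)) he)
        have hk' := two _ _ (hall k e (Or.inr (Or.inr rfl)) he)
        simp only [dotProduct_add, hE, hi', hj', hk'] at hc
        have he0 : d' e = 0 := zmod_two_three (by rw [succ_nsmul, two_nsmul]; exact hc)
        rw [Pi.zero_apply]
        by_cases hl : l = i ∨ l = j ∨ l = k
        · rcases hl with rfl | rfl | rfl
          exacts [hi'.trans he0, hj'.trans he0, hk'.trans he0]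
        · push Not at hl
          rw [← two _ _ (hall i l (Or.inl rfl) hl), hi', he0]
      have hab' : a ≠ b := by rintro rfl; exact absurd ha (by simp [hb.1, hb.2.1, hb.2.2])
      refine ⟨E a + E b, hpairZ a b hab', ?_, by rwa [dotProduct_add, hE, hE]⟩
      rcases ha with rfl | rfl | rfl
      · exact htwo _ j k hk2.symm (by simp [E, hj, hk2.symm, hb.2.1.symm]) (by simp [E, hk1, hk2, hb.2.2.symm])
      · exact htwo _ i k hk1.symm (by simp [E, hj.symm, hk1.symm, hb.1.symm]) (by simp [E, hk1, hk2, hb.2.2.symm])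
      · exact htwo _ i j hj.symm (by simp [E, hj.symm, hk1.symm, hb.1.symm]) (by simp [E, hj, hk2.symm, hb.2.1.symm])
    · refine ⟨E i + E j + E k, htwo _ i j hj.symm (by simp [E, hj.symm, hk1.symm]) (by simp [E, hj, hk2.symm]),
        ?_, hc⟩
      rw [hcc]
      intro h0
      obtain ⟨l, e⟩ := hZ 0 h0
      simpa using congrFun e l

/-- Three dimensions and one excluded point. -/
theorem good_three (Z : (Fin 3 → ZMod 2) → Prop) (i : Fin 3) (hZ : ∀ c, Z c → c = Pi.single i 1) :
    ∀ d : Fin 3 → ZMod 2, d ≠ 0 → ∃ c, ¬ Z c ∧ d ⬝ᵥ c ≠ 0 ∧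
      ∀ d' : Fin 3 → ZMod 2, d' ≠ 0 → ∃ c', ¬ Z c' ∧ ¬ Z (c + c') ∧ d' ⬝ᵥ c' ≠ 0 := by
  intro d hd
  obtain ⟨c, hc, hdc, h⟩ := three_good i d hd
  refine ⟨c, fun h' => hc (hZ _ h'), hdc, fun d' hd' => ?_⟩
  obtain ⟨c', h1, h2, h3⟩ := h d' hd'
  exact ⟨c', fun h' => h1 (hZ _ h'), fun h' => h2 (hZ _ h'), h3⟩

/-- A point with trivial stabiliser in the projective line over two elements. -/
theorem exists_point {G : Type*} [Group G] [Finite G] (h3 : ¬ 3 ∣ Nat.card G)
    (ρ : G →* ((Fin 2 → ZMod 2) ≃ₗ[ZMod 2] (Fin 2 → ZMod 2))) :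
    ∃ P, P ≠ 0 ∧ ∀ g, ρ g P = P → ρ g = 1 := by
  by_contra hno
  push Not at hno
  set e0 : Fin 2 → ZMod 2 := Pi.single 0 1 with he0
  set e1 : Fin 2 → ZMod 2 := Pi.single 1 1 with he1
  obtain ⟨g, hg, hg1⟩ := hno e0 (by rw [he0]; decide)
  obtain ⟨h, hh, hh1⟩ := hno e1 (by rw [he1]; decide)
  have hv : ∀ v : Fin 2 → ZMod 2, v = 0 ∨ v = e0 ∨ v = e1 ∨ v = e0 + e1 := by
    rw [he0, he1]; decide
  have hga : ρ g e1 = e0 + e1 := by
    rcases hv (ρ g e1) with e | e | e | e
    · exact absurd ((ρ g).injective (e.trans (map_zero _).symm)) (by rw [he1]; decide)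
    · exact absurd ((ρ g).injective (e.trans hg.symm)) (by rw [he0, he1]; decide)
    · refine absurd (linearEquiv_ext_single _ _ fun l => ?_) hg1
      fin_cases l
      exacts [hg, e]
    · exact e
  have hhb : ρ h e0 = e0 + e1 := by
    rcases hv (ρ h e0) with e | e | e | e
    · exact absurd ((ρ h).injective (e.trans (map_zero _).symm)) (by rw [he0]; decide)
    · refine absurd (linearEquiv_ext_single _ _ fun l => ?_) hh1
      fin_cases l
      exacts [e, hh]
    · exact absurd ((ρ h).injective (e.trans hh.symm)) (by rw [he0, he1]; decide)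
    · exact e
  have h0 : ρ (g * h) e0 = e1 := by
    rw [map_mul, LinearEquiv.mul_apply, hhb, map_add, hg, hga, ← add_assoc, he0, he1]
    decide
  have h1 : ρ (g * h) e1 = e0 + e1 := by rw [map_mul, LinearEquiv.mul_apply, hh, hga]
  have h01 : ρ (g * h) (e0 + e1) = e0 := by rw [map_add, h0, h1, he0, he1]; decide
  haveI := Fact.mk Nat.prime_three
  have hone := eq_one_of_hom ρ h3 (g := g * h) (by
    refine linearEquiv_ext_single _ _ fun l => ?_
    simp only [pow_succ, pow_zero, one_mul, LinearEquiv.mul_apply]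
    fin_cases l
    · show ρ (g * h) (ρ (g * h) (ρ (g * h) e0)) = e0
      rw [h0, h1, h01]
    · show ρ (g * h) (ρ (g * h) (ρ (g * h) e1)) = e1
      rw [h1, h01, h0])
  rw [hone] at h0
  exact absurd h0 (by rw [he0, he1]; decide)

end Cfsg.Agent.BaseCop
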