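import Cfsg.Agent.Lib.Grp.BaseCop.Frame
import Cfsg.Agent.Lib.Grp.BaseCop.Pattern

/-!
# The colourings of a frame

Given a rigid pair of corner vectors, pairs arise from three free classes, from two free classes and
zero, or, in characteristic two exponent, from one spanning free class and two further ones.
-/

set_option autoImplicit false
set_option linter.style.haveILetI false
set_option linter.unusedSectionVars false

universe u

namespace Cfsg.Agent.BaseCop

open BaseThree (Semi Ops chi)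
open BaseTwo (HasPair)

theorem two_others : ∀ Q d : Fin 2 → ZMod 2, Q ≠ 0 → d ≠ 0 → ∃ c, c ≠ 0 ∧ c ≠ Q ∧ d ⬝ᵥ c ≠ 0 := by
  decide +kernel

section

variable {A V : Type u} {K : Type*} [Group A] [Finite A] [AddCommGroup V] [Finite V]
  [Nontrivial V] [DistribMulAction A V] [Field K] [Finite K] [Module K V] {r : ℕ} {ζ : K} [Fact r.Prime]
  {O : Ops K (Module.End K V) r ζ} {m : ℕ} (P : O.Pre m) (D : Semi A V K)

/-- A pair of vectors pinning the fixed space of the diagonal side. -/
structure Rigid (x a : V) : Prop where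
  fix_x : P.proj x = x
  x_ne : x ≠ 0
  free : Free P x
  fix_a : P.proj a = a
  a_ne : a ≠ 0
  rigid : ∀ g : A, D.cj g P.proj = P.proj →
    (∀ n, P.Rem n → ∃ n', P.Rem n' ∧ ∀ y : V, P.proj y = y → g • n y = n' (g • y)) →
    g • x = x → g • a = a → ∀ y, P.proj y = y → g • y = y

/-- Vectors in the same class. -/
def Rel (x y : V) : Prop := ∃ n, Norm P n ∧ y = n x

theorem eq_zero_of_apply {n : Module.End K V} (hn : n ∈ O.carrier) {x : V} (h : n x = 0) : x = 0 := by
  obtain ⟨f, -, hf⟩ := O.exists_left_inv hn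
  have := DFunLike.congr_fun hf x
  rw [Module.End.mul_apply, h, map_zero, Module.End.one_apply] at this
  exact this.symm

theorem Free.ne_zero {x : V} (hx : Free P x) (h2 : (2 : K) ≠ 0) : x ≠ 0 := by
  intro h
  have e := hx ((2 : K) • 1) (P.rem_smul P.rem_one h2) (by rw [h, map_zero])
  have := smul_left_cancel_mem P O.one_mem (e.trans (one_smul K _).symm)
  exact one_ne_zero (α := K) (by linear_combination this)

variable {P D} (hmap : ∀ (a : A), ∀ e ∈ O.carrier, D.cj a e ∈ O.carrier) {x a : V} (hR : Rigid P D x a)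

include hmap hR

/-- At most one coordinate. -/
theorem hasPair_const (hr : r = 2) (hm : m ≤ 1) : HasPair A V := by
  subst hr
  obtain ⟨ρ, hρ⟩ := exists_frame_hom P D hmap x hR.fix_x hR.x_ne hR.free
  have huniq : ∀ c : Fin m → ZMod 2, c ≠ 0 → ∀ i, c i = 1 := fun c hc i => by
    obtain ⟨l, hl⟩ := Function.ne_iff.mp hc
    rw [show i = l from Fin.ext (by omega)]
    exact zmod_two_one (by simpa using hl)
  refine hasPair_of_frame P D x hR.fix_x ρ hρ (fun c => if c = 0 then a else x)
    (fun c => by split_ifs; exacts [hR.fix_a, hR.fix_x])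
    (by simpa using hR.rigid) (fun g _ => BaseThree.linearEquiv_ext_single _ _ fun i => ?_) fun d hd => ?_
  · have h1 : (Pi.single i 1 : Fin m → ZMod 2) ≠ 0 := fun h => by simpa using congrFun h i
    show ρ g (Pi.single i 1) = Pi.single i 1
    funext l
    rw [huniq _ (fun h => h1 ((ρ g).injective (h.trans (map_zero _).symm))) l, huniq _ h1 l]
  · refine ⟨d, by simpa [hd] using hR.free, ?_, fun d' hd' => ?_⟩
    · obtain ⟨i, hi⟩ := Function.ne_iff.mp hd
      haveI : Subsingleton (Fin m) := ⟨fun a b => Fin.ext (by omega)⟩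
      rw [dotProduct, Fintype.sum_subsingleton _ i]
      simpa using hi
    · have e : d = d' := funext fun i => (huniq d hd i).trans (huniq d' hd' i).symm
      obtain ⟨i, hi⟩ := Function.ne_iff.mp hd
      haveI : Subsingleton (Fin m) := ⟨fun a b => Fin.ext (by omega)⟩
      refine ⟨d, by simpa [hd] using hR.free, ?_, ?_⟩
      · rw [show d + d = 0 from funext fun l => CharTwo.add_self_eq_zero (d l)]
        simpa using hR.a_ne
      · rw [← e, dotProduct, Fintype.sum_subsingleton _ i]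
        simpa using hi

/-- Three free classes. -/
theorem hasPair_three [Group.IsSolvable A] (h2 : (2 : K) ≠ 0) (val : Fin 3 → V)
    (hval : ∀ i, P.proj (val i) = val i) (hfree : ∀ i, Free P (val i))
    (hrel : ∀ i j, Rel P (val i) (val j) → i = j) : HasPair A V := by
  classical
  obtain ⟨ρ, hρ⟩ := exists_frame_hom P D hmap x hR.fix_x hR.x_ne hR.free
  obtain ⟨col, -, -, -, hcol⟩ := exists_pattern ρ
  refine hasPair_of_frame P D x hR.fix_x ρ hρ (fun c => if c = 0 then a else val (col c))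
    (fun c => by split_ifs; exacts [hR.fix_a, hval _]) (by simpa using hR.rigid)
    (fun g hg => hcol g fun c hc => ?_) fun d hd => ?_
  · obtain ⟨n, hn, e⟩ := hg c hc
    have hc' : ρ g c ≠ 0 := fun h => hc ((ρ g).injective (h.trans (map_zero _).symm))
    simp only [if_neg hc, if_neg hc'] at e
    exact (hrel _ _ ⟨n, hn, e⟩).symm
  · have hsingle : ∀ d : Fin m → ZMod r, d ≠ 0 → ∃ c, c ≠ 0 ∧ d ⬝ᵥ c ≠ 0 := fun d hd => by
      obtain ⟨i, hi⟩ := Function.ne_iff.mp hd
      exact ⟨Pi.single i 1, fun h => by simpa using congrFun h i, by simpa using hi⟩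
    obtain ⟨c, hc, hdc⟩ := hsingle d hd
    refine ⟨c, by simpa [hc] using hfree _, hdc, fun d' hd' => ?_⟩
    obtain ⟨c', hc', hdc'⟩ := hsingle d' hd'
    refine ⟨c', by simpa [hc'] using hfree _, ?_, hdc'⟩
    split_ifs
    exacts [hR.a_ne, (hfree _).ne_zero P h2]

/-- Two free classes and zero. -/
theorem hasPair_zero [Group.IsSolvable A] (h2 : (2 : K) ≠ 0) (hm : 2 ≤ m) (hr : r = 2 → 3 ≤ m) (y z : V)
    (hy : P.proj y = y) (hz : P.proj z = z) (hyf : Free P y) (hzf : Free P z)
    (hyz : ¬ Rel P y z) (hzy : ¬ Rel P z y) : HasPair A V := by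
  classical
  obtain ⟨ρ, hρ⟩ := exists_frame_hom P D hmap x hR.fix_x hR.x_ne hR.free
  obtain ⟨col, hsing, hthree, -, hcol⟩ := exists_pattern ρ
  let val : Fin 3 → V := ![y, 0, z]
  have hy0 := hyf.ne_zero P h2
  have hz0 := hzf.ne_zero P h2
  have hrel : ∀ i j, Rel P (val i) (val j) → i = j := by
    intro i j h
    fin_cases i <;> fin_cases j <;> first | rfl | (exfalso; obtain ⟨n, hn, e⟩ := h; simp [val] at e)
    · exact hy0 (eq_zero_of_apply hn.1.1 e.symm)
    · exact hyz ⟨n, hn, e⟩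
    · exact hy0 e
    · exact hz0 e
    · exact hzy ⟨n, hn, e⟩
    · exact hz0 (eq_zero_of_apply hn.1.1 e.symm)
  let f : (Fin m → ZMod r) → V := fun c => if c = 0 then a else val (col c)
  let Z : (Fin m → ZMod r) → Prop := fun c => c ≠ 0 ∧ col c = 1
  have hZfree : ∀ c, c ≠ 0 → ¬ Z c → Free P (f c) := fun c hc hZc => by
    have hne : col c ≠ 1 := fun h => hZc ⟨hc, h⟩
    simp only [f, if_neg hc]
    revert hne; generalize col c = k; intro hne
    fin_cases k <;> simp [val] at hne ⊢
    exacts [hyf, hzf]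
  have hZnz : ∀ c, ¬ Z c → f c ≠ 0 := fun c hZc => by
    by_cases hc : c = 0
    · simpa [f, hc] using hR.a_ne
    · exact (hZfree c hc hZc).ne_zero P h2
  have hgood : ∀ d : Fin m → ZMod r, d ≠ 0 → ∃ c, ¬ Z c ∧ d ⬝ᵥ c ≠ 0 ∧
      ∀ d' : Fin m → ZMod r, d' ≠ 0 → ∃ c', ¬ Z c' ∧ ¬ Z (c + c') ∧ d' ⬝ᵥ c' ≠ 0 := by
    by_cases hr2 : r = 2
    · subst hr2
      rcases Nat.lt_or_ge m 4 with h | h
      · obtain rfl : m = 3 := by have := hr rfl; omega
        by_cases hex : ∃ c, Z c
        · obtain ⟨c, hc⟩ := hex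
          obtain ⟨i, rfl⟩ := hsing c hc.2
          exact good_three Z i fun c' hc' => hthree rfl _ _ hc'.2 hc.2
        · exact good_three Z 0 fun c hc => absurd ⟨c, hc⟩ hex
      · exact good_two h Z fun c hc => hsing c hc.2
    · exact good_odd hr2 hm Z fun c hc => hsing c hc.2
  refine hasPair_of_frame P D x hR.fix_x ρ hρ f ?_ (by simpa [f] using hR.rigid)
    (fun g hg => hcol g fun c hc => ?_) fun d hd => ?_
  · intro c
    simp only [f]
    split_ifs
    · exact hR.fix_a
    · generalize col c = k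
      fin_cases k <;> simp [val, hy, hz]
  · obtain ⟨n, hn, e⟩ := hg c hc
    have hc' : ρ g c ≠ 0 := fun h => hc ((ρ g).injective (h.trans (map_zero _).symm))
    simp only [f, if_neg hc, if_neg hc'] at e
    exact (hrel _ _ ⟨n, hn, e⟩).symm
  · obtain ⟨c, hc, hdc, h⟩ := hgood d hd
    refine ⟨c, hZfree c (fun h => hdc (by rw [h, dotProduct_zero])) hc, hdc, fun d' hd' => ?_⟩
    obtain ⟨c', hc', hcc, hdc'⟩ := h d' hd'
    exact ⟨c', hZfree c' (fun h => hdc' (by rw [h, dotProduct_zero])) hc', hZnz _ hcc, hdc'⟩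

omit hmap hR in
theorem hasPair_two {P : O.Pre 2} (hmap : ∀ (a : A), ∀ e ∈ O.carrier, D.cj a e ∈ O.carrier)
    (hR : Rigid P D x a) (hr : r = 2) (h3 : ¬ 3 ∣ Nat.card A) (h2 : (2 : K) ≠ 0) (y z : V)
    (hy : P.proj y = y) (hz : P.proj z = z) (hyf : Free P y) (hz0 : z ≠ 0) (hzy : ¬ Rel P z y) :
    HasPair A V := by
  classical
  subst hr
  obtain ⟨ρ, hρ⟩ := exists_frame_hom P D hmap x hR.fix_x hR.x_ne hR.free
  obtain ⟨Q, hQ, hQρ⟩ := exists_point
    (fun h => h3 (h.trans (Subgroup.card_subgroup_dvd_card (MulAction.stabilizer A x)))) ρ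
  refine hasPair_of_frame P D x hR.fix_x ρ hρ (fun c => if c = 0 then a else if c = Q then z else y)
    (fun c => by split_ifs; exacts [hR.fix_a, hz, hy]) (by simpa using hR.rigid)
    (fun g hg => hQρ g ?_) fun d hd => ?_
  · by_contra hne
    obtain ⟨n, hn, e⟩ := hg Q hQ
    have hc' : ρ g Q ≠ 0 := fun h => hQ ((ρ g).injective (h.trans (map_zero _).symm))
    simp only [if_neg hQ, if_true, if_neg hc', if_neg hne] at e
    exact hzy ⟨n, hn, e⟩
  · have hdec := two_others
    obtain ⟨c, hc, hcQ, hdc⟩ := hdec Q d hQ hd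
    refine ⟨c, by simpa [hc, hcQ] using hyf, hdc, fun d' hd' => ?_⟩
    obtain ⟨c', hc', hcQ', hdc'⟩ := hdec Q d' hQ hd'
    refine ⟨c', by simpa [hc', hcQ'] using hyf, ?_, hdc'⟩
    split_ifs
    exacts [hR.a_ne, hz0, hyf.ne_zero P h2]

/-- A spanning free class and two further classes. -/
theorem hasPair_span [Group.IsSolvable A] (h2 : (2 : K) ≠ 0) (hr : r = 2) (hm : 3 ≤ m) (val : Fin 3 → V)
    (hval : ∀ i, P.proj (val i) = val i) (h0 : ∀ i, val i ≠ 0) (hfree : Free P (val 0))
    (hrel : ∀ i j, Rel P (val i) (val j) → i = j) : HasPair A V := by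
  classical
  obtain ⟨ρ, hρ⟩ := exists_frame_hom P D hmap x hR.fix_x hR.x_ne hR.free
  obtain ⟨col, -, -, hspan, hcol⟩ := exists_pattern ρ
  refine hasPair_of_frame P D x hR.fix_x ρ hρ (fun c => if c = 0 then a else val (col c))
    (fun c => by split_ifs; exacts [hR.fix_a, hval _]) (by simpa using hR.rigid)
    (fun g hg => hcol g fun c hc => ?_) fun d hd => ?_
  · obtain ⟨n, hn, e⟩ := hg c hc
    have hc' : ρ g c ≠ 0 := fun h => hc ((ρ g).injective (h.trans (map_zero _).symm))
    simp only [if_neg hc, if_neg hc'] at e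
    exact (hrel _ _ ⟨n, hn, e⟩).symm
  · obtain ⟨c, hc, hc0, hdc⟩ := hspan hr hm d hd
    refine ⟨c, by simpa [hc, hc0] using hfree, hdc, fun d' hd' => ?_⟩
    obtain ⟨c', hc', hc0', hdc'⟩ := hspan hr hm d' hd'
    refine ⟨c', by simpa [hc', hc0'] using hfree, ?_, hdc'⟩
    split_ifs
    exacts [hR.a_ne, h0 _]

/-- One coordinate, odd exponent. -/
theorem hasPair_line (hm : m = 1) (hr : r ≠ 2) (h2 : (2 : K) ≠ 0) (y z : V)
    (hy : P.proj y = y) (hz : P.proj z = z) (hyf : Free P y) (hzf : Free P z) (hyz : ¬ Rel P y z) :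
    HasPair A V := by
  classical
  subst hm
  obtain ⟨ρ, hρ⟩ := exists_frame_hom P D hmap x hR.fix_x hR.x_ne hR.free
  let e : Fin 1 → ZMod r := Pi.single 0 1
  have he : e ≠ 0 := fun h => by simpa [e] using congrFun h 0
  let f : (Fin 1 → ZMod r) → V := fun c => if c = 0 then a else if c = e then y else z
  have hf : ∀ c, c ≠ 0 → Free P (f c) := fun c hc => by
    simp only [f, if_neg hc]
    split_ifs
    exacts [hyf, hzf]
  refine hasPair_of_frame P D x hR.fix_x ρ hρ f
    (fun c => by simp only [f]; split_ifs; exacts [hR.fix_a, hy, hz]) (by simpa [f] using hR.rigid)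
    (fun g hg => BaseThree.linearEquiv_ext_single _ _ fun i => ?_) fun d hd => ?_
  · obtain rfl : i = 0 := Subsingleton.elim _ _
    by_contra hne
    obtain ⟨n, hn, h⟩ := hg e he
    have hc' : ρ g e ≠ 0 := fun h => he ((ρ g).injective (h.trans (map_zero _).symm))
    simp only [f, if_neg he, if_true, if_neg hc', if_neg (show ρ g e ≠ e from hne)] at h
    exact hyz ⟨n, hn, h⟩
  · have hdot : ∀ d : Fin 1 → ZMod r, d ≠ 0 → d ⬝ᵥ e ≠ 0 := fun d hd h => hd (funext fun i => by
      rw [Subsingleton.elim i 0, Pi.zero_apply]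
      simpa [e] using h)
    refine ⟨e, hf e he, hdot d hd, fun d' hd' => ⟨e, hf e he, ?_, hdot d' hd'⟩⟩
    by_cases hee : e + e = 0
    · simpa [f, hee] using hR.a_ne
    · exact (hf _ hee).ne_zero P h2

end

end Cfsg.Agent.BaseCop
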