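import Cfsg.Agent.Lib.Grp.BaseThree.Defs

/-!
# Two vectors with trivial common stabiliser: coprime solvable groups

Basic reductions. One pair gives as many pairs in different orbits as the characteristic, because a
group of order prime to the characteristic cannot induce a transvection.
-/

set_option autoImplicit false
set_option linter.style.haveILetI false

universe u

namespace Cfsg.Agent.BaseCop

open BaseTwo (HasPair IsInv IsCR IsIrr invAction isCR_invAction isCR_of_isIrr hasPair_of_compl)

/-- The induction hypothesis: pairs exist for coprime modules of size at most `n`. -/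
def ModHyp (n : ℕ) : Prop :=
  ∀ (A : Type u) (V : Type u) [Group A] [Finite A] [AddCommGroup V] [Finite V] [DistribMulAction A V],
    Group.IsSolvable A → (Nat.card A).Coprime (Nat.card V) → IsCR A V → Nat.card V ≤ n → HasPair A V

/-- A reducible module. -/
theorem hasPair_of_reducible {A : Type u} {V : Type u} [Group A] [Finite A] [AddCommGroup V]
    [Finite V] [DistribMulAction A V] (hsol : Group.IsSolvable A)
    (hcop : (Nat.card A).Coprime (Nat.card V)) (hcr : IsCR A V)
    {n : ℕ} (hn : Nat.card V ≤ n + 1) (IH : ModHyp.{u} n) (hred : ¬ IsIrr A V) : HasPair A V := by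
  obtain ⟨U, hU, hU0, hU1⟩ : ∃ U : AddSubgroup V, IsInv A U ∧ U ≠ ⊥ ∧ U ≠ ⊤ := by
    simpa [IsIrr, not_or] using hred
  obtain ⟨W, hW, hinf, hsup⟩ := hcr U hU
  have hW1 : W ≠ ⊤ := fun e => hU0 (by rw [e, inf_top_eq] at hinf; exact hinf)
  have hlt : ∀ X : AddSubgroup V, X ≠ ⊤ → Nat.card X ≤ n := fun X hX => by
    have : Nat.card X < Nat.card V := lt_of_le_of_ne (AddSubgroup.card_le_card_addGroup X)
      fun h => hX (AddSubgroup.eq_top_of_card_eq X h)
    omega
  have hc : ∀ X : AddSubgroup V, (Nat.card A).Coprime (Nat.card X) := fun X =>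
    hcop.coprime_dvd_right (AddSubgroup.card_addSubgroup_dvd_card X)
  letI := invAction U hU
  refine hasPair_of_compl U W hU hW hinf hsup
    (IH A U hsol (hc U) (isCR_invAction hcr U hU) (hlt U hU1)) ?_
  letI := invAction W hW
  exact IH A W hsol (hc W) (isCR_invAction hcr W hW) (hlt W hW1)

/-- A nonzero vector killed by a prime makes the order of the group prime to it. -/
theorem not_dvd_card {A V : Type*} [Group A] [AddCommGroup V] [Finite V]
    (hcop : (Nat.card A).Coprime (Nat.card V)) {p : ℕ} (hp : p.Prime) {x : V} (hx : x ≠ 0)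
    (hpx : p • x = 0) : ¬ p ∣ Nat.card A := by
  intro h
  have h1 : addOrderOf x = p := by
    rcases (Nat.dvd_prime hp).mp (addOrderOf_dvd_of_nsmul_eq_zero hpx) with h | h
    · exact absurd (AddMonoid.addOrderOf_eq_one_iff.mp h) hx
    · exact h
  have h2 : p ∣ Nat.card V := h1 ▸ addOrderOf_dvd_natCard x
  exact hp.one_lt.ne' (Nat.dvd_one.mp (hcop ▸ Nat.dvd_gcd h h2))

/-- No element moves a vector by a multiple of a fixed vector. -/
theorem eq_zero_of_shift {A V : Type*} [Group A] [Finite A] [AddCommGroup V] [DistribMulAction A V]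
    {p : ℕ} [Fact p.Prime] [Module (ZMod p) V] (hpA : ¬ p ∣ Nat.card A) {a : A} {x y : V} {c : ZMod p}
    (hx : a • x = x) (hy : a • y = y + c • x) (hx0 : x ≠ 0) : c = 0 := by
  have hlin : ∀ (d : ZMod p), a • d • x = d • x := fun d => by
    rw [ZMod.map_smul (DistribSMul.toAddMonoidHom V a) d x |> (fun e => (e : a • d • x = d • a • x)), hx]
  have hiter : ∀ j : ℕ, a ^ j • y = y + ((j : ZMod p) * c) • x := by
    intro j
    induction j with
    | zero => simp
    | succ j ih =>
      rw [pow_succ', mul_smul, ih, smul_add, hy, hlin, Nat.cast_succ, add_mul, one_mul, add_smul]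
      abel
  have h := hiter (Nat.card A)
  rw [pow_card_eq_one', one_smul, left_eq_add, smul_eq_zero] at h
  rcases mul_eq_zero.mp (h.resolve_right hx0) with h | h
  · exact absurd ((ZMod.natCast_eq_zero_iff _ p).mp h) hpA
  · exact h

/-- One pair gives `k` pairs in different orbits, for `k` at most the characteristic. -/
theorem pairs_of_hasPair {A V : Type*} [Group A] [Finite A] [AddCommGroup V] [Finite V] [Nontrivial V]
    [DistribMulAction A V] {p : ℕ} (hp : p.Prime) (hpV : ∀ x : V, p • x = 0)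
    (hpA : ¬ p ∣ Nat.card A) (h : HasPair A V) {k : ℕ} (hk : k ≤ p) :
    ∃ f : Fin k → V × V, ∀ i j (a : A), a • (f i).1 = (f j).1 → a • (f i).2 = (f j).2 →
      i = j ∧ ∀ x : V, a • x = x := by
  haveI := Fact.mk hp
  letI : Module (ZMod p) V := AddCommGroup.zmodModule (n := p) hpV
  obtain ⟨x, y, hx, hxy⟩ : ∃ x y : V, x ≠ 0 ∧
      ∀ a : A, a • x = x → a • y = y → ∀ z : V, a • z = z := by
    obtain ⟨v, w, hvw⟩ := h
    by_cases hv : v = 0
    · obtain ⟨x, hx, hxw⟩ : ∃ x : V, x ≠ 0 ∧ ∀ a : A, a • x = x → a • w = w := by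
        by_cases hw : w = 0
        · obtain ⟨x, hx⟩ := exists_ne (0 : V)
          exact ⟨x, hx, fun a _ => by rw [hw, smul_zero]⟩
        · exact ⟨w, hw, fun a h => h⟩
      exact ⟨x, w, hx, fun a h1 _ => hvw a (by rw [hv, smul_zero]) (hxw a h1)⟩
    · exact ⟨v, w, hv, hvw⟩
  refine ⟨fun i => (x, y + ((i : ℕ) : ZMod p) • x), fun i j a h1 h2 => ?_⟩
  have hlin : a • (((i : ℕ) : ZMod p) • x) = ((i : ℕ) : ZMod p) • x := by
    rw [show a • (((i : ℕ) : ZMod p) • x) = ((i : ℕ) : ZMod p) • a • x from
      ZMod.map_smul (DistribSMul.toAddMonoidHom V a) _ x, show a • x = x from h1]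
  have h3 : a • y = y + (((j : ℕ) : ZMod p) - ((i : ℕ) : ZMod p)) • x := by
    simp only [smul_add, hlin] at h2
    rw [sub_smul, ← add_sub_assoc, ← h2, add_sub_cancel_right]
  have h4 := eq_zero_of_shift hpA (show a • x = x from h1) h3 hx
  obtain rfl : i = j := by
    have e := congrArg ZMod.val (sub_eq_zero.mp h4).symm
    rw [ZMod.val_natCast, ZMod.val_natCast, Nat.mod_eq_of_lt (i.isLt.trans_le hk),
      Nat.mod_eq_of_lt (j.isLt.trans_le hk)] at e
    exact Fin.ext e
  refine ⟨rfl, hxy a h1 ?_⟩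
  rw [sub_self, zero_smul, add_zero] at h3
  exact h3

end Cfsg.Agent.BaseCop
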