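import Cfsg.Agent.Lib.Grp.BaseCop.Defs
import Cfsg.Agent.Lib.Grp.BaseThree.Frame

/-!
# A pair from a frame

The first vector is a corner vector with trivial stabiliser among the operators beside the frame, the
second is a combination of coloured corner vectors. What is needed of the colouring is isolated in three
conditions: rigidity of the corner, rigidity of the pattern, and enough free colours.
-/

set_option autoImplicit false
set_option linter.style.haveILetI false
set_option linter.unusedSectionVars false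

universe u

namespace Cfsg.Agent.BaseCop

open BaseThree (Semi Ops chi)
open BaseTwo (HasPair)

/-- A subgroup of coordinate vectors seen by every nonzero functional is everything. -/
theorem addSubgroup_eq_top {r : ℕ} [Fact r.Prime] {m : ℕ} (H : AddSubgroup (Fin m → ZMod r))
    (h : ∀ d : Fin m → ZMod r, d ≠ 0 → ∃ c ∈ H, d ⬝ᵥ c ≠ 0) : H = ⊤ := by
  classical
  let W : Submodule (ZMod r) (Fin m → ZMod r) :=
    { H.toAddSubmonoid with
      smul_mem' := fun k x hx => by
        show k • x ∈ H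
        rw [← ZMod.natCast_zmod_val k, Nat.cast_smul_eq_nsmul]
        exact H.nsmul_mem hx _ }
  by_contra hne
  obtain ⟨v, hv⟩ : ∃ v, v ∉ H := by
    by_contra hall
    push Not at hall
    exact hne (eq_top_iff.mpr fun v _ => hall v)
  obtain ⟨φ, hφv, hφ0⟩ := Submodule.exists_dual_map_eq_bot_of_notMem (p := W) (show v ∉ W from hv) inferInstance
  let d : Fin m → ZMod r := fun i => φ (Pi.single i 1)
  have hd : ∀ c, d ⬝ᵥ c = φ c := by
    intro c
    conv_rhs => rw [pi_eq_sum_univ' c, map_sum]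
    exact Finset.sum_congr rfl fun i _ => by rw [map_smul, smul_eq_mul, mul_comm]
  obtain ⟨c, hc, hdc⟩ := h d fun e => hφv (by rw [← hd, e, zero_dotProduct])
  refine hdc ?_
  rw [hd, ← Submodule.mem_bot (R := ZMod r), ← hφ0]
  exact Submodule.mem_map_of_mem (show c ∈ W from hc)

section

variable {A V : Type u} {K : Type*} [Group A] [Finite A] [AddCommGroup V] [Finite V]
  [Nontrivial V] [DistribMulAction A V] [Field K] [Finite K] [Module K V] {r : ℕ} {ζ : K} [Fact r.Prime]
  {O : Ops K (Module.End K V) r ζ} {m : ℕ} (P : O.Pre m)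

include P

theorem smul_left_cancel_mem {k k' : K} {e : Module.End K V} (he : e ∈ O.carrier) (h : k • e = k' • e) : k = k' := by
  haveI : Nontrivial (Module.End K V) := inferInstance
  have h1 : (k - k') • e = 0 := by rw [sub_smul, h, sub_self]
  exact sub_eq_zero.mp ((smul_eq_zero.mp h1).resolve_right (O.ne_zero he))

theorem decomp_mem {n : Module.End K V} (hn : P.Rem n) (a b : Fin m → ZMod r) :
    P.S a * P.D b * n ∈ O.carrier :=
  O.mul_mem _ (O.mul_mem _ (P.S_mem a) _ (P.D_mem b)) _ hn.1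

theorem D_move (d a b : Fin m → ZMod r) {n : Module.End K V} (hn : P.Rem n) :
    P.D d * (P.S a * P.D b * n) = chi ζ (d ⬝ᵥ a) • (P.S a * P.D b * n * P.D d) := by
  rw [← mul_assoc, ← mul_assoc, P.DS, smul_mul_assoc, smul_mul_assoc]
  congr 1
  rw [mul_assoc (P.S a), P.D_comm, ← mul_assoc, mul_assoc _ (P.D d), hn.2.1 d, ← mul_assoc]

theorem S_move (c a b : Fin m → ZMod r) {n : Module.End K V} (hn : P.Rem n) :
    P.S c * (P.S a * P.D b * n) = chi ζ (-(b ⬝ᵥ c)) • (P.S a * P.D b * n * P.S c) := by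
  rw [← mul_assoc, ← mul_assoc, P.S_comm, mul_assoc (P.S a), P.SD, mul_smul_comm, smul_mul_assoc]
  congr 1
  rw [← mul_assoc, mul_assoc _ (P.S c), hn.2.2 c, ← mul_assoc]

/-- The decomposition is unique. -/
theorem decomp_unique {n n' : Module.End K V} (hn : P.Rem n) (hn' : P.Rem n') {a b a' b' : Fin m → ZMod r}
    (h : P.S a * P.D b * n = P.S a' * P.D b' * n') : a = a' ∧ b = b' ∧ n = n' := by
  have ha : a = a' := by
    funext i
    have e := D_move P (Pi.single i 1) a b hn
    rw [h, D_move P _ a' b' hn', single_dotProduct, single_dotProduct, one_mul, one_mul] at e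
    have e' := smul_left_cancel_mem P (O.mul_mem _ (decomp_mem P hn' a' b') _ (P.D_mem _)) e
    have h0 : chi ζ (a i - a' i) = 1 := by
      refine mul_right_cancel₀ (O.chi_ne_zero (a' i)) ?_
      rw [← O.chi_add, sub_add_cancel, one_mul, ← e']
    exact sub_eq_zero.mp (O.chi_eq_one.mp h0)
  subst ha
  have hb : b = b' := by
    funext i
    have e := S_move P (Pi.single i 1) a b hn
    rw [h, S_move P _ a b' hn', dotProduct_single, dotProduct_single, mul_one, mul_one] at e
    have e' := smul_left_cancel_mem P (O.mul_mem _ (decomp_mem P hn' a b') _ (P.S_mem _)) e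
    have h0 : chi ζ (-b i - -b' i) = 1 := by
      refine mul_right_cancel₀ (O.chi_ne_zero (-b' i)) ?_
      rw [← O.chi_add, sub_add_cancel, one_mul, ← e']
    exact neg_inj.mp (sub_eq_zero.mp (O.chi_eq_one.mp h0))
  subst hb
  refine ⟨rfl, rfl, ?_⟩
  have := congrArg (fun e => P.D (-b) * (P.S (-a) * e)) h
  simpa only [← mul_assoc, mul_assoc (P.D (-b)) (P.S (-a)) (P.S a), P.S_neg_mul, mul_one, P.D_neg_mul, one_mul]
    using this

/-- The product of two decompositions. -/
theorem mul_decomp (a b a' b' : Fin m → ZMod r) {n n' : Module.End K V} (hn : P.Rem n) :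
    P.S a * P.D b * n * (P.S a' * P.D b' * n') =
      P.S (a + a') * P.D (b + b') * (chi ζ (b ⬝ᵥ a') • (n * n')) := by
  calc P.S a * P.D b * n * (P.S a' * P.D b' * n')
      = P.S a * P.D b * (n * P.S a') * P.D b' * n' := by simp only [mul_assoc]
    _ = P.S a * (P.D b * P.S a') * (n * P.D b') * n' := by rw [← hn.2.2]; simp only [mul_assoc]
    _ = P.S a * (P.D b * P.S a') * (P.D b' * n) * n' := by rw [hn.2.1]
    _ = _ := by
      rw [P.DS, P.S_add, P.D_add]
      simp only [mul_smul_comm, smul_mul_assoc, mul_assoc]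

theorem pow_decomp (a b : Fin m → ZMod r) {n : Module.End K V} (hn : P.Rem n) : ∀ j : ℕ,
    (P.S a * P.D b * n) ^ j =
      P.S (j • a) * P.D (j • b) * (chi ζ ((j.choose 2 : ZMod r) * (b ⬝ᵥ a)) • n ^ j)
  | 0 => by simp [P.S_zero, P.D_zero, O.chi_zero]
  | j + 1 => by
    have hnj : P.Rem (chi ζ ((j.choose 2 : ZMod r) * (b ⬝ᵥ a)) • n ^ j) :=
      P.rem_smul (P.rem_pow hn j) (O.chi_ne_zero _)
    rw [pow_succ, pow_decomp a b hn j, mul_decomp P _ _ _ _ hnj, succ_nsmul, succ_nsmul, smul_mul_assoc, smul_smul,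
      ← O.chi_add, ← pow_succ, Nat.choose_succ_succ, Nat.choose_one_right]
    congr 3
    rw [smul_dotProduct, nsmul_eq_mul, Nat.cast_add]
    ring

/-- The scalar multiples which may occur beside a translated shift. -/
def Norm (n : Module.End K V) : Prop :=
  P.Rem n ∧ (n ^ r = 1 ∨ (r = 2 ∧ n ^ r = -1))

theorem proj_fix_of_D {x : V} (h : ∀ d, P.D d x = x) : P.proj x = x := by
  simp only [Ops.Pre.proj, LinearMap.smul_apply, LinearMap.sum_apply, h, Finset.sum_const, Finset.card_univ,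
    Fintype.card_fun, ZMod.card, Fintype.card_fin]
  rw [← Nat.cast_smul_eq_nsmul K, smul_smul, inv_mul_cancel₀ (Ops.Pre.card_ne_zero P), one_smul]

theorem D_fix {x : V} (h : P.proj x = x) (d : Fin m → ZMod r) : P.D d x = x := by
  rw [← h, ← Module.End.mul_apply, Ops.Pre.D_proj P]

theorem rem_fix {x : V} (h : P.proj x = x) {n : Module.End K V} (hn : P.Rem n) : P.proj (n x) = n x := by
  have := DFunLike.congr_fun (Ops.Pre.proj_comm P fun d => (hn.2.1 d).symm) x
  rw [Module.End.mul_apply, Module.End.mul_apply, h] at this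
  exact this.symm

theorem coord (f : (Fin m → ZMod r) → V) (hf : ∀ b, P.proj (f b) = f b) (b : Fin m → ZMod r) :
    P.proj (P.S (-b) (∑ c, P.S c (f c))) = f b := by
  classical
  rw [map_sum, map_sum, Finset.sum_eq_single b]
  · rw [← Module.End.mul_apply (P.S (-b)), P.S_neg_mul, Module.End.one_apply, hf]
  · intro c _ hc
    rw [← hf c, ← Module.End.mul_apply (P.S (-b)), ← P.S_add, ← Module.End.mul_apply, ← Module.End.mul_apply,
      Ops.Pre.proj_S_proj P (fun e => hc (neg_add_eq_zero.mp e).symm), LinearMap.zero_apply]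
  · exact fun h => absurd (Finset.mem_univ _) h

variable (D : Semi A V K) (hmap : ∀ (a : A), ∀ e ∈ O.carrier, D.cj a e ∈ O.carrier)

include hmap

/-- The stabiliser of a free corner vector acts on the frame. -/
theorem exists_frame_hom (u : V) (hu : P.proj u = u) (hu0 : u ≠ 0)
    (hfree : ∀ n, P.Rem n → n u = u → n = 1) :
    ∃ ρ : MulAction.stabilizer A u →* ((Fin m → ZMod r) ≃ₗ[ZMod r] (Fin m → ZMod r)),
      ∀ g : MulAction.stabilizer A u, D.cj (g : A) P.proj = P.proj ∧
        (∀ n, P.Rem n → ∃ n', P.Rem n' ∧ ∀ y : V, P.proj y = y → (g : A) • n y = n' ((g : A) • y)) ∧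
        ∀ c, ∃ e n, Norm P n ∧ D.cj (g : A) (P.S c) = P.S (ρ g c) * P.D e * n := by
  classical
  let G := MulAction.stabilizer A u
  have hgu : ∀ g : G, (g : A) • u = u := fun g => g.2
  have hD : ∀ (g : G) d, ∃ d', D.cj (g : A) (P.D d) = P.D d' := by
    intro g d
    have hfix : D.cj (g : A) (P.D d) u = u := by
      conv_lhs => rw [← hgu g]
      rw [Semi.cj_smul_vec, D_fix P hu, hgu]
    obtain ⟨c, d', n, hn, he⟩ := P.decomp (hmap g _ (P.D_mem d))
    have hnu := rem_fix P hu hn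
    rw [he, Module.End.mul_apply, Module.End.mul_apply, D_fix P hnu] at hfix
    have hc : c = 0 := by
      by_contra hc
      refine hu0 ?_
      rw [← hu, ← hfix, ← hnu, ← Module.End.mul_apply, ← Module.End.mul_apply, Ops.Pre.proj_S_proj P hc,
        LinearMap.zero_apply]
    subst hc
    rw [P.S_zero, Module.End.one_apply] at hfix
    exact ⟨d', by rw [he, P.S_zero, one_mul, hfree n hn hfix, mul_one]⟩
  choose δ hδ using hD
  have hcjD : ∀ g : G, ∀ d, ∃ d', P.D d = D.cj (g : A) (P.D d') := by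
    intro g d
    refine ⟨δ g⁻¹ d, ?_⟩
    rw [← hδ, Subgroup.coe_inv, Semi.cj_inv_cj]
  have hπ : ∀ g : G, D.cj (g : A) P.proj = P.proj := by
    intro g
    have hinj : Function.Injective (δ g) := fun d d' h => Ops.Pre.D_injective P (by
      have := congrArg (D.cj (g : A)⁻¹) (show D.cj (g : A) (P.D d) = D.cj (g : A) (P.D d') by rw [hδ, hδ, h])
      rwa [Semi.cj_cj, Semi.cj_cj, inv_mul_cancel, Semi.cj_id, Semi.cj_id] at this)
    show D.cj (g : A) ((((r ^ m : ℕ)) : K)⁻¹ • ∑ d, P.D d) = (((r ^ m : ℕ)) : K)⁻¹ • ∑ d, P.D d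
    rw [Semi.cj_smul, map_inv₀, map_natCast, Semi.cj_sum]
    congr 1
    exact Fintype.sum_equiv (Equiv.ofBijective _ ⟨hinj, Finite.injective_iff_surjective.mp hinj⟩) _ _
      fun d => hδ g d
  have hrem : ∀ (g : G) n, P.Rem n → ∃ b n', P.Rem n' ∧ D.cj (g : A) n = P.S 0 * P.D b * n' := by
    intro g n hn
    obtain ⟨a, b, n', hn', he⟩ := P.decomp (hmap g _ hn.1)
    have ha : a = 0 := by
      funext i
      obtain ⟨d', hd'⟩ := hcjD g (Pi.single i 1)
      have h1 : P.D (Pi.single i 1) * D.cj (g : A) n = D.cj (g : A) n * P.D (Pi.single i 1) := by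
        rw [hd', ← Semi.cj_mul, ← Semi.cj_mul, hn.2.1]
      rw [he, D_move P _ a b hn', single_dotProduct, one_mul] at h1
      have := smul_left_cancel_mem P (O.mul_mem _ (decomp_mem P hn' a b) _ (P.D_mem _))
        (h1.trans (one_smul K _).symm)
      exact O.chi_eq_one.mp this
    subst ha
    exact ⟨b, n', hn', he⟩
  choose τ ε ν hν hτ using fun (g : G) c => P.decomp (hmap g _ (P.S_mem c))
  have hτmul : ∀ (g g' : G) c, τ (g * g') c = τ g (τ g' c) := by
    intro g g' c
    obtain ⟨b, n', hn', he⟩ := hrem g _ (hν g' c)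
    have e : D.cj (g : A) (P.S (τ g' c) * P.D (ε g' c) * ν g' c) =
        P.S (τ g (τ g' c)) * P.D (ε g (τ g' c)) * ν g (τ g' c) * (P.S 0 * P.D (δ g (ε g' c)) * 1) *
          (P.S 0 * P.D b * n') := by
      rw [Semi.cj_mul, Semi.cj_mul, hτ, hδ, he, P.S_zero, one_mul, one_mul, mul_one]
    rw [mul_decomp P _ _ _ _ (hν _ _), mul_decomp P _ _ _ _
      (P.rem_smul (P.rem_mul (hν _ _) P.rem_one) (O.chi_ne_zero _)), ← hτ, Semi.cj_cj] at e
    rw [← Subgroup.coe_mul, hτ] at e
    have := (decomp_unique P (hν _ _) (P.rem_smul (P.rem_mul (P.rem_smul (P.rem_mul (hν _ _) P.rem_one)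
      (O.chi_ne_zero _)) hn') (O.chi_ne_zero _)) e).1
    rw [this, add_zero, add_zero]
  have hτone : ∀ c, τ 1 c = c := by
    intro c
    have e : P.S (τ 1 c) * P.D (ε 1 c) * ν 1 c = P.S c * P.D 0 * 1 := by
      rw [← hτ, Subgroup.coe_one, Semi.cj_id, P.D_zero, mul_one, mul_one]
    exact (decomp_unique P (hν _ _) P.rem_one e).1
  have hτadd : ∀ (g : G) c c', τ g (c + c') = τ g c + τ g c' := by
    intro g c c'
    have e : P.S (τ g (c + c')) * P.D (ε g (c + c')) * ν g (c + c') =
        P.S (τ g c) * P.D (ε g c) * ν g c * (P.S (τ g c') * P.D (ε g c') * ν g c') := by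
      rw [← hτ, ← hτ, ← hτ, P.S_add, Semi.cj_mul]
    rw [mul_decomp P _ _ _ _ (hν _ _)] at e
    exact (decomp_unique P (hν _ _) (P.rem_smul (P.rem_mul (hν _ _) (hν _ _)) (O.chi_ne_zero _)) e).1
  have hnorm : ∀ (g : G) c, Norm P (ν g c) := by
    intro g c
    refine ⟨hν g c, ?_⟩
    have h1 : (P.S (τ g c) * P.D (ε g c) * ν g c) ^ r = 1 := by
      rw [← hτ]
      have hpow : ∀ j : ℕ, D.cj (g : A) (P.S c) ^ j = D.cj (g : A) (P.S (j • c)) := fun j => by
        induction j with
        | zero => rw [pow_zero, zero_nsmul, P.S_zero, Semi.cj_one]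
        | succ j ih => rw [pow_succ, ih, succ_nsmul, P.S_add, Semi.cj_mul]
      rw [hpow, ← Nat.cast_smul_eq_nsmul (ZMod r), ZMod.natCast_self, zero_smul, P.S_zero, Semi.cj_one]
    rw [pow_decomp P _ _ (hν _ _)] at h1
    have h2 : ∀ x : Fin m → ZMod r, r • x = 0 := fun x => by
      rw [← Nat.cast_smul_eq_nsmul (ZMod r), ZMod.natCast_self, zero_smul]
    rw [h2, h2, P.S_zero, P.D_zero, one_mul, one_mul] at h1
    by_cases hr2 : r = 2
    · subst hr2
      rw [Nat.choose_self, Nat.cast_one, one_mul] at h1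
      set x := ε g c ⬝ᵥ τ g c
      have hx : chi ζ x = 1 ∨ chi ζ x = -1 := by
        unfold chi
        rw [O.root.eq_neg_one_of_two_right]
        exact neg_one_pow_eq_or K _
      rcases hx with hx | hx <;> rw [hx] at h1
      · exact Or.inl (by rwa [one_smul] at h1)
      · exact Or.inr ⟨rfl, by rw [neg_one_smul K (ν g c ^ 2)] at h1; rw [← h1, neg_neg]⟩
    · left
      obtain ⟨k, hk⟩ := O.prime.dvd_choose_self two_ne_zero (lt_of_le_of_ne O.prime.two_le (Ne.symm hr2))
      rw [hk, Nat.cast_mul, ZMod.natCast_self, zero_mul, zero_mul, O.chi_zero, one_smul] at h1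
      exact h1
  let τl : G → ((Fin m → ZMod r) →ₗ[ZMod r] (Fin m → ZMod r)) := fun g =>
    (AddMonoidHom.mk' (τ g) (hτadd g)).toZModLinearMap r
  refine ⟨MonoidHom.mk'
    (fun g => LinearEquiv.ofLinear (τl g) (τl g⁻¹)
      (LinearMap.ext fun c => by show τ g (τ g⁻¹ c) = c; rw [← hτmul, mul_inv_cancel, hτone])
      (LinearMap.ext fun c => by show τ g⁻¹ (τ g c) = c; rw [← hτmul, inv_mul_cancel, hτone]))
    (fun g g' => LinearEquiv.ext fun c => hτmul g g' c), fun g => ⟨hπ g, fun n hn => ?_, fun c => ?_⟩⟩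
  · obtain ⟨b, n', hn', he⟩ := hrem g n hn
    refine ⟨n', hn', fun y hy => ?_⟩
    have hgy : P.proj ((g : A) • y) = (g : A) • y := by
      conv_lhs => rw [← hπ g]
      rw [Semi.cj_smul_vec, hy]
    rw [← Semi.cj_smul_vec D, he, P.S_zero, one_mul, Module.End.mul_apply, D_fix P (rem_fix P hgy hn')]
  · exact ⟨ε g c, ν g c, hnorm g c, hτ g c⟩

/-- A vector fixed only by the trivial operator beside the frame. -/
def Free (x : V) : Prop := ∀ n, P.Rem n → n x = x → n = 1

omit hmap in
/-- A pair from a frame and a colouring. -/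
theorem hasPair_of_frame (u : V) (hu : P.proj u = u)
    (ρ : MulAction.stabilizer A u →* ((Fin m → ZMod r) ≃ₗ[ZMod r] (Fin m → ZMod r)))
    (hρ : ∀ g : MulAction.stabilizer A u, D.cj (g : A) P.proj = P.proj ∧
        (∀ n, P.Rem n → ∃ n', P.Rem n' ∧ ∀ y : V, P.proj y = y → (g : A) • n y = n' ((g : A) • y)) ∧
        ∀ c, ∃ e n, Norm P n ∧ D.cj (g : A) (P.S c) = P.S (ρ g c) * P.D e * n)
    (f : (Fin m → ZMod r) → V) (hf : ∀ c, P.proj (f c) = f c)
    (hrigid : ∀ g : A, D.cj g P.proj = P.proj →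
      (∀ n, P.Rem n → ∃ n', P.Rem n' ∧ ∀ y : V, P.proj y = y → g • n y = n' (g • y)) →
      g • u = u → g • f 0 = f 0 → ∀ y, P.proj y = y → g • y = y)
    (hpat : ∀ g : MulAction.stabilizer A u,
      (∀ c, c ≠ 0 → ∃ n, Norm P n ∧ f (ρ g c) = n (f c)) → ρ g = 1)
    (hgood : ∀ d : Fin m → ZMod r, d ≠ 0 → ∃ c, Free P (f c) ∧ d ⬝ᵥ c ≠ 0 ∧
      ∀ d' : Fin m → ZMod r, d' ≠ 0 → ∃ c', Free P (f c') ∧ f (c + c') ≠ 0 ∧ d' ⬝ᵥ c' ≠ 0) :
    HasPair A V := by
  classical
  refine ⟨u, ∑ c, P.S c (f c), fun g hg1 hg2 x => ?_⟩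
  let gG : MulAction.stabilizer A u := ⟨g, hg1⟩
  obtain ⟨hπ, hrem, hS⟩ := hρ gG
  choose e n hn he using hS
  change D.cj g P.proj = P.proj at hπ
  change ∀ n, P.Rem n → ∃ n', P.Rem n' ∧ ∀ y : V, P.proj y = y → g • n y = n' (g • y) at hrem
  change ∀ c, D.cj g (P.S c) = P.S (ρ gG c) * P.D (e c) * n c at he
  have hgπ : ∀ y, P.proj y = y → P.proj (g • y) = g • y := fun y hy => by
    conv_lhs => rw [← hπ]
    rw [Semi.cj_smul_vec, hy]
  have hmove : ∀ c, g • P.S c (f c) = P.S (ρ gG c) (n c (g • f c)) := fun c => by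
    rw [← Semi.cj_smul_vec D, he, Module.End.mul_apply, Module.End.mul_apply,
      D_fix P (rem_fix P (hgπ _ (hf c)) (hn c).1)]
  let τ : (Fin m → ZMod r) ≃ (Fin m → ZMod r) := (ρ gG).toEquiv
  have hcoord : ∀ c, f (ρ gG c) = n c (g • f c) := by
    have e1 : (∑ c, P.S c (f c)) = ∑ b, P.S b (n (τ.symm b) (g • f (τ.symm b))) := by
      conv_lhs => rw [← hg2, Finset.smul_sum]
      refine Fintype.sum_equiv τ _ _ fun c => ?_
      rw [Equiv.symm_apply_apply]
      exact hmove c
    intro c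
    have h := coord P f hf (ρ gG c)
    rw [e1, coord P _ (fun b => rem_fix P (hgπ _ (hf _)) (hn _).1) (ρ gG c),
      show τ.symm (ρ gG c) = c from τ.symm_apply_apply c] at h
    exact h.symm
  have hn0 : n 0 = 1 := by
    have e0 : P.S (ρ gG 0) * P.D (e 0) * n 0 = P.S 0 * P.D 0 * 1 := by
      rw [← he, P.S_zero, Semi.cj_one, P.D_zero, mul_one, mul_one]
    exact (decomp_unique P (hn 0).1 P.rem_one e0).2.2
  have hga : g • f 0 = f 0 := by
    have := hcoord 0
    rw [hn0, map_zero, Module.End.one_apply] at this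
    exact this.symm
  have hfix := hrigid g hπ hrem hg1 hga
  have hcoord' : ∀ c, f (ρ gG c) = n c (f c) := fun c => by rw [hcoord, hfix _ (hf c)]
  have hρ1 : ρ gG = 1 := hpat gG fun c _ => ⟨n c, hn c, hcoord' c⟩
  have hid : ∀ c, ρ gG c = c := fun c => by rw [hρ1]; rfl
  have hnc : ∀ c, Free P (f c) → n c = 1 := fun c hc => hc _ (hn c).1 (by rw [← hcoord', hid])
  let H : AddSubgroup (Fin m → ZMod r) :=
    { carrier := {c | D.cj g (P.S c) = P.S c}
      zero_mem' := by show D.cj g (P.S 0) = P.S 0; rw [P.S_zero, Semi.cj_one]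
      add_mem' := fun {a b} ha hb => by
        show D.cj g (P.S (a + b)) = P.S (a + b)
        rw [P.S_add, Semi.cj_mul, show D.cj g (P.S a) = P.S a from ha, show D.cj g (P.S b) = P.S b from hb]
      neg_mem' := fun {a} ha => by
        show D.cj g (P.S (-a)) = P.S (-a)
        have h1 : D.cj g (P.S (-a)) * P.S a = 1 := by
          conv_lhs => arg 2; rw [← show D.cj g (P.S a) = P.S a from ha]
          rw [← Semi.cj_mul, P.S_neg_mul, Semi.cj_one]
        calc D.cj g (P.S (-a)) = D.cj g (P.S (-a)) * P.S a * P.S (-a) := by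
              rw [mul_assoc, P.S_mul_neg, mul_one]
          _ = P.S (-a) := by rw [h1, one_mul] }
  have hH : H = ⊤ := addSubgroup_eq_top H fun d hd => by
    obtain ⟨c, hc, hdc, hgood'⟩ := hgood d hd
    refine ⟨c, ?_, hdc⟩
    show D.cj g (P.S c) = P.S c
    have hc1 := hnc c hc
    suffices h0 : e c = 0 by rw [he, hid, hc1, h0, P.D_zero, mul_one, mul_one]
    by_contra hne
    obtain ⟨c', hc', hne', hdot⟩ := hgood' (e c) hne
    have e2 : P.S (ρ gG (c + c')) * P.D (e (c + c')) * n (c + c') =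
        P.S (ρ gG c) * P.D (e c) * n c * (P.S (ρ gG c') * P.D (e c') * n c') := by
      rw [← he, ← he, ← he, P.S_add, Semi.cj_mul]
    rw [hc1, hnc c' hc', mul_decomp P _ _ _ _ P.rem_one, mul_one] at e2
    obtain ⟨-, -, e3⟩ := decomp_unique P (hn _).1 (P.rem_smul P.rem_one (O.chi_ne_zero _)) e2
    have h4 := hcoord' (c + c')
    rw [hid, e3, LinearMap.smul_apply, Module.End.one_apply] at h4
    have h5 : chi ζ (e c ⬝ᵥ ρ gG c') = 1 := (smul_left_injective K hne' (h4.symm.trans (one_smul K _).symm))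
    rw [hid] at h5
    exact hdot (O.chi_eq_one.mp h5)
  have hS1 : ∀ c, D.cj g (P.S c) = P.S c := fun c => show c ∈ H from hH ▸ trivial
  have hdec : x = ∑ c, P.S c (P.proj (P.S (-c) x)) := by
    have := DFunLike.congr_fun (Ops.Pre.sum_proj P) x
    simp only [LinearMap.sum_apply, Module.End.mul_apply, Module.End.one_apply] at this
    exact this.symm
  rw [hdec, Finset.smul_sum]
  refine Finset.sum_congr rfl fun c _ => ?_
  rw [← Semi.cj_smul_vec D, hS1, hfix _ (by rw [← Module.End.mul_apply, Ops.Pre.proj_idem P])]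

end

end Cfsg.Agent.BaseCop
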