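import Cfsg.Agent.Lib.Grp.BaseCop.Maschke
import Cfsg.Agent.Lib.Grp.Coprime
import Cfsg.Agent.Lib.Grp.CoprimeAbelian
import Cfsg.Agent.Lib.Grp.Frattini

/-!
# Coprime solvable actions on groups: two points with trivial common stabiliser

Pairs on the Frattini quotients of invariant Sylow subgroups give a pair in the product of these
subgroups. The fixed points of every subgroup are as many there as in the group, so the group has as
many pairs with any given stabiliser.
-/

set_option autoImplicit false
set_option linter.style.haveILetI false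

universe u

namespace Cfsg.Agent.BaseCop

open BaseTwo (HasPair IsCR)
open Grp (IsSylowIn)
open scoped Pointwise commutatorElement

/-- Points above a subgroup, by stabiliser. -/
theorem card_above_eq {G γ : Type*} [Group G] [Fintype (Subgroup G)] [Fintype γ] [DecidableEq (Subgroup G)]
    [DecidableLE (Subgroup G)] [DecidableLT (Subgroup G)] (k : γ → Subgroup G) (B : Subgroup G) :
    Nat.card {z // B ≤ k z} =
      Nat.card {z // k z = B} + ∑ C ∈ Finset.univ.filter (fun C => B < C), Nat.card {z // k z = C} := by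
  classical
  simp only [Nat.card_eq_fintype_card, Fintype.card_subtype]
  rw [Finset.card_eq_sum_card_fiberwise (f := k) (t := Finset.univ.filter fun C => B ≤ C)
    (fun z hz => by simpa using hz),
    ← Finset.add_sum_erase _ _ (show B ∈ Finset.univ.filter fun C => B ≤ C by simp)]
  congr 1
  · congr 1
    ext z
    simp only [Finset.mem_filter, Finset.mem_univ, true_and]
    exact ⟨fun e => e.2, fun e => ⟨e.ge, e⟩⟩
  · refine Finset.sum_congr ?_ fun C hC => ?_
    · ext C
      simp only [Finset.mem_erase, Finset.mem_filter, Finset.mem_univ, true_and]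
      exact ⟨fun e => lt_of_le_of_ne e.2 e.1.symm, fun e => ⟨e.ne', e.le⟩⟩
    · simp only [Finset.mem_filter, Finset.mem_univ, true_and] at hC
      congr 1
      ext z
      simp only [Finset.mem_filter, Finset.mem_univ, true_and]
      exact ⟨fun e => e.2, fun e => ⟨e ▸ hC.le, e⟩⟩

/-- Equal numbers of fixed points of every subgroup give equal numbers of points with every
stabiliser. -/
theorem card_stabiliser_eq {G α β : Type*} [Group G] [Finite G] [Finite α] [Finite β] (f : α → Subgroup G)
    (g : β → Subgroup G) (h : ∀ B : Subgroup G, Nat.card {z // B ≤ f z} = Nat.card {z // B ≤ g z})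
    (B : Subgroup G) : Nat.card {z // f z = B} = Nat.card {z // g z = B} := by
  classical
  haveI := Fintype.ofFinite α
  haveI := Fintype.ofFinite β
  haveI := Fintype.ofFinite (Subgroup G)
  induction B using WellFoundedGT.induction with
  | _ B ih =>
    have e := h B
    rw [card_above_eq f B, card_above_eq g B, Finset.sum_congr rfl fun C hC => ih C (by simpa using hC)] at e
    exact Nat.add_right_cancel e

section

variable {G : Type u} [Group G] [Finite G] (A K : Subgroup G)

/-- The fixed points of a subgroup in an invariant Sylow subgroup form a Sylow subgroup of its fixed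
points. -/
theorem card_sylow_fixed (hsol : Group.IsSolvable A) (hAK : A ≤ Subgroup.normalizer (K : Set G))
    (hcop : (Nat.card A).Coprime (Nat.card K)) {p : ℕ} [Fact p.Prime] {P : Subgroup G} (hP : IsSylowIn p P K)
    (hPA : A ≤ Subgroup.normalizer (P : Set G)) {B : Subgroup G} (hB : B ≤ A) :
    Nat.card ↥(P ⊓ Subgroup.centralizer (B : Set G)) =
      p ^ (Nat.card ↥(K ⊓ Subgroup.centralizer (B : Set G))).factorization p := by
  obtain ⟨X, hX⟩ := Grp.exists_isSylowIn p (K ⊓ Subgroup.centralizer (B : Set G))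
  have hBs : Group.IsSolvable B := by
    haveI := hsol
    exact Grp.isSolvable_of_le hB hsol
  have hcopB := hcop.coprime_dvd_left (Subgroup.card_dvd_of_le hB)
  have hXB : B ≤ Subgroup.normalizer (X : Set G) := by
    refine le_trans ?_ (Subgroup.centralizer_le_normalizer _)
    rw [Subgroup.le_centralizer_iff]
    exact hX.1.trans inf_le_right
  obtain ⟨Y, hY, hYB, hXY⟩ := Grp.exists_invariant_sylow_ge B K (hB.trans hAK) hcopB (Or.inl hBs)
    (hX.1.trans inf_le_left) hX.2.1 hXB
  obtain ⟨c, hc, hcY⟩ := Grp.invariant_sylow_conj B K (hB.trans hAK) hcopB (Or.inl hBs) hY hP hYB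
    (hB.trans hPA)
  have hX' := hX.smul (g := c) (Grp.conj_smul_eq_self_of_mem hc)
  have hle : MulAut.conj c • X ≤ P ⊓ Subgroup.centralizer (B : Set G) :=
    le_inf (hcY ▸ Subgroup.pointwise_smul_le_pointwise_smul_iff.mpr hXY) (hX'.1.trans inf_le_right)
  rw [← hX'.eq_of_le hle (inf_le_inf_right _ hP.1) (hP.2.1.to_le inf_le_left), hX'.card]

/-- Two points of an invariant `p`-subgroup with the smallest common stabiliser. -/
theorem exists_pair_pgroup (hsol : Group.IsSolvable A) {p : ℕ} [hp : Fact p.Prime] {P : Subgroup G}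
    (hP : IsPGroup p P) (hPA : A ≤ Subgroup.normalizer (P : Set G))
    (hcop : (Nat.card A).Coprime (Nat.card P)) :
    ∃ x ∈ P, ∃ y ∈ P, ∀ a ∈ A, a * x = x * a → a * y = y * a → ∀ z ∈ P, a * z = z * a := by
  have hcomm : ∀ a b : P ⧸ frattini P, a * b = b * a := by
    haveI := Subgroup.Normal.quotient_commutative_iff_commutator_le.mpr (Grp.pGroup_commutator_le_frattini hP)
    exact mul_comm'
  letI : CommGroup (P ⧸ frattini P) := { (inferInstance : Group (P ⧸ frattini P)) with mul_comm := hcomm }
  let conj : A → P →* P := Grp.conjEnd A P hPA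
  have hconj : ∀ a (x : P), (conj a x : G) = (a : G) * x * (a : G)⁻¹ := fun a x => rfl
  have hsurj : ∀ a, Function.Surjective (conj a) := fun a => by
    refine Finite.surjective_of_injective fun x y h => Subtype.ext ?_
    have := congrArg Subtype.val h
    rw [hconj, hconj] at this
    exact mul_left_cancel (mul_right_cancel this)
  let q : A → P ⧸ frattini P →* P ⧸ frattini P := fun a =>
    QuotientGroup.map _ _ (conj a) (frattini_le_comap_frattini_of_surjective (hsurj a))
  have hq : ∀ a (x : P), q a (QuotientGroup.mk x) = QuotientGroup.mk (conj a x) := fun a x => rfl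
  letI : DistribMulAction A (Additive (P ⧸ frattini P)) :=
    { smul := fun a v => Additive.ofMul (q a v.toMul)
      one_smul := fun v => by
        obtain ⟨x, hx⟩ := QuotientGroup.mk_surjective v.toMul
        show Additive.ofMul (q 1 v.toMul) = v
        rw [← hx, hq, show conj 1 x = x from Subtype.ext (by rw [hconj]; simp), hx]
        rfl
      mul_smul := fun a b v => by
        obtain ⟨x, hx⟩ := QuotientGroup.mk_surjective v.toMul
        show Additive.ofMul (q (a * b) v.toMul) = Additive.ofMul (q a (q b v.toMul))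
        rw [← hx, hq, hq, hq, show conj (a * b) x = conj a (conj b x) from
          Subtype.ext (by rw [hconj, hconj, hconj, Subgroup.coe_mul]; group)]
      smul_zero := fun a => by
        show Additive.ofMul (q a 1) = 0
        rw [map_one]
        rfl
      smul_add := fun a v w => by
        show Additive.ofMul (q a (v.toMul * w.toMul)) = Additive.ofMul (q a v.toMul * q a w.toMul)
        rw [map_mul] }
  have hcopV : (Nat.card A).Coprime (Nat.card (Additive (P ⧸ frattini P))) := by
    rw [Nat.card_congr Additive.toMul]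
    exact hcop.coprime_dvd_right (Subgroup.card_quotient_dvd_card _)
  obtain ⟨v, w, hvw⟩ := modHyp (Nat.card (Additive (P ⧸ frattini P))) A (Additive (P ⧸ frattini P)) hsol hcopV
    (isCR_of_coprime hp.out (fun v => by
      obtain ⟨x, hx⟩ := QuotientGroup.mk_surjective v.toMul
      show Additive.ofMul (v.toMul ^ p) = 0
      rw [← hx, ← QuotientGroup.mk_pow, (QuotientGroup.eq_one_iff _).mpr (Grp.pGroup_pow_mem_frattini hP x)]
      rfl) hcopV) le_rfl
  obtain ⟨x, hx⟩ := QuotientGroup.mk_surjective v.toMul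
  obtain ⟨y, hy⟩ := QuotientGroup.mk_surjective w.toMul
  refine ⟨x, x.2, y, y.2, fun a ha hax hay z hz => ?_⟩
  have hfix : ∀ u : P, a * (u : G) = u * a → conj ⟨a, ha⟩ u = u := fun u hu => Subtype.ext (by
    rw [hconj, hu, mul_inv_cancel_right])
  have htriv := hvw ⟨a, ha⟩
    (by show Additive.ofMul (q ⟨a, ha⟩ v.toMul) = v; rw [← hx, hq, hfix x hax, hx]; rfl)
    (by show Additive.ofMul (q ⟨a, ha⟩ w.toMul) = w; rw [← hy, hq, hfix y hay, hy]; rfl)
  -- a map trivial modulo the Frattini subgroup is trivial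
  set C := Subgroup.zpowers a with hC
  have hCA : C ≤ A := Subgroup.zpowers_le.mpr ha
  have hsup := Grp.commutator_sup_fixed C P (hCA.trans hPA) (hcop.coprime_dvd_left (Subgroup.card_dvd_of_le hCA))
    (Or.inl inferInstance)
  have hle : ⁅P, C⁆ ≤ (frattini P).map P.subtype := by
    rw [Subgroup.commutator_le]
    intro b hb d hd
    have h := htriv
    obtain ⟨i, rfl⟩ := Subgroup.mem_zpowers_iff.mp hd
    have hai : a ^ i ∈ A := A.zpow_mem ha i
    have hst : (⟨a, ha⟩ : A) ∈ MulAction.stabilizer A (Additive.ofMul (QuotientGroup.mk (⟨b, hb⟩ : P) : P ⧸ frattini P)) :=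
      h _
    have hst' := Subgroup.zpow_mem _ hst i
    have e : q ((⟨a, ha⟩ : A) ^ i) (QuotientGroup.mk ⟨b, hb⟩) = QuotientGroup.mk ⟨b, hb⟩ :=
      congrArg Additive.toMul (MulAction.mem_stabilizer_iff.mp hst')
    rw [hq, QuotientGroup.eq] at e
    refine ⟨_, (inferInstance : (frattini P).Normal).conj_mem _ e
      (conj ((⟨a, ha⟩ : A) ^ i) ⟨b, hb⟩), ?_⟩
    simp only [Subgroup.coe_subtype, Subgroup.coe_inv, Subgroup.coe_mul, hconj, Subgroup.coe_zpow,
      commutatorElement_def]
    group
  have htop : ((P ⊓ Subgroup.centralizer (C : Set G)).subgroupOf P) ⊔ frattini P = ⊤ := by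
    refine top_le_iff.mp fun t _ => ?_
    have ht : (t : G) ∈ (((P ⊓ Subgroup.centralizer (C : Set G)).subgroupOf P) ⊔ frattini P).map P.subtype := by
      rw [Subgroup.map_sup, Subgroup.map_subgroupOf_eq_of_le inf_le_left, sup_comm]
      exact (hsup.ge.trans (sup_le_sup_right hle _)) t.2
    obtain ⟨t', ht', e⟩ := ht
    rw [← Subtype.ext e]
    exact ht'
  have hc := frattini_nongenerating htop
  rw [Subgroup.subgroupOf_eq_top] at hc
  exact Subgroup.mem_centralizer_iff.mp (hc hz).2 a (Subgroup.mem_zpowers a)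

/-- Two points of a group with the smallest common stabiliser in a coprime solvable operator group. -/
theorem exists_pair_group (hsol : Group.IsSolvable A) (hAK : A ≤ Subgroup.normalizer (K : Set G))
    (hcop : (Nat.card A).Coprime (Nat.card K)) :
    ∃ x ∈ K, ∃ y ∈ K, ∀ a ∈ A, a * x = x * a → a * y = y * a → ∀ z ∈ K, a * z = z * a := by
  classical
  let I := (Nat.card K).primeFactors
  have hI : ∀ p : I, Fact (p : ℕ).Prime := fun p => ⟨Nat.prime_of_mem_primeFactors p.2⟩
  have hex : ∀ p : I, ∃ P : Subgroup G, IsSylowIn (p : ℕ) P K ∧ A ≤ Subgroup.normalizer (P : Set G) := fun p => by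
    haveI := hI p
    exact Grp.exists_invariant_sylow A K hAK hcop (Or.inl hsol) p
  choose P hP hPA using hex
  have hpair : ∀ p : I, ∃ x ∈ P p, ∃ y ∈ P p, ∀ a ∈ A, a * x = x * a → a * y = y * a →
      ∀ z ∈ P p, a * z = z * a := fun p => by
    haveI := hI p
    exact exists_pair_pgroup A hsol (hP p).2.1 (hPA p)
      (hcop.coprime_dvd_right (Subgroup.card_dvd_of_le (hP p).1))
  choose x hx y hy hxy using hpair
  let f : (↥K × ↥K) → Subgroup G := fun z => A ⊓ Subgroup.centralizer {(z.1 : G), (z.2 : G)}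
  let g : ((∀ p : I, P p) × (∀ p : I, P p)) → Subgroup G := fun z =>
    A ⊓ ⨅ p, Subgroup.centralizer {((z.1 p : P p) : G), ((z.2 p : P p) : G)}
  have hcount : ∀ B : Subgroup G, Nat.card {z // B ≤ f z} = Nat.card {z // B ≤ g z} := by
    intro B
    by_cases hB : B ≤ A
    swap
    · haveI : IsEmpty {z // B ≤ f z} := ⟨fun z => hB (z.2.trans inf_le_left)⟩
      haveI : IsEmpty {z // B ≤ g z} := ⟨fun z => hB (z.2.trans inf_le_left)⟩
      rw [Nat.card_of_isEmpty, Nat.card_of_isEmpty]
    set C := Subgroup.centralizer (B : Set G) with hC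
    have hmem : ∀ s t : G, B ≤ Subgroup.centralizer {s, t} ↔ s ∈ C ∧ t ∈ C := by
      intro s t
      rw [hC]
      simp only [SetLike.le_def, Subgroup.mem_centralizer_iff, Set.mem_insert_iff, Set.mem_singleton_iff,
        SetLike.mem_coe, forall_eq_or_imp, forall_eq]
      exact ⟨fun h => ⟨fun b hb => (h hb).1.symm, fun b hb => (h hb).2.symm⟩,
        fun h b hb => ⟨(h.1 b hb).symm, (h.2 b hb).symm⟩⟩
    have e1 : Nat.card {z // B ≤ f z} = Nat.card ↥(K ⊓ C) * Nat.card ↥(K ⊓ C) := by
      rw [← Nat.card_prod]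
      refine Nat.card_congr
        { toFun := fun z => (⟨z.1.1, z.1.1.2, ((hmem _ _).mp (le_inf_iff.mp z.2).2).1⟩,
            ⟨z.1.2, z.1.2.2, ((hmem _ _).mp (le_inf_iff.mp z.2).2).2⟩)
          invFun := fun z => ⟨(⟨z.1, z.1.2.1⟩, ⟨z.2, z.2.2.1⟩), le_inf hB ((hmem _ _).mpr ⟨z.1.2.2, z.2.2.2⟩)⟩
          left_inv := fun z => rfl
          right_inv := fun z => rfl }
    have e2 : Nat.card {z // B ≤ g z} = (∏ p, Nat.card ↥(P p ⊓ C)) * ∏ p, Nat.card ↥(P p ⊓ C) := by
      rw [← Nat.card_pi, ← Nat.card_prod]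
      refine Nat.card_congr
        { toFun := fun z => (fun p => ⟨z.1.1 p, (z.1.1 p).2, ((hmem _ _).mp (le_iInf_iff.mp (le_inf_iff.mp z.2).2 p)).1⟩,
            fun p => ⟨z.1.2 p, (z.1.2 p).2, ((hmem _ _).mp (le_iInf_iff.mp (le_inf_iff.mp z.2).2 p)).2⟩)
          invFun := fun z => ⟨(fun p => ⟨z.1 p, (z.1 p).2.1⟩, fun p => ⟨z.2 p, (z.2 p).2.1⟩),
            le_inf hB (le_iInf fun p => (hmem _ _).mpr ⟨(z.1 p).2.2, (z.2 p).2.2⟩)⟩
          left_inv := fun z => rfl
          right_inv := fun z => rfl }
    have e3 : ∏ p, Nat.card ↥(P p ⊓ C) = Nat.card ↥(K ⊓ C) := by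
      have hne : Nat.card ↥(K ⊓ C) ≠ 0 := Nat.card_pos.ne'
      have hsub : (Nat.card ↥(K ⊓ C)).factorization.support ⊆ I := by
        rw [Nat.support_factorization]
        exact Nat.primeFactors_mono (Subgroup.card_dvd_of_le inf_le_left) Nat.card_pos.ne'
      calc ∏ p, Nat.card ↥(P p ⊓ C) = ∏ p : I, (p : ℕ) ^ (Nat.card ↥(K ⊓ C)).factorization p :=
            Finset.prod_congr rfl fun p _ => by
              haveI := hI p
              exact card_sylow_fixed A K hsol hAK hcop (hP p) (hPA p) hB
        _ = ∏ p ∈ I, p ^ (Nat.card ↥(K ⊓ C)).factorization p :=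
            Finset.prod_coe_sort I fun p => p ^ (Nat.card ↥(K ⊓ C)).factorization p
        _ = Nat.card ↥(K ⊓ C) := by
            conv_rhs => rw [← Nat.prod_factorization_pow_eq_self hne]
            rw [Finsupp.prod_of_support_subset _ hsub _ fun i _ => pow_zero i]
    rw [e1, e2, e3]
  set A₀ := A ⊓ Subgroup.centralizer (K : Set G) with hA₀
  have hz₀ : g (fun p => ⟨x p, hx p⟩, fun p => ⟨y p, hy p⟩) = A₀ := by
    refine le_antisymm (fun a ha => ⟨ha.1, ?_⟩) (le_inf inf_le_left (le_iInf fun p =>
      inf_le_right.trans (Subgroup.centralizer_le ?_)))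
    · rintro t (rfl | rfl)
      exacts [(hP p).1 (hx p), (hP p).1 (hy p)]
    have hcent : ∀ p, ∀ z ∈ P p, a * z = z * a := fun p => by
      have h := Subgroup.mem_centralizer_iff.mp (Subgroup.mem_iInf.mp ha.2 p)
      exact hxy p a ha.1 (h _ (Set.mem_insert _ _)).symm (h _ (Set.mem_insert_of_mem _ rfl)).symm
    have hKa : K ≤ Subgroup.centralizer {a} := by
      refine le_trans (Grp.le_of_forall_sylow (H := K ⊓ Subgroup.centralizer {a}) inf_le_left fun q hq => ?_)
        inf_le_right
      by_cases hqI : q ∈ I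
      · refine ⟨P ⟨q, hqI⟩, hP ⟨q, hqI⟩, le_inf (hP ⟨q, hqI⟩).1 fun z hz => ?_⟩
        rw [Subgroup.mem_centralizer_iff]
        rintro t rfl
        exact hcent _ z hz
      · obtain ⟨X, hX⟩ := Grp.exists_isSylowIn q K
        refine ⟨X, hX, ?_⟩
        rw [Subgroup.card_eq_one.mp (show Nat.card X = 1 by
          rw [hX.card, Nat.factorization_eq_zero_of_not_dvd fun hd => hqI
            (Nat.mem_primeFactors.mpr ⟨hq.out, hd, Nat.card_pos.ne'⟩), pow_zero])]
        exact bot_le
    show a ∈ Subgroup.centralizer (K : Set G)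
    rw [Subgroup.mem_centralizer_iff]
    intro z hz
    exact (Subgroup.mem_centralizer_iff.mp (hKa hz) a rfl).symm
  have hpos : 0 < Nat.card {z // f z = A₀} := by
    rw [card_stabiliser_eq f g hcount A₀]
    haveI : Nonempty {z // g z = A₀} := ⟨⟨_, hz₀⟩⟩
    exact Nat.card_pos
  obtain ⟨⟨z, hz⟩⟩ := (Nat.card_pos_iff.mp hpos).1
  refine ⟨z.1, z.1.2, z.2, z.2.2, fun a ha h1 h2 t ht => ?_⟩
  have : a ∈ f z := ⟨ha, Subgroup.mem_centralizer_iff.mpr (by
    rintro s (rfl | rfl)
    exacts [h1.symm, h2.symm])⟩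
  rw [hz] at this
  exact (Subgroup.mem_centralizer_iff.mp this.2 t ht).symm

end

/-- Two points with trivial common stabiliser for a faithful action by automorphisms. -/
theorem exists_pair_action {A : Type*} {K : Type*} [Group A] [Finite A] [Group K] [Finite K]
    [MulDistribMulAction A K] [FaithfulSMul A K] (hA : Group.IsSolvable A)
    (hcop : (Nat.card A).Coprime (Nat.card K)) : ∃ x y : K, ∀ a : A, a • x = x → a • y = y → a = 1 := by
  let φ : A →* MulAut K := MulDistribMulAction.toMulAut A K
  let G := K ⋊[φ] A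
  haveI : Finite G := Finite.of_equiv (K × A) SemidirectProduct.equivProd.symm
  let A' : Subgroup G := (SemidirectProduct.inr : A →* G).range
  let K' : Subgroup G := (SemidirectProduct.inl : K →* G).range
  have hcA : Nat.card A' = Nat.card A :=
    (Nat.card_congr (MonoidHom.ofInjective SemidirectProduct.inr_injective).toEquiv).symm
  have hcK : Nat.card K' = Nat.card K :=
    (Nat.card_congr (MonoidHom.ofInjective SemidirectProduct.inl_injective).toEquiv).symm
  haveI : K'.Normal := by
    show (SemidirectProduct.inl : K →* G).range.Normal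
    rw [SemidirectProduct.range_inl_eq_ker_rightHom]
    infer_instance
  haveI := hA
  obtain ⟨_, ⟨x, rfl⟩, _, ⟨y, rfl⟩, h⟩ := exists_pair_group A' K'
    (Group.isSolvable_of_surjective (SemidirectProduct.inr : A →* G).rangeRestrict_surjective)
    (by rw [Subgroup.normalizer_eq_top]; exact le_top) (by rw [hcA, hcK]; exact hcop)
  have hconj : ∀ (a : A) (k : K), (SemidirectProduct.inl (a • k) : G) =
      SemidirectProduct.inr a * SemidirectProduct.inl k * SemidirectProduct.inr a⁻¹ :=
    fun a k => SemidirectProduct.inl_aut a k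
  have hcomm : ∀ (a : A) (k : K), a • k = k ↔
      (SemidirectProduct.inr a : G) * SemidirectProduct.inl k = SemidirectProduct.inl k * SemidirectProduct.inr a := by
    intro a k
    rw [← (SemidirectProduct.inl_injective (φ := φ)).eq_iff, hconj, map_inv, mul_inv_eq_iff_eq_mul]
  refine ⟨x, y, fun a hax hay => eq_of_smul_eq_smul fun k : K => ?_⟩
  rw [one_smul]
  exact (hcomm a k).mpr (h _ ⟨a, rfl⟩ ((hcomm a x).mp hax) ((hcomm a y).mp hay) _ ⟨k, rfl⟩)

end Cfsg.Agent.BaseCop
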