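import Cfsg.Agent.Lib.Grp.BaseCop.Group
import Cfsg.Agent.Lib.Grp.PiSeparableDPi
import Cfsg.Agent.Lib.Grp.PSolvable

/-!
# Three conjugates of a Hall `π`-subgroup of a `π`-soluble group meet in the `π`-core

Modulo the `π`-core the `π'`-core contains its centralizer, and a soluble Hall `π`-subgroup acts on it
coprimely, so two elements of it have trivial common stabiliser.
-/

set_option autoImplicit false
set_option linter.style.haveILetI false

universe u

namespace Cfsg.Agent.BaseCop.Hall

open Subgroup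
open scoped Pointwise
open Cfsg.Agent.Grp.PiSep

variable {G : Type u} [Group G] [Finite G] {π : Set ℕ}

theorem piNum_core : PiNum π (Nat.card (Cfsg.piCore π G)) :=
  (Grp.sSup_mem_of_closed {N : Subgroup G | N.Normal ∧ ∀ p : ℕ, p.Prime → p ∣ Nat.card N → p ∈ π}
    ⟨⊥, inferInstance, fun r hr h => by
      rw [Subgroup.card_bot] at h; exact absurd h hr.not_dvd_one⟩
    fun _ ⟨ha, ha'⟩ _ ⟨hb, hb'⟩ => ⟨inferInstance, fun r hr h => by
      haveI := hb
      rcases hr.dvd_mul.1 (h.trans (Grp.card_sup_dvd_mul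
        (by rw [Subgroup.normalizer_eq_top]; exact le_top))) with h1 | h1
      · exact ha' r hr h1
      · exact hb' r hr h1⟩).2

theorem le_core {N : Subgroup G} (hN : N.Normal) (h : PiNum π (Nat.card N)) : N ≤ Cfsg.piCore π G :=
  le_sSup ⟨hN, h⟩

theorem le_hall {H : Subgroup G} (hH : Cfsg.IsPiHall π H) {N : Subgroup G} (hN : N.Normal)
    (h : PiNum π (Nat.card N)) : N ≤ H := by
  haveI := hN
  have hs : PiNum π (Nat.card ↥(H ⊔ N)) := fun q hq hd =>
    PiNum.mul hH.1 h q hq (hd.trans (Grp.card_sup_dvd_mul (by rw [Subgroup.normalizer_eq_top]; exact le_top)))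
  have hone : H.relIndex (H ⊔ N) = 1 := by
    by_contra hne
    obtain ⟨q, hq, hd⟩ := Nat.exists_prime_and_dvd hne
    exact hH.2 q hq (hs q hq (hd.trans (Subgroup.relIndex_dvd_card _ _)))
      (hd.trans ⟨_, (Subgroup.relIndex_mul_index le_sup_left).symm⟩)
  exact le_sup_right.trans (Subgroup.relIndex_eq_one.1 hone)

/-- A chain whose factors are numbers of the set or free of it. -/
def HasChain (π : Set ℕ) (G : Type u) [Group G] : Prop :=
  ∃ (n : ℕ) (N : Fin (n + 1) → Subgroup G), N 0 = ⊥ ∧ N (Fin.last n) = ⊤ ∧ Monotone N ∧ (∀ i, (N i).Normal) ∧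
    ∀ i : Fin n, (∃ p ∈ π, p.Prime ∧ ∃ k : ℕ, (N i.castSucc).relIndex (N i.succ) = p ^ k) ∨
      (∀ q : ℕ, q.Prime → q ∣ (N i.castSucc).relIndex (N i.succ) → q ∉ π)

theorem hasChain_map {G' : Type u} [Group G'] (h : HasChain π G) (f : G →* G')
    (hf : Function.Surjective f) : HasChain π G' := by
  obtain ⟨n, N, h0, hl, hm, hn, hi⟩ := h
  refine ⟨n, fun i => (N i).map f, by simp [h0], by simp [hl, Subgroup.map_top_of_surjective f hf],
    fun i j hij => Subgroup.map_mono (hm hij), fun i => (hn i).map f hf, fun i => ?_⟩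
  have hd := Grp.relIndex_map_dvd f (hm i.castSucc_le_succ)
  rcases hi i with ⟨p, hpπ, hp, k, hk⟩ | hc
  · rw [hk] at hd
    obtain ⟨j, -, hj⟩ := (Nat.dvd_prime_pow hp).mp hd
    exact Or.inl ⟨p, hpπ, hp, j, hj⟩
  · exact Or.inr fun q hq hq' => hc q hq (hq'.trans hd)

theorem core_map_normal {D : Subgroup G} [D.Normal] :
    ((Cfsg.piCore π D).map D.subtype).Normal := by
  refine ⟨fun a ha g => ?_⟩
  obtain ⟨b, hb, rfl⟩ := ha
  set φ : D ≃* D := MulAut.conjNormal g
  refine ⟨φ b, ?_, by simp [φ]⟩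
  exact le_core ((Cfsg.piCore_normal π D).map φ.toMonoidHom φ.surjective)
    (by rw [Subgroup.card_map_of_injective (f := φ.toMonoidHom) φ.injective]; exact piNum_core) ⟨b, hb, rfl⟩

/-- The Hall-Higman centralizer lemma. -/
theorem centralizer_core_le (hG : HasChain π G) (h : Cfsg.piCore π G = ⊥) :
    Subgroup.centralizer (Cfsg.piCore {q | q ∉ π} G : Set G) ≤ Cfsg.piCore {q | q ∉ π} G := by
  obtain ⟨n, N, h0, hl, hm, hn, hi⟩ := hG
  set P := Cfsg.piCore {q | q ∉ π} G with hP
  have hPn : P.Normal := Cfsg.piCore_normal _ _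
  have hP' : PiNum {q | q ∉ π} (Nat.card P) := piNum_core
  set C := Subgroup.centralizer (P : Set G)
  have hCn : C.Normal := Subgroup.normal_centralizer
  suffices ∀ i : Fin (n + 1), C ⊓ N i ≤ P by simpa [hl] using this (Fin.last n)
  intro i
  induction i using Fin.induction with
  | zero => rw [h0, inf_bot_eq]; exact bot_le
  | succ i ih =>
    set D := C ⊓ N i.succ with hD
    haveI hDn : D.Normal := Subgroup.normal_inf_normal C (N i.succ)
    have hd : (N i.castSucc).relIndex D ∣ (N i.castSucc).relIndex (N i.succ) :=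
      Grp.relIndex_dvd_of_normal_le (hn _) inf_le_right
    have hle : N i.castSucc ⊓ D ≤ P :=
      le_trans (le_inf (inf_le_right.trans inf_le_left) inf_le_left) ih
    have hidx : P.relIndex D ∣ (N i.castSucc).relIndex D := by
      rw [← Subgroup.inf_relIndex_right (N i.castSucc) D]
      exact Subgroup.relIndex_dvd_of_le_left D hle
    have hdiv := hidx.trans hd
    rcases hi i with ⟨p, hpπ, hp, k, hk⟩ | hc
    · have hZπ : PiFree π (Nat.card (P.subgroupOf D)) := fun q hq hqπ hq' =>
        hP' q hq (hq'.trans (Subgroup.card_comap_dvd_of_injective P D.subtype D.subtype_injective)) hqπ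
      set Z := P.subgroupOf D with hZ
      haveI hZn : Z.Normal := hPn.subgroupOf D
      have hZc : ∀ z ∈ Z, ∀ d : D, d * z = z * d := fun z hz d => Subtype.ext
        (Subgroup.mem_centralizer_iff.mp d.2.1 z hz).symm
      have hπ : PiNum π Z.index := fun q hq hq' => by
        have := (Nat.prime_dvd_prime_iff_eq hq hp).mp (hq.dvd_of_dvd_pow (hk ▸ hq'.trans hdiv))
        rwa [this]
      obtain ⟨K, hK⟩ := Subgroup.exists_right_complement'_of_coprime (N := Z)
        (coprime_of hπ hZπ).symm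
      have hKn : K.Normal := by
        rw [← Subgroup.normalizer_eq_top_iff, eq_top_iff, ← hK.sup_eq_top]
        refine sup_le (fun z hz => Subgroup.centralizer_le_normalizer _ ?_) Subgroup.le_normalizer
        exact Subgroup.mem_centralizer_iff.mpr fun d _ => hZc z hz d
      have hKbot : K = ⊥ := by
        have h3 : ((Cfsg.piCore π D).map D.subtype) ≤ Cfsg.piCore π G := le_core core_map_normal
          (by rw [Subgroup.card_map_of_injective D.subtype_injective]; exact piNum_core)
        rw [h, le_bot_iff, Subgroup.map_eq_bot_iff_of_injective _ D.subtype_injective] at h3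
        exact le_bot_iff.mp (h3 ▸ le_core hKn (by rw [← hK.symm.index_eq_card]; exact hπ))
      have htop := hK.sup_eq_top
      rw [hKbot, sup_bot_eq, hZ, Subgroup.subgroupOf_eq_top] at htop
      exact htop
    · refine le_core hDn fun q hq hq' => ?_
      rw [← Grp.relIndex_mul_card_inf D P] at hq'
      rcases hq.dvd_mul.1 hq' with h1 | h1
      · exact hP' q hq (h1.trans (Subgroup.card_dvd_of_le inf_le_right))
      · exact hc q hq (h1.trans hdiv)

/-- A `π`-subgroup of a `π`-soluble group is soluble. -/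
theorem isSolvable_of_piNum (hG : HasChain π G) {H : Subgroup G} (hH : PiNum π (Nat.card H)) :
    Group.IsSolvable H := by
  obtain ⟨n, N, h0, hl, hm, hn, hi⟩ := hG
  suffices ∀ i : Fin (n + 1), Group.IsSolvable ↥(H ⊓ N i) by
    have h1 := this (Fin.last n)
    rwa [hl, inf_top_eq] at h1
  intro i
  induction i using Fin.induction with
  | zero =>
    rw [h0, inf_bot_eq]
    infer_instance
  | succ i ih =>
    haveI := hn i.castSucc
    let f : ↥(H ⊓ N i.succ) →* G ⧸ N i.castSucc :=
      (QuotientGroup.mk' (N i.castSucc)).comp (H ⊓ N i.succ).subtype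
    have hker : f.ker = (N i.castSucc).subgroupOf (H ⊓ N i.succ) := by
      ext x
      simp only [f, MonoidHom.mem_ker, MonoidHom.comp_apply, QuotientGroup.mk'_apply,
        QuotientGroup.eq_one_iff, Subgroup.mem_subgroupOf, Subgroup.coe_subtype]
    have hcard : Nat.card f.range = (N i.castSucc).relIndex (H ⊓ N i.succ) := by
      rw [← Subgroup.index_ker, hker, Subgroup.relIndex]
    have hd1 : Nat.card f.range ∣ (N i.castSucc).relIndex (N i.succ) := by
      rw [hcard]; exact Grp.relIndex_dvd_of_normal_le (hn _) inf_le_right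
    have hd2 : PiNum π (Nat.card f.range) := fun q hq h =>
      hH q hq ((h.trans (Subgroup.card_range_dvd f)).trans (Subgroup.card_dvd_of_le inf_le_left))
    haveI : Group.IsSolvable f.range := by
      rcases hi i with ⟨p, -, hp, k, hk⟩ | hc
      · haveI : Fact p.Prime := ⟨hp⟩
        rw [hk] at hd1
        obtain ⟨j, -, hj⟩ := (Nat.dvd_prime_pow hp).mp hd1
        haveI : Group.IsNilpotent f.range := (IsPGroup.of_card hj).isNilpotent
        infer_instance
      · have h1 : Nat.card f.range = 1 := by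
          by_contra hne
          obtain ⟨q, hq, hqd⟩ := Nat.exists_prime_and_dvd hne
          exact hc q hq (hqd.trans hd1) (hd2 q hq hqd)
        haveI := (Nat.card_eq_one_iff_unique.mp h1).1
        exact Group.isSolvable_of_comm fun a b => Subsingleton.elim _ _
    haveI := ih
    have hle : H ⊓ N i.castSucc ≤ H ⊓ N i.succ := inf_le_inf_left _ (hm i.castSucc_le_succ)
    refine Group.isSolvable_of_ker_le_range (Subgroup.inclusion hle) f.rangeRestrict ?_
    rw [MonoidHom.ker_rangeRestrict, hker]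
    intro x hx
    exact ⟨⟨x, x.2.1, hx⟩, rfl⟩

/-- Without a `π`-core, three conjugates of a Hall `π`-subgroup meet trivially. -/
theorem exists_three_core_free (hG : HasChain π G) (h : Cfsg.piCore π G = ⊥) {H : Subgroup G}
    (hH : PiNum π (Nat.card H)) :
    ∃ x y : G, ∀ g ∈ H, x⁻¹ * g * x ∈ H → y⁻¹ * g * y ∈ H → g = 1 := by
  set K := Cfsg.piCore {q | q ∉ π} G with hK
  have hcop : (Nat.card H).Coprime (Nat.card K) :=
    coprime_of hH fun q hq hqπ h' => (piNum_core (π := {q | q ∉ π}) (G := G)) q hq h' hqπ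
  haveI hKn : K.Normal := Cfsg.piCore_normal _ _
  have hbot : H ⊓ K = ⊥ := Subgroup.inf_eq_bot_of_coprime hcop
  obtain ⟨x, hx, y, hy, hxy⟩ := exists_pair_group H K (isSolvable_of_piNum hG hH)
    (by rw [Subgroup.normalizer_eq_top]; exact le_top) hcop
  have key : ∀ g ∈ H, ∀ z ∈ K, z⁻¹ * g * z ∈ H → g * z = z * g := by
    intro g hg z hz hgz
    have h1 : g⁻¹ * (z⁻¹ * g * z) = 1 := by
      rw [← Subgroup.mem_bot, ← hbot]
      refine Subgroup.mem_inf.mpr ⟨mul_mem (inv_mem hg) hgz, ?_⟩
      have e : g⁻¹ * (z⁻¹ * g * z) = g⁻¹ * z⁻¹ * g⁻¹⁻¹ * z := by group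
      rw [e]
      exact mul_mem (hKn.conj_mem _ (inv_mem hz) _) hz
    calc g * z = z * g * (g⁻¹ * (z⁻¹ * g * z)) := by group
      _ = z * g := by rw [h1, mul_one]
  refine ⟨x, y, fun g hg h1 h2 => ?_⟩
  rw [← Subgroup.mem_bot, ← hbot]
  exact Subgroup.mem_inf.mpr ⟨hg, centralizer_core_le hG h (Subgroup.mem_centralizer_iff.mpr fun z hz =>
    (hxy g hg (key g hg x hx h1) (key g hg y hy h2) z hz).symm)⟩

/-- Three conjugates of a Hall `π`-subgroup meet in the `π`-core. -/
theorem exists_three (hG : HasChain π G) {H : Subgroup G} (hH : Cfsg.IsPiHall π H) :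
    ∃ x y : G, H ⊓ MulAut.conj x • H ⊓ MulAut.conj y • H = Cfsg.piCore π G := by
  set O := Cfsg.piCore π G with hO
  haveI hOn : O.Normal := Cfsg.piCore_normal _ _
  have hOH : O ≤ H := le_hall hH hOn piNum_core
  let f := QuotientGroup.mk' O
  have hf : Function.Surjective f := QuotientGroup.mk'_surjective O
  have hcore : Cfsg.piCore π (G ⧸ O) = ⊥ := by
    set L := Cfsg.piCore π (G ⧸ O)
    have hle : L.comap f ≤ O := le_core ((Cfsg.piCore_normal π (G ⧸ O)).comap f)
      (by rw [card_comap]; exact PiNum.mul piNum_core piNum_core)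
    rw [← Subgroup.map_comap_eq_self_of_surjective hf L, eq_bot_iff, Subgroup.map_le_iff_le_comap,
      MonoidHom.comap_bot, QuotientGroup.ker_mk']
    exact hle
  obtain ⟨xb, yb, hxy⟩ := exists_three_core_free (hasChain_map hG f hf) hcore
    (map_hall (N := O) hH).1
  obtain ⟨x, rfl⟩ := hf xb
  obtain ⟨y, rfl⟩ := hf yb
  have hmem : ∀ z g : G, g ∈ MulAut.conj z • H ↔ z⁻¹ * g * z ∈ H := fun z g => by
    rw [Subgroup.mem_pointwise_smul_iff_inv_smul_mem, MulAut.smul_def, MulAut.conj_inv_apply]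
  refine ⟨x, y, le_antisymm ?_ fun g hg => ?_⟩
  · rintro g ⟨⟨hg, hgx⟩, hgy⟩
    rw [← QuotientGroup.eq_one_iff]
    refine hxy (f g) (Subgroup.mem_map_of_mem f hg) ?_ ?_
    · rw [← map_inv, ← map_mul, ← map_mul]
      exact Subgroup.mem_map_of_mem f ((hmem x g).mp hgx)
    · rw [← map_inv, ← map_mul, ← map_mul]
      exact Subgroup.mem_map_of_mem f ((hmem y g).mp hgy)
  · refine ⟨⟨hOH hg, (hmem x g).mpr (hOH ?_)⟩, (hmem y g).mpr (hOH ?_)⟩
    exacts [hOn.conj_mem' g hg x, hOn.conj_mem' g hg y]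

end Cfsg.Agent.BaseCop.Hall
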