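import Cfsg.Agent.Lib.Grp.BaseCop.Cases
import Cfsg.Agent.Lib.Grp.BaseCop.Blocks
import Cfsg.Agent.Lib.Grp.BaseThree.Main
import Cfsg.Agent.Lib.Grp.BaseTwo.Main

/-!
# Two vectors with trivial common stabiliser for coprime solvable groups

Every solvable group of order prime to the module it acts on has two vectors whose common stabiliser
acts trivially.
-/

set_option autoImplicit false
set_option linter.style.haveILetI false

universe u v

namespace Cfsg.Agent.BaseCop

open BaseThree (Semi Ops mul_pow_of_comm)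
open BaseTwo (HasPair IsInv IsCR IsIrr genRing toEnd toEnd_apply toEnd_mem_genRing toEnd_commute_genRing
  conj_mem_genRing IsFactor exists_factor commutator_le_of_factor linHom isCR_range isIrr_range hasPair_of_range)
open scoped commutatorElement

section

variable {A : Type u} {V : Type u} [Group A] [Finite A] [AddCommGroup V] [Finite V] [Nontrivial V]
  [DistribMulAction A V] [FaithfulSMul A V] {K : Type u} [Field K] [Finite K] [Module K V]

/-- The quasiprimitive case. -/
theorem hasPair_semilinear (hsol : Group.IsSolvable A) (hirr : IsIrr A V) {p : ℕ} (hp : p.Prime) (hp3 : 3 ≤ p)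
    (hpV : ∀ x : V, p • x = 0) (hcop : (Nat.card A).Coprime (Nat.card V)) (D : Semi A V K)
    (Z : Subgroup A) [Z.Normal] (ι : Z → Kˣ) (hι : ∀ (z : Z) (v : V), (z : A) • v = (ι z : K) • v)
    (hker : D.σ.ker = Subgroup.centralizer (Z : Set A))
    (hmax : ∀ Y : Subgroup A, Y.Normal → (∀ a ∈ Y, ∀ b ∈ Y, a * b = b * a) → Z ≤ Y → Y = Z)
    {n : ℕ} (hn : Nat.card V ≤ n + 1) (IH : ModHyp.{u} n) : HasPair A V := by
  classical
  haveI := hsol
  haveI := Fintype.ofFinite K
  have hZab : ∀ a ∈ Z, ∀ b ∈ Z, a * b = b * a := fun a ha b hb => eq_of_smul_eq_smul fun v : V => by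
    rw [mul_smul, mul_smul, hι ⟨a, ha⟩, hι ⟨b, hb⟩, hι ⟨a, ha⟩, hι ⟨b, hb⟩, smul_comm]
  set C := Subgroup.centralizer (Z : Set A) with hC
  have hlin : ∀ c ∈ C, ∀ (k : K) (v : V), c • k • v = k • c • v := fun c hc k v => by
    rw [← hker, MonoidHom.mem_ker] at hc
    rw [D.semilinear, hc]
    rfl
  haveI : C.Normal := by rw [← hker]; infer_instance
  have hZC : Z ≤ C := fun z hz => Subgroup.mem_centralizer_iff.mpr fun w hw => hZab w hw z hz
  rcases eq_or_lt_of_le hZC with heq | hlt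
  · -- only scalars are linear
    obtain ⟨v, hv⟩ := exists_ne (0 : V)
    obtain ⟨θ, hθ⟩ := IsCyclic.exists_generator (α := Kˣ)
    refine ⟨v, (θ : K) • v, fun g h0 h1 x => ?_⟩
    rw [D.semilinear, h0] at h1
    have hσθ : D.σ g θ = θ := smul_left_injective K hv h1
    have hgC : g ∈ Z := by
      rw [heq, ← hker, MonoidHom.mem_ker]
      refine RingEquiv.ext fun k => ?_
      rcases eq_or_ne k 0 with rfl | hk
      · simp
      obtain ⟨i, hi⟩ := Subgroup.mem_zpowers_iff.mp (hθ (Units.mk0 k hk))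
      have : k = (θ : K) ^ i := by rw [← Units.val_zpow_eq_zpow_val, hi, Units.val_mk0]
      rw [this, map_zpow₀, hσθ]
      rfl
    have hone : (ι ⟨g, hgC⟩ : K) = 1 := smul_left_injective K hv (by
      show (ι ⟨g, hgC⟩ : K) • v = (1 : K) • v
      rw [← hι, one_smul]
      exact h0)
    rw [show g = ((⟨g, hgC⟩ : Z) : A) from rfl, hι, hone, one_smul]
  -- a chief factor above the scalars
  obtain ⟨L, hL, -⟩ := exists_factor Z C C inferInstance hlt le_rfl
  haveI := hL.1
  have hLC : L ≤ C := hL.2.2.1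
  have hcent : L ⊓ Subgroup.centralizer (L : Set A) = Z := by
    refine hmax _ inferInstance (fun a ha b hb => (Subgroup.mem_centralizer_iff.mp hb.2 a ha.1)) ?_
    exact le_inf hL.2.1.le fun z hz => Subgroup.mem_centralizer_iff.mpr fun l hl =>
      ((Subgroup.mem_centralizer_iff.mp (hLC hl)) z hz).symm
  have hcomm : ∀ x ∈ L, ∀ y ∈ L, ⁅x, y⁆ ∈ Z := fun x hx y hy =>
    commutator_le_of_factor hsol hL (Subgroup.commutator_mem_commutator hx hy)
  -- the exponent
  obtain ⟨r, hr, hrpow⟩ : ∃ r : ℕ, r.Prime ∧ ∀ x ∈ L, x ^ r ∈ Z := by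
    let f := QuotientGroup.mk' Z
    haveI : (L.map f).Normal := Subgroup.Normal.map inferInstance f (QuotientGroup.mk'_surjective Z)
    haveI : Group.IsSolvable (A ⧸ Z) := Group.isSolvable_of_surjective (QuotientGroup.mk'_surjective Z)
    have hne : L.map f ≠ ⊥ := by
      rw [Ne, Subgroup.map_eq_bot_iff, QuotientGroup.ker_mk']
      exact hL.2.1.not_ge
    have hmin : ∀ X : Subgroup (A ⧸ Z), X.Normal → X ≤ L.map f → X = ⊥ ∨ X = L.map f := by
      intro X hX hXL
      have hle : X.comap f ≤ L := by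
        refine (Subgroup.comap_mono hXL).trans ?_
        rw [Subgroup.comap_map_eq, QuotientGroup.ker_mk', sup_eq_left.mpr hL.2.1.le]
      have hZX : Z ≤ X.comap f := by
        intro z hz
        show f z ∈ X
        rw [show f z = 1 from (QuotientGroup.eq_one_iff z).mpr hz]
        exact X.one_mem
      rcases eq_or_lt_of_le hZX with h | h
      · left
        rw [← Subgroup.map_comap_eq_self_of_surjective (QuotientGroup.mk'_surjective Z) X, ← h,
          Subgroup.map_eq_bot_iff, QuotientGroup.ker_mk']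
      · right
        rw [← hL.2.2.2 _ (hX.comap f) h hle,
          Subgroup.map_comap_eq_self_of_surjective (QuotientGroup.mk'_surjective Z) X]
    obtain ⟨-, r, hr, h⟩ := Grp.minimal_normal_solvable (inferInstance) hne hmin
    exact ⟨r, hr, fun x hx => (QuotientGroup.eq_one_iff _).mp
      ((map_pow f x r).trans (h _ ⟨x, hx, rfl⟩))⟩
  haveI := Fact.mk hr
  -- linear maps
  let toL : L →* Module.End K V :=
    { toFun := fun x => { toFun := fun v => (x : A) • v, map_add' := smul_add (x : A)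
                          map_smul' := fun k v => hlin x (hLC x.2) k v }
      map_one' := LinearMap.ext fun v => one_smul A v
      map_mul' := fun x y => LinearMap.ext fun v => mul_smul (x : A) y v }
  have htoL_inj : Function.Injective toL := fun x y h =>
    Subtype.ext (eq_of_smul_eq_smul fun v : V => DFunLike.congr_fun h v)
  have hscal : ∀ x : L, (x : A) ∈ Z → ∃ l : K, l ≠ 0 ∧ toL x = l • 1 := fun x hx =>
    ⟨ι ⟨x, hx⟩, (ι ⟨x, hx⟩).ne_zero, LinearMap.ext fun v => hι ⟨x, hx⟩ v⟩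
  have hEnd : ∀ a b : K, a • (1 : Module.End K V) = b • 1 → a = b := fun a b h => by
    obtain ⟨v, hv⟩ := exists_ne (0 : V)
    exact smul_left_injective K hv (DFunLike.congr_fun h v)
  have hpow : ∀ x : L, ∃ l : K, l ≠ 0 ∧ toL x ^ r = l • 1 := fun x => by
    obtain ⟨l, hl, h⟩ := hscal (x ^ r) (by rw [Subgroup.coe_pow]; exact hrpow x x.2)
    exact ⟨l, hl, by rw [← map_pow, h]⟩
  have hcscal : ∀ x y : L, ∃ c : K, c ^ r = 1 ∧ toL x * toL y = c • (toL y * toL x) := by
    intro x y
    obtain ⟨c, hc0, hc⟩ := hscal ⁅x, y⁆ (hcomm x x.2 y y.2)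
    have hxy : toL x * toL y = c • (toL y * toL x) := by
      rw [← map_mul, ← map_mul, ← one_mul (toL (y * x)), ← smul_mul_assoc, ← hc, ← map_mul, commutatorElement_def]
      congr 1
      group
    refine ⟨c, ?_, hxy⟩
    have hj : ∀ j : ℕ, toL x ^ j * toL y = c ^ j • (toL y * toL x ^ j) := by
      intro j
      induction j with
      | zero => simp
      | succ j ih =>
        rw [pow_succ, mul_assoc, hxy, mul_smul_comm, ← mul_assoc, ih, smul_mul_assoc, smul_smul, mul_assoc,
          ← pow_succ, ← pow_succ']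
    obtain ⟨l, hl, hlp⟩ := hpow x
    have h := hj r
    rw [hlp, smul_mul_assoc, mul_smul_comm, one_mul, mul_one, smul_smul] at h
    have h2 : (l - c ^ r * l) • toL y = 0 := by rw [sub_smul, ← h, sub_self]
    have hy0 : toL y ≠ 0 := fun e => by
      obtain ⟨v, hv⟩ := exists_ne (0 : V)
      have := DFunLike.congr_fun e v
      change (y : A) • v = 0 at this
      exact hv ((smul_eq_zero_iff_eq _).mp this)
    have h3 := (smul_eq_zero.mp h2).resolve_right hy0
    exact mul_right_cancel₀ hl (show c ^ r * l = 1 * l by rw [one_mul]; exact (sub_eq_zero.mp h3).symm)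
  obtain ⟨ζ, hζ, x₀, y₀, hx₀y₀⟩ : ∃ ζ : K, IsPrimitiveRoot ζ r ∧ ∃ x y : L, (x * y : L) ≠ y * x := by
    obtain ⟨x, y, hxy⟩ : ∃ x y : L, (x * y : L) ≠ y * x := by
      by_contra h
      push Not at h
      refine hL.2.1.not_ge fun x hx => ?_
      rw [← hcent]
      exact ⟨hx, Subgroup.mem_centralizer_iff.mpr fun y hy => congrArg Subtype.val (h ⟨y, hy⟩ ⟨x, hx⟩)⟩
    obtain ⟨c, hc1, hc⟩ := hcscal x y
    have hne : c ≠ 1 := fun e => hxy (htoL_inj (by rw [map_mul, map_mul, hc, e, one_smul]))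
    refine ⟨c, ?_, x, y, hxy⟩
    rw [← orderOf_eq_prime hc1 hne]
    exact IsPrimitiveRoot.orderOf c
  -- every element has a normalisation when there is no sign obstruction
  have hsplit : (r ≠ 2 ∨ IsSquare (-1 : K)) → ∀ x : L, ∃ l : K, l ≠ 0 ∧ toL x ^ r = l ^ r • 1 := by
    intro hcase
    let Sg : A → Prop := fun a => ∃ h : a ∈ L, ∃ l : K, l ≠ 0 ∧ toL ⟨a, h⟩ ^ r = l ^ r • 1
    have hprod : ∀ x y : L, ∀ l l' : K, toL x ^ r = l • 1 → toL y ^ r = l' • 1 →
        ∃ s : K, s ≠ 0 ∧ toL (x * y) ^ r = (s ^ r * (l * l')) • 1 := by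
      intro x y l l' hl hl'
      obtain ⟨c, hc1, hc⟩ := hcscal y x
      have h := mul_pow_of_comm hc r
      rw [← map_mul, hl, hl', smul_mul_assoc, one_mul, smul_smul, smul_smul] at h
      obtain ⟨s, hs0, hs⟩ : ∃ s : K, s ≠ 0 ∧ s ^ r = c ^ r.choose 2 := by
        rcases hcase with h2 | h2
        · obtain ⟨k, hk⟩ := hr.dvd_choose_self two_ne_zero (lt_of_le_of_ne hr.two_le (Ne.symm h2))
          exact ⟨1, one_ne_zero, by rw [one_pow, hk, pow_mul, hc1, one_pow]⟩
        · by_cases hr2 : r = 2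
          · subst hr2
            rcases sq_eq_one_iff.mp hc1 with rfl | rfl
            · exact ⟨1, one_ne_zero, by simp⟩
            · obtain ⟨s, hs⟩ := h2
              exact ⟨s, fun h0 => neg_ne_zero.mpr (one_ne_zero (α := K)) (by rw [hs, h0, mul_zero]),
                by rw [pow_two, ← hs, Nat.choose_self, pow_one]⟩
          · obtain ⟨k, hk⟩ := hr.dvd_choose_self two_ne_zero (lt_of_le_of_ne hr.two_le (Ne.symm hr2))
            exact ⟨1, one_ne_zero, by rw [one_pow, hk, pow_mul, hc1, one_pow]⟩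
      refine ⟨s, hs0, ?_⟩
      rw [h, hs, mul_assoc]
    have hSgZ : ∀ z ∈ Z, Sg z := fun z hz => by
      obtain ⟨l, hl, h⟩ := hscal ⟨z, hL.2.1.le hz⟩ hz
      exact ⟨hL.2.1.le hz, l, hl, by rw [h, smul_pow, one_pow]⟩
    let Ym : Submonoid A :=
      { carrier := {a | Sg a}
        one_mem' := hSgZ 1 Z.one_mem
        mul_mem' := by
          rintro a b ⟨ha, l, hl, hla⟩ ⟨hb, l', hl', hlb⟩
          obtain ⟨s, hs, h⟩ := hprod ⟨a, ha⟩ ⟨b, hb⟩ _ _ hla hlb
          exact ⟨L.mul_mem ha hb, s * (l * l'), mul_ne_zero hs (mul_ne_zero hl hl'), by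
            rw [show (⟨a * b, L.mul_mem ha hb⟩ : L) = ⟨a, ha⟩ * ⟨b, hb⟩ from rfl, h, mul_pow, mul_pow]⟩ }
    let Y : Subgroup A :=
      { Ym with
        inv_mem' := fun {a} ha => by
          have h1 : a⁻¹ = a ^ (orderOf a - 1) := by
            refine inv_eq_of_mul_eq_one_right ?_
            rw [← pow_succ', Nat.sub_add_cancel (orderOf_pos a), pow_orderOf_eq_one]
          show a⁻¹ ∈ Ym
          rw [h1]
          exact Ym.pow_mem ha _ }
    have hYn : Y.Normal := ⟨by
      rintro a ⟨ha, l, hl, hla⟩ g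
      have hmem := hL.1.conj_mem a ha g
      refine ⟨hmem, D.σ g l, (map_ne_zero (D.σ g)).mpr hl, ?_⟩
      have hcj : toL ⟨g * a * g⁻¹, hmem⟩ = D.cj g (toL ⟨a, ha⟩) := LinearMap.ext fun v => by
        show (g * a * g⁻¹) • v = g • a • g⁻¹ • v
        rw [mul_smul, mul_smul]
      have hp : ∀ j : ℕ, D.cj g (toL ⟨a, ha⟩) ^ j = D.cj g (toL ⟨a, ha⟩ ^ j) := fun j => by
        induction j with
        | zero => rw [pow_zero, pow_zero, Semi.cj_one]
        | succ j ih => rw [pow_succ, ih, pow_succ, Semi.cj_mul]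
      rw [hcj, hp, hla, Semi.cj_smul, Semi.cj_one, map_pow]⟩
    have hZY : Z ≤ Y := hSgZ
    have hYL : Y ≤ L := fun a ha => ha.1
    rcases eq_or_lt_of_le hZY with hYZ | hYZ
    swap
    · intro x
      have hx : (x : A) ∈ Y := by rw [hL.2.2.2 Y hYn hYZ hYL]; exact x.2
      exact hx.2
    exfalso
    obtain ⟨g, hg⟩ := IsCyclic.exists_generator (α := Kˣ)
    have hgen : ∀ l : K, l ≠ 0 → ∃ i : ℤ, l = (g : K) ^ i := fun l hl => by
      obtain ⟨i, hi⟩ := Subgroup.mem_zpowers_iff.mp (hg (Units.mk0 l hl))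
      exact ⟨i, by rw [← Units.val_zpow_eq_zpow_val, hi, Units.val_mk0]⟩
    have hnotY : ∀ x : L, (x : A) ∉ Z → ∀ l : K, toL x ^ r = l • 1 → ∀ i : ℤ, l = (g : K) ^ i →
        ¬ (r : ℤ) ∣ i := by
      rintro x hx l hl i rfl ⟨k, rfl⟩
      refine hx (hYZ ▸ (⟨x.2, (g : K) ^ k, zpow_ne_zero _ g.ne_zero, ?_⟩ : Sg x))
      rw [hl, mul_comm (r : ℤ), zpow_mul, zpow_natCast]
    refine hx₀y₀ ?_
    have hcommZ : ∀ x y : L, (x : A) ∈ Z → x * y = y * x := fun x y hx =>
      Subtype.ext ((Subgroup.mem_centralizer_iff.mp (hLC y.2)) x hx)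
    by_cases hx : (x₀ : A) ∈ Z
    · exact hcommZ _ _ hx
    obtain ⟨l, hl0, hl⟩ := hpow x₀
    obtain ⟨l', hl'0, hl'⟩ := hpow y₀
    obtain ⟨i, hi⟩ := hgen l hl0
    obtain ⟨j, hj⟩ := hgen l' hl'0
    have hir : ((i : ZMod r)) ≠ 0 := fun h => hnotY x₀ hx l hl i hi ((ZMod.intCast_zmod_eq_zero_iff_dvd i r).mp h)
    set t := (-(j : ZMod r) / (i : ZMod r)).val with ht
    have hzero : (r : ℤ) ∣ (t : ℤ) * i + j := by
      rw [← ZMod.intCast_zmod_eq_zero_iff_dvd]
      push_cast
      rw [ht, ZMod.natCast_zmod_val, div_mul_cancel₀ _ hir, neg_add_cancel]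
    obtain ⟨k, hk⟩ := hzero
    have hlt' : toL (x₀ ^ t) ^ r = (l ^ t) • 1 := by
      rw [map_pow, ← pow_mul, mul_comm t r, pow_mul, hl, smul_pow, one_pow]
    obtain ⟨s, hs0, hs⟩ := hprod (x₀ ^ t) y₀ _ _ hlt' hl'
    have hmem : ((x₀ ^ t * y₀ : L) : A) ∈ Z := by
      refine hYZ ▸ (⟨(x₀ ^ t * y₀).2, s * (g : K) ^ k, mul_ne_zero hs0 (zpow_ne_zero _ g.ne_zero), ?_⟩ :
        Sg (x₀ ^ t * y₀ : L))
      rw [hs, hi, hj, ← zpow_natCast ((g : K) ^ i) t, ← zpow_mul, ← zpow_add₀ g.ne_zero,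
        show i * (t : ℤ) + j = k * (r : ℤ) by rw [mul_comm i, hk, mul_comm], zpow_mul, mul_pow]
      norm_cast
    have hc := hcommZ _ x₀ hmem
    have hpt : x₀ ^ t * (y₀ * x₀) = x₀ ^ t * (x₀ * y₀) := by
      rw [← mul_assoc, hc, ← mul_assoc, ← mul_assoc, ← pow_succ', ← pow_succ]
    exact (mul_left_cancel hpt).symm
  let O : Ops K (Module.End K V) r ζ :=
    { carrier := {e | ∃ x : L, ∃ k : K, k ≠ 0 ∧ e = k • toL x}
      mul_mem := by
        rintro _ ⟨x, k, hk, rfl⟩ _ ⟨y, k', hk', rfl⟩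
        exact ⟨x * y, k * k', mul_ne_zero hk hk', by rw [map_mul, smul_mul_assoc, mul_smul_comm, smul_smul]⟩
      smul_mem := by
        rintro _ ⟨x, k, hk, rfl⟩ k' hk'
        exact ⟨x, k' * k, mul_ne_zero hk' hk, by rw [smul_smul]⟩
      one_mem := ⟨1, 1, one_ne_zero, by rw [one_smul, map_one]⟩
      prime := hr
      root := hζ
      comm := by
        rintro _ ⟨x, k, hk, rfl⟩ _ ⟨y, k', hk', rfl⟩
        obtain ⟨c, hc1, hc⟩ := hcscal x y
        obtain ⟨i, -, hi⟩ := hζ.eq_pow_of_pow_eq_one hc1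
        refine ⟨i, ?_⟩
        rw [hi, smul_mul_assoc, mul_smul_comm, hc, smul_mul_assoc, mul_smul_comm, smul_smul, smul_smul, smul_smul,
          smul_smul]
        congr 1
        ring
      pow_scalar := by
        rintro _ ⟨x, k, hk, rfl⟩
        obtain ⟨l, hl, h⟩ := hpow x
        exact ⟨k ^ r * l, mul_ne_zero (pow_ne_zero _ hk) hl, by rw [smul_pow, h, smul_smul]⟩
      center := by
        rintro _ ⟨x, k, hk, rfl⟩ h
        have hxZ : (x : A) ∈ Z := by
          rw [← hcent]
          refine ⟨x.2, Subgroup.mem_centralizer_iff.mpr fun y hy => ?_⟩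
          have e := h (toL ⟨y, hy⟩) ⟨⟨y, hy⟩, 1, one_ne_zero, (one_smul K _).symm⟩
          rw [smul_mul_assoc, mul_smul_comm, ← map_mul, ← map_mul] at e
          exact (congrArg Subtype.val (htoL_inj (smul_right_injective _ hk e))).symm
        obtain ⟨l, hl, hxl⟩ := hscal x hxZ
        exact ⟨k * l, mul_ne_zero hk hl, by rw [hxl, smul_smul]⟩
      split := fun hcase => by
        rintro _ ⟨x, k, hk, rfl⟩
        obtain ⟨l, hl, h⟩ := hsplit hcase x
        exact ⟨k * l, mul_ne_zero hk hl, by rw [smul_pow, h, smul_smul, mul_pow]⟩ }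
  have hmap : ∀ (a : A), ∀ e ∈ O.carrier, D.cj a e ∈ O.carrier := by
    rintro a _ ⟨x, k, hk, rfl⟩
    refine ⟨⟨a * x * a⁻¹, hL.1.conj_mem _ x.2 a⟩, D.σ a k, (map_ne_zero (D.σ a)).mpr hk, ?_⟩
    rw [Semi.cj_smul]
    congr 1
    refine LinearMap.ext fun v => ?_
    show a • (x : A) • a⁻¹ • v = (a * x * a⁻¹) • v
    rw [mul_smul, mul_smul]
  refine hasPair_of_ops D O hmap ⟨toL x₀, ⟨x₀, 1, one_ne_zero, (one_smul K _).symm⟩, fun l h => hx₀y₀ ?_⟩
    hirr hp hp3 hpV hcop hn IH
  apply htoL_inj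
  rw [map_mul, map_mul, h, smul_mul_assoc, mul_smul_comm, one_mul, mul_one]

end

/-- An irreducible linear group has a pair. -/
theorem hasPair_irreducible {V : Type u} [AddCommGroup V] [Finite V] [Nontrivial V]
    (A : Subgroup (AddMonoid.End V)ˣ) (hsol : Group.IsSolvable A) (hcop : (Nat.card A).Coprime (Nat.card V))
    (hirr : IsIrr A V) {p : ℕ} (hp : p.Prime) (hp3 : 3 ≤ p) (hpV : ∀ x : V, p • x = 0) {n : ℕ}
    (hn : Nat.card V ≤ n + 1) (IH : ModHyp.{u} n) : HasPair A V := by
  haveI : FaithfulSMul A V := ⟨fun {a b} h => Subtype.ext (Units.ext (AddMonoidHom.ext h))⟩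
  by_contra hno
  obtain ⟨Z, ⟨hZn, hZ⟩, hmax⟩ :=
    ({Y : Subgroup A | Y.Normal ∧ ∀ a ∈ Y, ∀ b ∈ Y, a * b = b * a}).toFinite.exists_maximal
      ⟨⊥, inferInstance, fun a ha b hb => by rw [Subgroup.mem_bot.mp ha, Subgroup.mem_bot.mp hb]⟩
  haveI := hZn
  have hK : IsField (genRing Z) := (hasPair_or_isField hsol hcop hirr hp hp3 hpV hn IH Z hZ).resolve_left hno
  letI : Field (genRing Z) := hK.toField
  haveI : Finite (genRing Z) := Subtype.finite
  let σhom : A → RingAut (genRing Z) := fun a =>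
    { toFun := fun r => ⟨toEnd A a * r * toEnd A a⁻¹, conj_mem_genRing a r r.2⟩
      invFun := fun r => ⟨toEnd A a⁻¹ * r * toEnd A a⁻¹⁻¹, conj_mem_genRing a⁻¹ r r.2⟩
      left_inv := fun r => Subtype.ext (by
        show toEnd A a⁻¹ * (toEnd A a * r * toEnd A a⁻¹) * toEnd A a⁻¹⁻¹ = r
        simp only [← mul_assoc, ← map_mul, inv_mul_cancel, map_one, one_mul]
        rw [mul_assoc, ← map_mul, mul_inv_cancel, map_one, mul_one])
      right_inv := fun r => Subtype.ext (by
        show toEnd A a * (toEnd A a⁻¹ * r * toEnd A a⁻¹⁻¹) * toEnd A a⁻¹ = r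
        simp only [← mul_assoc, ← map_mul, mul_inv_cancel, map_one, one_mul]
        rw [mul_assoc, ← map_mul, inv_mul_cancel, map_one, mul_one])
      map_mul' := fun r s => Subtype.ext (by
        show toEnd A a * (r.1 * s.1) * toEnd A a⁻¹ = (toEnd A a * r.1 * toEnd A a⁻¹) * (toEnd A a * s.1 * toEnd A a⁻¹)
        calc toEnd A a * (r.1 * s.1) * toEnd A a⁻¹
            = toEnd A a * r.1 * (toEnd A a⁻¹ * toEnd A a) * s.1 * toEnd A a⁻¹ := by
              rw [← map_mul, inv_mul_cancel, map_one]; noncomm_ring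
          _ = _ := by noncomm_ring)
      map_add' := fun r s => Subtype.ext (by
        show toEnd A a * (r.1 + s.1) * toEnd A a⁻¹ = toEnd A a * r.1 * toEnd A a⁻¹ + toEnd A a * s.1 * toEnd A a⁻¹
        rw [mul_add, add_mul]) }
  let D : Semi A V (genRing Z) :=
    { σ := MonoidHom.mk' σhom fun a b => RingEquiv.ext fun r => Subtype.ext (by
        show toEnd A (a * b) * r.1 * toEnd A (a * b)⁻¹ = toEnd A a * (toEnd A b * r.1 * toEnd A b⁻¹) * toEnd A a⁻¹
        rw [mul_inv_rev, map_mul, map_mul]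
        noncomm_ring)
      semilinear := fun a k v => by
        show a • (k : AddMonoid.End V) v = toEnd A a ((k : AddMonoid.End V) (toEnd A a⁻¹ (a • v)))
        rw [toEnd_apply a⁻¹, inv_smul_smul]
        rfl }
  refine hno (hasPair_semilinear hsol hirr hp hp3 hpV hcop D Z
    (({ toFun := fun z => ⟨toEnd A z, toEnd_mem_genRing z.2⟩
        map_one' := Subtype.ext (map_one _)
        map_mul' := fun z w => Subtype.ext (map_mul _ _ _) } : Z →* genRing Z).toHomUnits)
    (fun z v => rfl) ?_ (fun Y hYn hY hle => le_antisymm (hmax ⟨hYn, hY⟩ hle) hle) hn IH)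
  ext a
  rw [MonoidHom.mem_ker, Subgroup.mem_centralizer_iff]
  constructor
  · intro h z hz
    have e := congrArg Subtype.val (RingEquiv.congr_fun h (⟨toEnd A z, toEnd_mem_genRing hz⟩ : genRing Z))
    change toEnd A a * toEnd A z * toEnd A a⁻¹ = toEnd A z at e
    rw [← map_mul, ← map_mul] at e
    have e' : a * z * a⁻¹ = z := Subtype.ext (Units.ext e)
    rw [mul_inv_eq_iff_eq_mul] at e'
    exact e'.symm
  · intro h
    refine RingEquiv.ext fun r => Subtype.ext ?_
    show toEnd A a * r.1 * toEnd A a⁻¹ = r.1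
    rw [toEnd_commute_genRing (fun z hz => (h z hz).symm) r.1 r.2, mul_assoc, ← map_mul, mul_inv_cancel,
      map_one, mul_one]

/-- An irreducible module is elementary abelian. -/
theorem exists_prime_exponent {A V : Type*} [Group A] [AddCommGroup V] [Finite V] [Nontrivial V]
    [DistribMulAction A V] (hirr : IsIrr A V) : ∃ p : ℕ, p.Prime ∧ ∀ x : V, p • x = 0 := by
  obtain ⟨p, hp, hpd⟩ := Nat.exists_prime_and_dvd (Finite.one_lt_card (α := V)).ne'
  haveI := Fact.mk hp
  obtain ⟨x, hx⟩ := exists_prime_addOrderOf_dvd_card' p hpd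
  refine ⟨p, hp, fun y => ?_⟩
  have hx' : x ∈ (nsmulAddMonoidHom p : V →+ V).ker := by
    show p • x = 0
    rw [← hx, addOrderOf_nsmul_eq_zero]
  rcases hirr (nsmulAddMonoidHom p : V →+ V).ker (fun a v hv => by
    change p • v = 0 at hv
    show p • a • v = 0
    rw [← smul_zero a, ← hv]
    exact (map_nsmul (DistribSMul.toAddMonoidHom V a) p v).symm) with h | h
  · rw [h, AddSubgroup.mem_bot] at hx'
    rw [hx', addOrderOf_zero] at hx
    exact absurd hx hp.one_lt.ne
  · exact (h ▸ trivial : y ∈ (nsmulAddMonoidHom p : V →+ V).ker)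

/-- Pairs exist for coprime completely reducible modules of solvable groups. -/
theorem modHyp : ∀ n : ℕ, ModHyp.{u} n := by
  intro n
  induction n with
  | zero =>
    intro A V _ _ _ _ _ _ _ _ hn
    have : 0 < Nat.card V := Nat.card_pos
    omega
  | succ n ih =>
    intro A V _ _ _ _ _ hsol hcop hcr hn
    haveI := hsol
    rcases subsingleton_or_nontrivial V with hV | hV
    · exact ⟨0, 0, fun a _ _ x => Subsingleton.elim _ _⟩
    by_cases hirr : IsIrr A V
    · obtain ⟨p, hp, hpV⟩ := exists_prime_exponent hirr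
      rcases hp.eq_two_or_odd' with rfl | hodd
      · obtain ⟨x, hx⟩ := exists_ne (0 : V)
        refine BaseTwo.modHyp (n + 1) A V hsol (Nat.not_even_iff_odd.mp fun h => ?_) hcr hn
        exact not_dvd_card hcop hp hx (hpV x) h.two_dvd
      · have hp3 : 3 ≤ p := by
          rcases hodd with ⟨k, rfl⟩
          have := hp.two_le
          omega
        haveI : Finite (linHom A V).range := Finite.of_surjective _ (linHom A V).rangeRestrict_surjective
        exact hasPair_of_range (hasPair_irreducible (linHom A V).range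
          (Group.isSolvable_of_surjective (linHom A V).rangeRestrict_surjective)
          (hcop.coprime_dvd_left (Subgroup.card_range_dvd _)) (isIrr_range hirr) hp hp3 hpV hn ih)
    · exact hasPair_of_reducible hsol hcop hcr hn ih hirr

/-- Two vectors with trivial common stabiliser. -/
theorem exists_pair {A : Type u} {V : Type v} [Group A] [Finite A] [Group.IsSolvable A]
    [AddCommGroup V] [Finite V] [DistribMulAction A V] [FaithfulSMul A V]
    (hcop : (Nat.card A).Coprime (Nat.card V)) (hcr : IsCR A V) :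
    ∃ v w : V, ∀ a : A, a • v = v → a • w = w → a = 1 := by
  haveI : Finite (linHom A V).range := Finite.of_surjective _ (linHom A V).rangeRestrict_surjective
  obtain ⟨v, w, h⟩ := hasPair_of_range (modHyp (Nat.card V) (linHom A V).range V
    (Group.isSolvable_of_surjective (linHom A V).rangeRestrict_surjective)
    (hcop.coprime_dvd_left (Subgroup.card_range_dvd _)) (isCR_range hcr) le_rfl)
  exact ⟨v, w, fun a h1 h2 => eq_of_smul_eq_smul fun x : V => by rw [h a h1 h2 x, one_smul]⟩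

end Cfsg.Agent.BaseCop
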