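import Cfsg.Agent.Lib.Grp.BaseCop.ColourTools

/-!
# Certificates for the tails

The operators of two symplectic pairs over the fields with three and five elements, and of two pairs and
a quaternion pair over three elements. A linear map normalising them and fixing two suitable vectors is
determined by the images of one or two operators, and few images survive.
-/

set_option autoImplicit false
set_option linter.style.haveILetI false
set_option synthInstance.maxSize 4000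
set_option synthInstance.maxHeartbeats 400000

namespace Cfsg.Agent.BaseCop.Model

/-- Four coordinates. -/
abbrev Vec4 (q : ℕ) := Fin 4 → ZMod q

/-- Eight coordinates over three elements. -/
abbrev Vec8 := Fin 8 → ZMod 3

/-- A vector with eight coordinates. -/
def vec8 (a b c d e f g h : ZMod 3) : Vec8 := ![a, b, c, d, e, f, g, h]

/-- Addition of indices as bit strings. -/
def bxor : Fin 4 → Fin 4 → Fin 4 := ![![0, 1, 2, 3], ![1, 0, 3, 2], ![2, 3, 0, 1], ![3, 2, 1, 0]]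

/-- Parity of the common bits. -/
def bdot : Fin 4 → Fin 4 → Fin 2 := ![![0, 0, 0, 0], ![0, 1, 0, 1], ![0, 0, 1, 1], ![0, 1, 1, 0]]

/-- The sign of a parity. -/
def sgn {R : Type*} [One R] [Neg R] : Fin 2 → R := ![1, -1]

/-- An operator of two pairs: shift, signs, scalar less one. -/
def app4 {q s : ℕ} (o : Fin 4 × Fin 4 × Fin s) (v : Vec4 q) : Vec4 q :=
  fun b => ((o.2.2.val + 1 : ℕ) : ZMod q) * sgn (bdot o.2.1 (bxor b o.1)) * v (bxor b o.1)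

/-- The four quaternion matrices up to sign. -/
def qmat : Fin 4 → Fin 2 → Fin 2 → ZMod 3 :=
  ![![![1, 0], ![0, 1]], ![![0, 2], ![1, 0]], ![![1, 1], ![1, 2]], ![![2, 1], ![1, 1]]]

/-- The block of an index. -/
def blk : Fin 8 → Fin 4 := ![0, 0, 1, 1, 2, 2, 3, 3]

/-- The place within the block. -/
def plc : Fin 8 → Fin 2 := ![0, 1, 0, 1, 0, 1, 0, 1]

/-- The index with given block and place. -/
def idx : Fin 4 → Fin 2 → Fin 8 := ![![0, 1], ![2, 3], ![4, 5], ![6, 7]]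

/-- An operator of two pairs and a quaternion pair. -/
def app8 (o : Fin 4 × Fin 4 × Fin 4 × Fin 2) (v : Vec8) : Vec8 :=
  fun i => ((o.2.2.2.val + 1 : ℕ) : ZMod 3) * sgn (bdot o.2.1 (bxor (blk i) o.1)) *
    (qmat o.2.2.1 (plc i) 0 * v (idx (bxor (blk i) o.1) 0) + qmat o.2.2.1 (plc i) 1 * v (idx (bxor (blk i) o.1) 1))

theorem app4_add {q s : ℕ} (o : Fin 4 × Fin 4 × Fin s) (v w : Vec4 q) :
    app4 o (v + w) = app4 o v + app4 o w := funext fun b => by simp [app4, mul_add]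

theorem app4_smul {q s : ℕ} (o : Fin 4 × Fin 4 × Fin s) (k : ZMod q) (v : Vec4 q) :
    app4 o (k • v) = k • app4 o v := funext fun b => by simp [app4]; ring

theorem app8_add (o : Fin 4 × Fin 4 × Fin 4 × Fin 2) (v w : Vec8) :
    app8 o (v + w) = app8 o v + app8 o w := funext fun b => by simp [app8]; ring

theorem app8_smul (o : Fin 4 × Fin 4 × Fin 4 × Fin 2) (k : ZMod 3) (v : Vec8) :
    app8 o (k • v) = k • app8 o v := funext fun b => by simp [app8]; ring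

/-- The generators of two pairs. -/
def gens4 {s : ℕ} [NeZero s] : Fin 4 → Fin 4 × Fin 4 × Fin s := ![(1, 0, 0), (2, 0, 0), (0, 1, 0), (0, 2, 0)]

/-- The generators of two pairs and a quaternion pair. -/
def gens8 : Fin 6 → Fin 4 × Fin 4 × Fin 4 × Fin 2 :=
  ![(1, 0, 0, 0), (2, 0, 0, 0), (0, 1, 0, 0), (0, 2, 0, 0), (0, 0, 1, 0), (0, 0, 2, 0)]

section

variable {q : ℕ} {ι κ γ o : Type*} [Fintype κ]

/-- A linear combination, coordinatewise. -/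
def comb (r : κ → ZMod q) (B : κ → ι → ZMod q) : ι → ZMod q := fun i => ∑ j, r j * B j i

theorem comb_eq (r : κ → ZMod q) (B : κ → ι → ZMod q) : comb r B = ∑ j, r j • B j := by
  funext i
  simp [comb, Finset.sum_apply]

theorem map_comb (G : Module.End (ZMod q) (ι → ZMod q)) (r : κ → ZMod q) (B : κ → ι → ZMod q) :
    G (comb r B) = comb r fun j => G (B j) := by
  simp [comb_eq, map_sum]

variable (app : o → (ι → ZMod q) → ι → ZMod q) (gens : γ → o) (R : γ → κ → κ → ZMod q)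

/-- The moved basis is compatible with every generator. -/
def Compat (B : κ → ι → ZMod q) : Prop := ∀ x, ∃ y, ∀ i, app y (B i) = comb (R x i) B

theorem compat_of_normalises (G : Module.End (ZMod q) (ι → ZMod q))
    (hG : ∀ e, ∃ e', ∀ v, G (app e v) = app e' (G v)) (B : κ → ι → ZMod q)
    (hR : ∀ x i, app (gens x) (B i) = comb (R x i) B) : Compat app R fun i => G (B i) := by
  intro x
  obtain ⟨y, hy⟩ := hG (gens x)
  exact ⟨y, fun i => by rw [← hy, hR, map_comb]⟩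

theorem single_eq [DecidableEq ι] {n : ι → κ → ZMod q} {B : κ → ι → ZMod q}
    (hn : ∀ k, comb (n k) B = Pi.single k 1) (G : Module.End (ZMod q) (ι → ZMod q)) (k : ι) :
    G (Pi.single k 1) = comb (n k) fun i => G (B i) := by
  rw [← hn, map_comb]

end

/-- The basis from two vectors and an operator. -/
def basis4 {q s : ℕ} (u a : Vec4 q) (e : Fin 4 × Fin 4 × Fin s) : Fin 4 → Vec4 q :=
  ![u, a, app4 e u, app4 e a]

/-- The basis from two vectors and two operators. -/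
def basis8 (u a : Vec8) (e f : Fin 4 × Fin 4 × Fin 4 × Fin 2) : Fin 8 → Vec8 :=
  ![u, a, app8 e u, app8 e a, app8 f u, app8 f a, app8 f (app8 e u), app8 f (app8 e a)]

theorem map_basis4 {q s : ℕ} {G : Module.End (ZMod q) (Vec4 q)} {u a : Vec4 q} (hu : G u = u) (ha : G a = a)
    {e e' : Fin 4 × Fin 4 × Fin s} (he : ∀ v, G (app4 e v) = app4 e' (G v)) :
    (fun i => G (basis4 u a e i)) = basis4 u a e' := by
  funext i
  fin_cases i <;> simp [basis4, hu, ha, he]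

theorem map_basis8 {G : Module.End (ZMod 3) Vec8} {u a : Vec8} (hu : G u = u) (ha : G a = a)
    {e e' f f' : Fin 4 × Fin 4 × Fin 4 × Fin 2} (he : ∀ v, G (app8 e v) = app8 e' (G v))
    (hf : ∀ v, G (app8 f v) = app8 f' (G v)) :
    (fun i => G (basis8 u a e f i)) = basis8 u a e' f' := by
  funext i
  fin_cases i <;> simp [basis8, hu, ha, he, hf]

/-- The corner vector for two pairs. -/
def u4 {q : ℕ} : Vec4 q := ![0, 1, 1, 1]

/-- The second vector over five elements. -/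
def a5 : Vec4 5 := ![1, 0, 1, 3]

/-- The candidates for the second vector over three elements. -/
def a3 : Fin 3 → Vec4 3 := ![![0, 0, 0, 1], ![1, 0, 1, 0], ![1, 0, 1, 1]]

/-- The corner vector for two pairs and a quaternion pair. -/
def u8 : Vec8 := vec8 0 0 0 1 0 1 0 1

/-- The candidates for the second vector with a quaternion pair. -/
def a8 : Fin 2 → Vec8 := ![vec8 0 1 0 0 0 1 2 0, vec8 0 0 1 0 2 0 2 1]

/-- The invariant alternating form. -/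
def form (v w : Vec8) : ZMod 3 :=
  (v 0 * w 1 - v 1 * w 0) + (v 2 * w 3 - v 3 * w 2) + (v 4 * w 5 - v 5 * w 4) + (v 6 * w 7 - v 7 * w 6)

/-- The form between two vectors and their images under an operator. -/
def sig (u a : Vec8) (e : Fin 4 × Fin 4 × Fin 4 × Fin 2) : ZMod 3 × ZMod 3 × ZMod 3 × ZMod 3 :=
  (form u (app8 e u), form u (app8 e a), form a (app8 e u), form a (app8 e a))

theorem sig_eq {G : Module.End (ZMod 3) Vec8} {u a : Vec8} (hu : G u = u) (ha : G a = a)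
    (hB : ∀ v w, form (G v) (G w) = form v w) {x x' : Fin 4 × Fin 4 × Fin 4 × Fin 2}
    (hx : ∀ v, G (app8 x v) = app8 x' (G v)) : sig u a x' = sig u a x := by
  have h : ∀ v w, G v = v → G w = w → form v (app8 x' w) = form v (app8 x w) := fun v w hv hw => by
    conv_rhs => rw [← hB, hx, hv, hw]
  simp only [sig, h _ _ hu hu, h _ _ hu ha, h _ _ ha hu, h _ _ ha ha]

theorem sgn_sq (x : Fin 2) : (sgn x : ZMod 3) * sgn x = 1 := by revert x; decide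

theorem scalar_sq (k : Fin 2) : ((k.val + 1 : ℕ) : ZMod 3) * ((k.val + 1 : ℕ) : ZMod 3) = 1 := by
  revert k; decide

theorem qmat_det (n : Fin 4) : qmat n 0 0 * qmat n 1 1 - qmat n 1 0 * qmat n 0 1 = 1 := by revert n; decide

theorem form_sum (v w : Vec8) :
    form v w = ∑ b : Fin 4, (v (idx b 0) * w (idx b 1) - v (idx b 1) * w (idx b 0)) := by
  simp [form, Fin.sum_univ_four, idx]; ring

theorem blk_idx : ∀ b s, blk (idx b s) = b ∧ plc (idx b s) = s := by decide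

theorem bxor_bxor : ∀ c b, bxor (bxor b c) c = b := by decide

theorem form_app8 (o : Fin 4 × Fin 4 × Fin 4 × Fin 2) (v w : Vec8) : form (app8 o v) (app8 o w) = form v w := by
  obtain ⟨c, d, n, k⟩ := o
  rw [form_sum, form_sum]
  refine Fintype.sum_equiv (Equiv.ofBijective (fun b => bxor b c) (Function.Involutive.bijective (bxor_bxor c))) _ _
    fun b => ?_
  simp only [Equiv.ofBijective_apply, app8, (blk_idx b 0).1, (blk_idx b 0).2, (blk_idx b 1).1, (blk_idx b 1).2]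
  linear_combination (v (idx (bxor b c) 0) * w (idx (bxor b c) 1) - v (idx (bxor b c) 1) * w (idx (bxor b c) 0)) *
    ((((k.val + 1 : ℕ) : ZMod 3) * ((k.val + 1 : ℕ) : ZMod 3)) * (sgn (bdot d (bxor b c)) * sgn (bdot d (bxor b c)))
      * qmat_det n + (sgn (bdot d (bxor b c)) * sgn (bdot d (bxor b c))) * scalar_sq k + sgn_sq (bdot d (bxor b c)))

/-- Forms invariant under the operators are multiples of the alternating form. -/
theorem invariant_form (M : LinearMap.BilinForm (ZMod 3) Vec8)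
    (hM : ∀ o v w, M (app8 o v) (app8 o w) = M v w) : ∃ l : ZMod 3, ∀ v w, M v w = l * form v w := by
  let e : Fin 8 → Vec8 := fun i => Pi.single i 1
  have neg : ∀ x : ZMod 3, x = -x → x = 0 := by decide
  have hoff : ∀ i j, blk i ≠ blk j → M (e i) (e j) = 0 := by
    intro i j hij
    obtain ⟨o, h1, h2⟩ := (show ∀ i j, blk i ≠ blk j → ∃ o, app8 o (Pi.single i 1) = Pi.single i 1 ∧
        app8 o (Pi.single j 1) = -Pi.single j 1 by decide +kernel) i j hij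
    refine neg _ ?_
    conv_lhs => rw [← hM o, h1, h2, map_neg]
  have hdiag : ∀ i j, blk i = blk j → M (e i) (e j) = M (e (idx 0 (plc i))) (e (idx 0 (plc j))) := by
    intro i j hij
    obtain ⟨o, h1, h2⟩ := (show ∀ i j, blk i = blk j → ∃ o, app8 o (Pi.single (idx 0 (plc i)) 1) = Pi.single i 1 ∧
        app8 o (Pi.single (idx 0 (plc j)) 1) = Pi.single j 1 by decide +kernel) i j hij
    conv_rhs => rw [← hM o, h1, h2]
  have x0 : app8 (0, 0, 1, 0) (e 0) = e 1 := by decide +kernel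
  have x1 : app8 (0, 0, 1, 0) (e 1) = -e 0 := by decide +kernel
  have y0 : app8 (0, 0, 2, 0) (e 0) = e 0 + e 1 := by decide +kernel
  have h11 : M (e 1) (e 1) = M (e 0) (e 0) := by rw [← hM (0, 0, 1, 0) (e 0) (e 0), x0]
  have h10 : M (e 1) (e 0) = -M (e 0) (e 1) := by
    conv_rhs => rw [← hM (0, 0, 1, 0) (e 0) (e 1), x0, x1, map_neg, neg_neg]
  have h00 : M (e 0) (e 0) = 0 := by
    have h := hM (0, 0, 2, 0) (e 0) (e 0)
    rw [y0] at h
    simp only [map_add, LinearMap.add_apply, h10, h11] at h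
    linear_combination h
  have hunit : ∀ i j, M (e i) (e j) = M (e 0) (e 1) * form (e i) (e j) := by
    intro i j
    by_cases hij : blk i = blk j
    · rw [hdiag i j hij, (show ∀ i j, blk i = blk j → form (Pi.single i 1) (Pi.single j 1) =
        form (Pi.single (idx 0 (plc i)) 1) (Pi.single (idx 0 (plc j)) 1) by decide +kernel) i j hij]
      generalize plc i = s
      generalize plc j = t
      fin_cases s <;> fin_cases t <;> simp [idx, e, form] <;> simp only [e] at h00 h10 h11 <;>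
        simp [h00, h10, h11]
    · rw [hoff i j hij, (show ∀ i j, blk i ≠ blk j → form (Pi.single i 1) (Pi.single j 1) = 0 by
        decide +kernel) i j hij, mul_zero]
  refine ⟨M (e 0) (e 1), fun v w => ?_⟩
  let Q : LinearMap.BilinForm (ZMod 3) Vec8 := LinearMap.mk₂ (ZMod 3) form
    (fun a b c => by simp [form]; ring) (fun k a b => by simp [form]; ring)
    (fun a b c => by simp [form]; ring) (fun k a b => by simp [form]; ring)
  have hext : M = M (e 0) (e 1) • Q := by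
    refine LinearMap.BilinForm.ext_basis (Pi.basisFun (ZMod 3) (Fin 8)) fun i j => ?_
    simp only [Pi.basisFun_apply, LinearMap.smul_apply, smul_eq_mul, Q, LinearMap.mk₂_apply]
    exact hunit i j
  conv_lhs => rw [hext]
  simp [Q]

/-- A map normalising the operators and fixing two unrelated vectors is an isometry. -/
theorem isometry (G : Module.End (ZMod 3) Vec8)
    (hG : ∀ e : Fin 4 × Fin 4 × Fin 4 × Fin 2, ∃ e', ∀ v, G (app8 e v) = app8 e' (G v))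
    {u a : Vec8} (hu : G u = u) (ha : G a = a) (hua : form u a ≠ 0) (v w : Vec8) :
    form (G v) (G w) = form v w := by
  let M : LinearMap.BilinForm (ZMod 3) Vec8 := LinearMap.mk₂ (ZMod 3) (fun v w => form (G v) (G w))
    (fun a b c => by simp [form]; ring) (fun k a b => by simp [form]; ring)
    (fun a b c => by simp [form]; ring) (fun k a b => by simp [form]; ring)
  obtain ⟨l, hl⟩ := invariant_form M fun o v w => by
    obtain ⟨o', ho⟩ := hG o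
    simp only [M, LinearMap.mk₂_apply, ho, form_app8]
  simp only [M, LinearMap.mk₂_apply] at hl
  have h1 := hl u a
  rw [hu, ha] at h1
  obtain rfl : l = 1 := mul_right_cancel₀ hua (by rw [one_mul, ← h1])
  rw [hl, one_mul]

/-- Coordinates of the moved basis. -/
def fiveR : Fin 4 → Fin 4 → Fin 4 → ZMod 5 :=
  ![![![0, 4, 0, 2],
    ![2, 0, 1, 0],
    ![0, 3, 0, 1],
    ![4, 0, 3, 0]],
   ![![0, 3, 4, 3],
    ![4, 0, 1, 1],
    ![4, 3, 0, 3],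
    ![1, 1, 4, 0]],
   ![![0, 0, 1, 0],
    ![0, 0, 0, 1],
    ![1, 0, 0, 0],
    ![0, 1, 0, 0]],
   ![![0, 3, 4, 2],
    ![4, 0, 4, 1],
    ![4, 2, 0, 3],
    ![4, 1, 4, 0]]]

/-- Coordinates of the unit vectors. -/
def fiveC : Fin 4 → Fin 4 → ZMod 5 :=
  ![![2, 3, 2, 3],
    ![3, 4, 2, 1],
    ![3, 0, 3, 0],
    ![0, 1, 0, 4]]

/-- Coordinates of the moved basis. -/
def threeAR : Fin 4 → Fin 4 → Fin 4 → ZMod 3 :=
  ![![![0, 0, 1, 0],
    ![0, 0, 0, 1],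
    ![1, 0, 0, 0],
    ![0, 1, 0, 0]],
   ![![1, 2, 1, 1],
    ![1, 2, 0, 2],
    ![1, 1, 1, 2],
    ![0, 2, 1, 2]],
   ![![2, 0, 0, 2],
    ![0, 2, 0, 0],
    ![0, 1, 1, 0],
    ![0, 0, 0, 1]],
   ![![1, 1, 0, 1],
    ![0, 2, 0, 0],
    ![0, 1, 1, 1],
    ![0, 0, 0, 2]]]

/-- Coordinates of the unit vectors. -/
def threeAC : Fin 4 → Fin 4 → ZMod 3 :=
  ![![0, 2, 1, 2],
    ![1, 2, 0, 2],
    ![0, 0, 0, 1],
    ![0, 1, 0, 0]]

/-- The symmetries left, by columns. -/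
def threeAS : Fin 3 → Fin 4 → Vec4 3 :=
  ![![![2, 0, 0, 0],
    ![0, 1, 0, 0],
    ![0, 0, 1, 0],
    ![0, 0, 0, 1]],
   ![![1, 0, 0, 0],
    ![0, 0, 1, 0],
    ![0, 1, 0, 0],
    ![0, 0, 0, 1]],
   ![![2, 0, 0, 0],
    ![0, 0, 1, 0],
    ![0, 1, 0, 0],
    ![0, 0, 0, 1]]]

/-- Coordinates of the moved basis. -/
def threeBR : Fin 4 → Fin 4 → Fin 4 → ZMod 3 :=
  ![![![2, 2, 1, 2],
    ![1, 1, 0, 2],
    ![1, 2, 2, 2],
    ![0, 2, 1, 1]],
   ![![1, 0, 0, 1],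
    ![0, 1, 0, 0],
    ![0, 2, 2, 0],
    ![0, 0, 0, 2]],
   ![![2, 1, 0, 2],
    ![0, 1, 0, 0],
    ![0, 2, 2, 1],
    ![0, 0, 0, 1]],
   ![![0, 0, 1, 0],
    ![0, 0, 0, 1],
    ![1, 0, 0, 0],
    ![0, 1, 0, 0]]]

/-- Coordinates of the unit vectors. -/
def threeBC : Fin 4 → Fin 4 → ZMod 3 :=
  ![![0, 2, 0, 2],
    ![2, 0, 2, 0],
    ![0, 2, 0, 1],
    ![2, 1, 1, 2]]

/-- The symmetries left, by columns. -/
def threeBS : Fin 3 → Fin 4 → Vec4 3 :=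
  ![![![1, 0, 0, 0],
    ![0, 0, 0, 1],
    ![0, 0, 1, 0],
    ![0, 1, 0, 0]],
   ![![2, 2, 2, 2],
    ![2, 2, 1, 1],
    ![2, 1, 2, 1],
    ![2, 1, 1, 2]],
   ![![2, 2, 2, 2],
    ![2, 1, 1, 2],
    ![2, 1, 2, 1],
    ![2, 2, 1, 1]]]

/-- Coordinates of the moved basis. -/
def threeCR : Fin 4 → Fin 4 → Fin 4 → ZMod 3 :=
  ![![![0, 1, 0, 0],
    ![1, 0, 0, 0],
    ![0, 0, 0, 2],
    ![0, 0, 2, 0]],
   ![![0, 2, 2, 2],
    ![2, 0, 1, 1],
    ![2, 2, 0, 2],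
    ![1, 1, 2, 0]],
   ![![0, 0, 1, 0],
    ![0, 0, 0, 1],
    ![1, 0, 0, 0],
    ![0, 1, 0, 0]],
   ![![0, 2, 2, 1],
    ![2, 0, 2, 1],
    ![2, 1, 0, 2],
    ![2, 1, 2, 0]]]

/-- Coordinates of the unit vectors. -/
def threeCC : Fin 4 → Fin 4 → ZMod 3 :=
  ![![1, 2, 1, 2],
    ![2, 1, 1, 2],
    ![2, 0, 2, 0],
    ![0, 2, 0, 1]]

/-- The symmetries left, by columns. -/
def threeCS : Fin 3 → Fin 4 → Vec4 3 :=
  ![![![1, 0, 0, 0],
    ![0, 1, 0, 0],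
    ![0, 0, 0, 1],
    ![0, 0, 1, 0]],
   ![![2, 1, 1, 1],
    ![1, 2, 1, 1],
    ![1, 1, 2, 1],
    ![1, 1, 1, 2]],
   ![![2, 1, 1, 1],
    ![1, 2, 1, 1],
    ![1, 1, 1, 2],
    ![1, 1, 2, 1]]]

/-- Coordinates of the moved basis. -/
def quatAR : Fin 6 → Fin 8 → Fin 8 → ZMod 3 :=
  ![![![2, 2, 0, 0, 0, 0, 2, 1],
    ![1, 1, 2, 0, 1, 0, 0, 1],
    ![0, 0, 2, 2, 1, 2, 0, 0],
    ![1, 0, 1, 1, 0, 2, 1, 0],
    ![0, 0, 1, 2, 2, 2, 0, 0],
    ![2, 0, 0, 2, 1, 1, 2, 0],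
    ![2, 1, 0, 0, 0, 0, 2, 2],
    ![0, 1, 2, 0, 1, 0, 1, 1]],
   ![![0, 1, 1, 2, 2, 1, 2, 0],
    ![1, 0, 1, 1, 0, 2, 1, 2],
    ![2, 1, 0, 1, 1, 0, 2, 1],
    ![2, 2, 1, 0, 2, 1, 0, 2],
    ![2, 1, 2, 0, 0, 2, 2, 1],
    ![0, 2, 1, 2, 2, 0, 2, 2],
    ![1, 0, 2, 1, 1, 2, 0, 2],
    ![2, 1, 0, 2, 1, 1, 2, 0]],
   ![![1, 2, 1, 2, 2, 1, 2, 2],
    ![2, 2, 1, 2, 2, 1, 2, 1],
    ![2, 1, 1, 2, 1, 1, 2, 1],
    ![2, 1, 2, 2, 1, 2, 2, 1],
    ![1, 2, 1, 1, 1, 2, 1, 2],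
    ![1, 2, 1, 2, 2, 2, 1, 2],
    ![2, 2, 1, 2, 2, 1, 1, 2],
    ![2, 1, 1, 2, 2, 1, 2, 2]],
   ![![0, 0, 0, 0, 0, 0, 2, 0],
    ![0, 0, 0, 0, 0, 0, 0, 2],
    ![0, 0, 0, 0, 1, 0, 0, 0],
    ![0, 0, 0, 0, 0, 1, 0, 0],
    ![0, 0, 1, 0, 0, 0, 0, 0],
    ![0, 0, 0, 1, 0, 0, 0, 0],
    ![2, 0, 0, 0, 0, 0, 0, 0],
    ![0, 2, 0, 0, 0, 0, 0, 0]],
   ![![0, 0, 1, 0, 0, 0, 0, 0],
    ![0, 0, 0, 1, 0, 0, 0, 0],
    ![2, 0, 0, 0, 0, 0, 0, 0],
    ![0, 2, 0, 0, 0, 0, 0, 0],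
    ![0, 0, 0, 0, 0, 0, 1, 0],
    ![0, 0, 0, 0, 0, 0, 0, 1],
    ![0, 0, 0, 0, 2, 0, 0, 0],
    ![0, 0, 0, 0, 0, 2, 0, 0]],
   ![![2, 0, 2, 0, 0, 0, 0, 0],
    ![2, 0, 0, 2, 0, 0, 2, 1],
    ![2, 0, 1, 0, 0, 0, 0, 0],
    ![0, 2, 1, 0, 2, 1, 0, 0],
    ![0, 0, 0, 0, 1, 0, 1, 0],
    ![0, 0, 2, 1, 1, 0, 0, 1],
    ![0, 0, 0, 0, 1, 0, 2, 0],
    ![2, 1, 0, 0, 0, 1, 2, 0]]]

/-- Coordinates of the unit vectors. -/
def quatAC : Fin 8 → Fin 8 → ZMod 3 :=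
  ![![0, 0, 0, 1, 0, 1, 0, 0],
    ![0, 2, 0, 0, 0, 0, 0, 1],
    ![0, 0, 1, 0, 1, 0, 0, 0],
    ![2, 0, 0, 0, 0, 0, 1, 0],
    ![2, 1, 2, 2, 1, 1, 2, 1],
    ![1, 1, 2, 1, 1, 2, 1, 1],
    ![1, 2, 2, 1, 1, 2, 1, 2],
    ![1, 2, 1, 2, 2, 1, 1, 2]]

/-- The symmetries left, by columns. -/
def quatAS : Fin 1 → Fin 8 → Vec8 :=
  ![![vec8 2 0 1 2 0 1 2 2,
    vec8 0 2 2 2 2 0 2 1,
    vec8 2 1 2 0 2 2 0 2,
    vec8 1 1 0 2 2 1 1 0,
    vec8 0 2 1 1 2 0 1 2,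
    vec8 1 0 1 2 0 2 2 2,
    vec8 1 1 0 1 2 1 2 0,
    vec8 1 2 2 0 1 1 0 2]]

/-- Coordinates of the moved basis. -/
def quatBR : Fin 6 → Fin 8 → Fin 8 → ZMod 3 :=
  ![![![0, 0, 0, 0, 0, 0, 2, 0],
    ![0, 0, 0, 0, 0, 0, 0, 2],
    ![0, 0, 0, 0, 1, 0, 0, 0],
    ![0, 0, 0, 0, 0, 1, 0, 0],
    ![0, 0, 1, 0, 0, 0, 0, 0],
    ![0, 0, 0, 1, 0, 0, 0, 0],
    ![2, 0, 0, 0, 0, 0, 0, 0],
    ![0, 2, 0, 0, 0, 0, 0, 0]],
   ![![1, 2, 2, 0, 1, 0, 2, 2],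
    ![0, 2, 0, 1, 0, 2, 2, 1],
    ![1, 0, 1, 2, 1, 1, 1, 0],
    ![0, 2, 0, 2, 1, 2, 0, 2],
    ![2, 0, 1, 1, 1, 2, 2, 0],
    ![0, 1, 1, 2, 0, 2, 0, 1],
    ![2, 2, 2, 0, 1, 0, 1, 2],
    ![2, 1, 0, 1, 0, 2, 0, 2]],
   ![![1, 1, 1, 1, 0, 1, 1, 0],
    ![2, 1, 2, 1, 2, 0, 0, 1],
    ![2, 2, 1, 1, 2, 0, 0, 1],
    ![1, 2, 2, 1, 0, 2, 2, 0],
    ![0, 1, 1, 0, 2, 2, 2, 2],
    ![2, 0, 0, 1, 1, 2, 1, 2],
    ![2, 0, 0, 1, 1, 1, 2, 2],
    ![0, 2, 2, 0, 2, 1, 1, 2]],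
   ![![0, 2, 2, 1, 2, 1, 1, 1],
    ![2, 0, 2, 1, 1, 1, 1, 2],
    ![1, 2, 0, 2, 2, 2, 2, 1],
    ![1, 2, 2, 0, 2, 1, 1, 1],
    ![1, 2, 2, 2, 0, 2, 2, 1],
    ![2, 2, 2, 1, 2, 0, 2, 1],
    ![1, 1, 1, 2, 1, 2, 0, 2],
    ![1, 2, 2, 2, 1, 2, 2, 0]],
   ![![0, 0, 1, 0, 0, 0, 0, 0],
    ![0, 0, 0, 1, 0, 0, 0, 0],
    ![2, 0, 0, 0, 0, 0, 0, 0],
    ![0, 2, 0, 0, 0, 0, 0, 0],
    ![0, 0, 0, 0, 0, 0, 1, 0],
    ![0, 0, 0, 0, 0, 0, 0, 1],
    ![0, 0, 0, 0, 2, 0, 0, 0],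
    ![0, 0, 0, 0, 0, 2, 0, 0]],
   ![![2, 0, 2, 0, 0, 0, 0, 0],
    ![1, 2, 1, 0, 0, 1, 1, 0],
    ![2, 0, 1, 0, 0, 0, 0, 0],
    ![1, 0, 2, 1, 1, 0, 0, 2],
    ![0, 0, 0, 0, 1, 0, 1, 0],
    ![0, 1, 1, 0, 2, 1, 2, 0],
    ![0, 0, 0, 0, 1, 0, 2, 0],
    ![1, 0, 0, 2, 2, 0, 1, 2]]]

/-- Coordinates of the unit vectors. -/
def quatBC : Fin 8 → Fin 8 → ZMod 3 :=
  ![![1, 2, 2, 2, 1, 2, 2, 1],
    ![1, 1, 1, 2, 1, 2, 1, 2],
    ![1, 2, 1, 2, 2, 2, 2, 1],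
    ![2, 1, 1, 2, 1, 2, 2, 2],
    ![2, 2, 2, 1, 2, 0, 0, 1],
    ![1, 2, 2, 2, 0, 2, 2, 0],
    ![0, 2, 2, 0, 2, 1, 1, 1],
    ![1, 0, 0, 2, 2, 2, 2, 1]]

/-- The symmetries left, by columns. -/
def quatBS : Fin 1 → Fin 8 → Vec8 :=
  ![![vec8 2 0 0 0 0 0 0 0,
    vec8 0 2 0 0 0 0 0 0,
    vec8 0 0 1 0 0 0 0 0,
    vec8 0 0 0 1 0 0 0 0,
    vec8 0 0 0 0 1 0 0 0,
    vec8 0 0 0 0 0 1 0 0,
    vec8 0 0 0 0 0 0 1 0,
    vec8 0 0 0 0 0 0 0 1]]


/-- Five elements: the pair is rigid. -/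
theorem rigid_five (G : Module.End (ZMod 5) (Vec4 5))
    (hG : ∀ e : Fin 4 × Fin 4 × Fin 4, ∃ e' : Fin 4 × Fin 4 × Fin 4, ∀ v, G (app4 e v) = app4 e' (G v))
    (hu : G u4 = u4) (ha : G a5 = a5) : G = 1 := by
  obtain ⟨e', he⟩ := hG (0, 1, 0)
  have hC := compat_of_normalises (app4 (s := 4)) gens4 fiveR G hG (basis4 (s := 4) u4 a5 (0, 1, 0)) (by decide +kernel)
  rw [map_basis4 hu ha he] at hC
  have key : ∀ e' : Fin 4 × Fin 4 × Fin 4, Compat (app4 (s := 4)) fiveR (basis4 u4 a5 e') →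
      ∀ k, comb (fiveC k) (basis4 u4 a5 e') = Pi.single k 1 := by unfold Compat; decide +kernel
  refine LinearMap.pi_ext' fun k => LinearMap.ext_ring ?_
  simp only [LinearMap.comp_apply, LinearMap.single_apply, Module.End.one_apply]
  rw [single_eq (n := fiveC) (B := basis4 (s := 4) u4 a5 (0, 1, 0)) (by decide +kernel) G k, map_basis4 hu ha he]
  exact key e' hC k

theorem threeA_cases (G : Module.End (ZMod 3) (Vec4 3))
    (hG : ∀ e : Fin 4 × Fin 4 × Fin 2, ∃ e' : Fin 4 × Fin 4 × Fin 2, ∀ v, G (app4 e v) = app4 e' (G v))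
    (hu : G u4 = u4) (ha : G (a3 0) = a3 0) :
    (∀ k, G (Pi.single k 1) = Pi.single k 1) ∨ ∃ s, ∀ k, G (Pi.single k 1) = threeAS s k := by
  obtain ⟨e', he⟩ := hG (1, 0, 0)
  have hC := compat_of_normalises (app4 (s := 2)) gens4 threeAR G hG (basis4 (s := 2) u4 (a3 0) (1, 0, 0)) (by decide +kernel)
  rw [map_basis4 hu ha he] at hC
  have key : ∀ e' : Fin 4 × Fin 4 × Fin 2, Compat (app4 (s := 2)) threeAR (basis4 u4 (a3 0) e') →
      (∀ k, comb (threeAC k) (basis4 u4 (a3 0) e') = Pi.single k 1) ∨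
        ∃ s, ∀ k, comb (threeAC k) (basis4 u4 (a3 0) e') = threeAS s k := by unfold Compat; decide +kernel
  have hsingle : ∀ k, G (Pi.single k 1) = comb (threeAC k) (basis4 u4 (a3 0) e') := fun k => by
    rw [single_eq (n := threeAC) (B := basis4 (s := 2) u4 (a3 0) (1, 0, 0)) (by decide +kernel) G k, map_basis4 hu ha he]
  simpa only [hsingle] using key e' hC

theorem threeB_cases (G : Module.End (ZMod 3) (Vec4 3))
    (hG : ∀ e : Fin 4 × Fin 4 × Fin 2, ∃ e' : Fin 4 × Fin 4 × Fin 2, ∀ v, G (app4 e v) = app4 e' (G v))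
    (hu : G u4 = u4) (ha : G (a3 1) = a3 1) :
    (∀ k, G (Pi.single k 1) = Pi.single k 1) ∨ ∃ s, ∀ k, G (Pi.single k 1) = threeBS s k := by
  obtain ⟨e', he⟩ := hG (0, 2, 0)
  have hC := compat_of_normalises (app4 (s := 2)) gens4 threeBR G hG (basis4 (s := 2) u4 (a3 1) (0, 2, 0)) (by decide +kernel)
  rw [map_basis4 hu ha he] at hC
  have key : ∀ e' : Fin 4 × Fin 4 × Fin 2, Compat (app4 (s := 2)) threeBR (basis4 u4 (a3 1) e') →
      (∀ k, comb (threeBC k) (basis4 u4 (a3 1) e') = Pi.single k 1) ∨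
        ∃ s, ∀ k, comb (threeBC k) (basis4 u4 (a3 1) e') = threeBS s k := by unfold Compat; decide +kernel
  have hsingle : ∀ k, G (Pi.single k 1) = comb (threeBC k) (basis4 u4 (a3 1) e') := fun k => by
    rw [single_eq (n := threeBC) (B := basis4 (s := 2) u4 (a3 1) (0, 2, 0)) (by decide +kernel) G k, map_basis4 hu ha he]
  simpa only [hsingle] using key e' hC

theorem threeC_cases (G : Module.End (ZMod 3) (Vec4 3))
    (hG : ∀ e : Fin 4 × Fin 4 × Fin 2, ∃ e' : Fin 4 × Fin 4 × Fin 2, ∀ v, G (app4 e v) = app4 e' (G v))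
    (hu : G u4 = u4) (ha : G (a3 2) = a3 2) :
    (∀ k, G (Pi.single k 1) = Pi.single k 1) ∨ ∃ s, ∀ k, G (Pi.single k 1) = threeCS s k := by
  obtain ⟨e', he⟩ := hG (0, 1, 0)
  have hC := compat_of_normalises (app4 (s := 2)) gens4 threeCR G hG (basis4 (s := 2) u4 (a3 2) (0, 1, 0)) (by decide +kernel)
  rw [map_basis4 hu ha he] at hC
  have key : ∀ e' : Fin 4 × Fin 4 × Fin 2, Compat (app4 (s := 2)) threeCR (basis4 u4 (a3 2) e') →
      (∀ k, comb (threeCC k) (basis4 u4 (a3 2) e') = Pi.single k 1) ∨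
        ∃ s, ∀ k, comb (threeCC k) (basis4 u4 (a3 2) e') = threeCS s k := by unfold Compat; decide +kernel
  have hsingle : ∀ k, G (Pi.single k 1) = comb (threeCC k) (basis4 u4 (a3 2) e') := fun k => by
    rw [single_eq (n := threeCC) (B := basis4 (s := 2) u4 (a3 2) (0, 1, 0)) (by decide +kernel) G k, map_basis4 hu ha he]
  simpa only [hsingle] using key e' hC

theorem quatA_cases (G : Module.End (ZMod 3) Vec8)
    (hG : ∀ e : Fin 4 × Fin 4 × Fin 4 × Fin 2, ∃ e', ∀ v, G (app8 e v) = app8 e' (G v))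
    (hu : G u8 = u8) (ha : G (a8 0) = a8 0) (hB : ∀ v w, form (G v) (G w) = form v w) :
    (∀ k, G (Pi.single k 1) = Pi.single k 1) ∨ ∀ k, G (Pi.single k 1) = quatAS 0 k := by
  obtain ⟨e', he⟩ := hG (0, 0, 1, 0)
  obtain ⟨f', hf⟩ := hG (0, 2, 1, 0)
  have hC := compat_of_normalises app8 gens8 quatAR G hG (basis8 u8 (a8 0) (0, 0, 1, 0) (0, 2, 1, 0)) (by decide +kernel)
  rw [map_basis8 hu ha he hf] at hC
  have hsig : ∀ (x x' : Fin 4 × Fin 4 × Fin 4 × Fin 2), (∀ v, G (app8 x v) = app8 x' (G v)) →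
      sig u8 (a8 0) x' = sig u8 (a8 0) x := fun x x' hx => sig_eq hu ha hB hx
  have key : ∀ e', sig u8 (a8 0) e' = sig u8 (a8 0) (0, 0, 1, 0) → ∀ f', sig u8 (a8 0) f' = sig u8 (a8 0) (0, 2, 1, 0) →
      Compat app8 quatAR (basis8 u8 (a8 0) e' f') →
      (∀ k, comb (quatAC k) (basis8 u8 (a8 0) e' f') = Pi.single k 1) ∨
        ∀ k, comb (quatAC k) (basis8 u8 (a8 0) e' f') = quatAS 0 k := by unfold Compat; decide +kernel
  have hsingle : ∀ k, G (Pi.single k 1) = comb (quatAC k) (basis8 u8 (a8 0) e' f') := fun k => by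
    rw [single_eq (n := quatAC) (B := basis8 u8 (a8 0) (0, 0, 1, 0) (0, 2, 1, 0)) (by decide +kernel) G k, map_basis8 hu ha he hf]
  simpa only [hsingle] using key e' (hsig _ _ he) f' (hsig _ _ hf) hC

theorem quatB_cases (G : Module.End (ZMod 3) Vec8)
    (hG : ∀ e : Fin 4 × Fin 4 × Fin 4 × Fin 2, ∃ e', ∀ v, G (app8 e v) = app8 e' (G v))
    (hu : G u8 = u8) (ha : G (a8 1) = a8 1) (hB : ∀ v w, form (G v) (G w) = form v w) :
    (∀ k, G (Pi.single k 1) = Pi.single k 1) ∨ ∀ k, G (Pi.single k 1) = quatBS 0 k := by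
  obtain ⟨e', he⟩ := hG (0, 0, 1, 0)
  obtain ⟨f', hf⟩ := hG (1, 0, 1, 0)
  have hC := compat_of_normalises app8 gens8 quatBR G hG (basis8 u8 (a8 1) (0, 0, 1, 0) (1, 0, 1, 0)) (by decide +kernel)
  rw [map_basis8 hu ha he hf] at hC
  have hsig : ∀ (x x' : Fin 4 × Fin 4 × Fin 4 × Fin 2), (∀ v, G (app8 x v) = app8 x' (G v)) →
      sig u8 (a8 1) x' = sig u8 (a8 1) x := fun x x' hx => sig_eq hu ha hB hx
  have key : ∀ e', sig u8 (a8 1) e' = sig u8 (a8 1) (0, 0, 1, 0) → ∀ f', sig u8 (a8 1) f' = sig u8 (a8 1) (1, 0, 1, 0) →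
      Compat app8 quatBR (basis8 u8 (a8 1) e' f') →
      (∀ k, comb (quatBC k) (basis8 u8 (a8 1) e' f') = Pi.single k 1) ∨
        ∀ k, comb (quatBC k) (basis8 u8 (a8 1) e' f') = quatBS 0 k := by unfold Compat; decide +kernel
  have hsingle : ∀ k, G (Pi.single k 1) = comb (quatBC k) (basis8 u8 (a8 1) e' f') := fun k => by
    rw [single_eq (n := quatBC) (B := basis8 u8 (a8 1) (0, 0, 1, 0) (1, 0, 1, 0)) (by decide +kernel) G k, map_basis8 hu ha he hf]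
  simpa only [hsingle] using key e' (hsig _ _ he) f' (hsig _ _ hf) hC

/-- A map given by the images of the unit vectors. -/
def lin {N : ℕ} (col : Fin N → Fin N → ZMod 3) (v : Fin N → ZMod 3) : Fin N → ZMod 3 := comb v col

theorem eq_lin {N : ℕ} (G : Module.End (ZMod 3) (Fin N → ZMod 3)) (col : Fin N → Fin N → ZMod 3)
    (h : ∀ k, G (Pi.single k 1) = col k) (v : Fin N → ZMod 3) : G v = lin col v := by
  conv_lhs => rw [pi_eq_sum_univ' v]
  simp only [map_sum, map_smul, h, lin, comb_eq]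

theorem eq_one_of_single {N : ℕ} (G : Module.End (ZMod 3) (Fin N → ZMod 3))
    (h : ∀ k, G (Pi.single k 1) = Pi.single k 1) : G = 1 :=
  LinearMap.pi_ext' fun k => LinearMap.ext_ring (by simpa using h k)

/-- No group of order prime to three contains elements with these two images. -/
theorem false_of_power {G : Type*} [Group G] [Finite G] (h3 : ¬ 3 ∣ Nat.card G) {N : ℕ}
    (φ : G →* Module.End (ZMod 3) (Fin N → ZMod 3)) (g h : G) (cg ch : Fin N → Fin N → ZMod 3)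
    (hg : ∀ k, φ g (Pi.single k 1) = cg k) (hh : ∀ k, φ h (Pi.single k 1) = ch k) (j : ℕ)
    (h1 : ∀ k, (lin cg ∘ lin ch)^[3 * j] (Pi.single k 1) = Pi.single k 1)
    (h2 : ∃ k, (lin cg ∘ lin ch)^[j] (Pi.single k 1) ≠ Pi.single k 1) : False := by
  have hit : ∀ (i : ℕ) v, (φ ((g * h) ^ i)) v = (lin cg ∘ lin ch)^[i] v := by
    intro i
    induction i with
    | zero => intro v; simp
    | succ i ih =>
      intro v
      rw [pow_succ', Function.iterate_succ_apply', map_mul, Module.End.mul_apply, ih, map_mul, Module.End.mul_apply,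
        eq_lin _ ch hh, eq_lin _ cg hg]
      rfl
  haveI := Fact.mk Nat.prime_three
  have h0 := eq_one_of_hom φ h3 (g := (g * h) ^ j) (by
    rw [← map_pow, ← pow_mul, mul_comm]
    exact eq_one_of_single _ fun k => by rw [hit, h1])
  obtain ⟨k, hk⟩ := h2
  exact hk (by rw [← hit, h0, Module.End.one_apply])

theorem three_incompatible : ∀ i j l : Fin 3,
    (∃ t : Fin 3, (∀ k, (lin (threeAS i) ∘ lin (threeBS j))^[3 * t.val] (Pi.single k 1) = Pi.single k 1) ∧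
      ∃ k, (lin (threeAS i) ∘ lin (threeBS j))^[t.val] (Pi.single k 1) ≠ Pi.single k 1) ∨
    (∃ t : Fin 3, (∀ k, (lin (threeAS i) ∘ lin (threeCS l))^[3 * t.val] (Pi.single k 1) = Pi.single k 1) ∧
      ∃ k, (lin (threeAS i) ∘ lin (threeCS l))^[t.val] (Pi.single k 1) ≠ Pi.single k 1) ∨
    (∃ t : Fin 3, (∀ k, (lin (threeBS j) ∘ lin (threeCS l))^[3 * t.val] (Pi.single k 1) = Pi.single k 1) ∧
      ∃ k, (lin (threeBS j) ∘ lin (threeCS l))^[t.val] (Pi.single k 1) ≠ Pi.single k 1) := by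
  decide +kernel

/-- Three elements: one of the candidates is rigid. -/
theorem exists_rigid_three {G : Type*} [Group G] [Finite G] (h3 : ¬ 3 ∣ Nat.card G)
    (φ : G →* Module.End (ZMod 3) (Vec4 3))
    (hφ : ∀ g (e : Fin 4 × Fin 4 × Fin 2), ∃ e' : Fin 4 × Fin 4 × Fin 2, ∀ v, φ g (app4 e v) = app4 e' (φ g v))
    (hu : ∀ g, φ g u4 = u4) : ∃ i, ∀ g, φ g (a3 i) = a3 i → φ g = 1 := by
  by_contra hno
  push Not at hno
  obtain ⟨g₀, ha₀, h₀⟩ := hno 0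
  obtain ⟨g₁, ha₁, h₁⟩ := hno 1
  obtain ⟨g₂, ha₂, h₂⟩ := hno 2
  obtain ⟨i, hi⟩ := (threeA_cases _ (hφ g₀) (hu g₀) ha₀).resolve_left fun h => h₀ (eq_one_of_single _ h)
  obtain ⟨j, hj⟩ := (threeB_cases _ (hφ g₁) (hu g₁) ha₁).resolve_left fun h => h₁ (eq_one_of_single _ h)
  obtain ⟨l, hl⟩ := (threeC_cases _ (hφ g₂) (hu g₂) ha₂).resolve_left fun h => h₂ (eq_one_of_single _ h)
  rcases three_incompatible i j l with ⟨t, ht, ht'⟩ | ⟨t, ht, ht'⟩ | ⟨t, ht, ht'⟩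
  · exact false_of_power h3 φ g₀ g₁ _ _ hi hj t.val ht ht'
  · exact false_of_power h3 φ g₀ g₂ _ _ hi hl t.val ht ht'
  · exact false_of_power h3 φ g₁ g₂ _ _ hj hl t.val ht ht'

/-- Three elements and a quaternion pair: one of the candidates is rigid. -/
theorem exists_rigid_quat {G : Type*} [Group G] [Finite G] (h3 : ¬ 3 ∣ Nat.card G)
    (φ : G →* Module.End (ZMod 3) Vec8)
    (hφ : ∀ g (e : Fin 4 × Fin 4 × Fin 4 × Fin 2), ∃ e', ∀ v, φ g (app8 e v) = app8 e' (φ g v))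
    (hu : ∀ g, φ g u8 = u8) : ∃ i, ∀ g, φ g (a8 i) = a8 i → φ g = 1 := by
  by_contra hno
  push Not at hno
  obtain ⟨g₀, ha₀, h₀⟩ := hno 0
  obtain ⟨g₁, ha₁, h₁⟩ := hno 1
  have hi := (quatA_cases _ (hφ g₀) (hu g₀) ha₀
    (isometry _ (hφ g₀) (hu g₀) ha₀ (by decide +kernel))).resolve_left fun h => h₀ (eq_one_of_single _ h)
  have hj := (quatB_cases _ (hφ g₁) (hu g₁) ha₁
    (isometry _ (hφ g₁) (hu g₁) ha₁ (by decide +kernel))).resolve_left fun h => h₁ (eq_one_of_single _ h)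
  exact false_of_power h3 φ g₀ g₁ _ _ hi hj 1 (by decide +kernel) (by decide +kernel)

end Cfsg.Agent.BaseCop.Model
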