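import Cfsg.Agent.Lib.Grp.BaseCop.Colouring
import Cfsg.Agent.Lib.Grp.BaseCop.Model

/-!
# Tails

When the corner is a line over three or five elements, two pairs are moved into the corner. There the
operators are the explicit monomial ones, and the certificates apply.
-/

set_option autoImplicit false
set_option linter.style.haveILetI false
set_option linter.unusedSectionVars false

universe u

namespace Cfsg.Agent.BaseCop

open BaseThree (Semi Ops chi)
open BaseTwo (HasPair)
open Model

/-- The bits of an index. -/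
def bits : Fin 4 → Fin 2 → ZMod 2 := ![![0, 0], ![1, 0], ![0, 1], ![1, 1]]

theorem bits_surj : ∀ c : Fin 2 → ZMod 2, ∃ b, bits b = c := by decide +kernel

theorem bits_inj : ∀ b c, bits b = bits c → b = c := by decide +kernel

theorem bits_xor : ∀ b c, bits (bxor b c) = bits b + bits c := by decide +kernel

theorem bits_dot : ∀ d b, bits d ⬝ᵥ bits b = ((bdot d b).val : ZMod 2) := by decide +kernel

theorem bxor_cancel : ∀ c b, bxor (bxor c b) c = b ∧ bxor c (bxor b c) = b ∧ bxor (bxor b c) c = b := by decide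

/-- A vector on the first coordinates. -/
def front {m : ℕ} (c : Fin m → ZMod 2) : Fin (m + 2) → ZMod 2 := Fin.append c 0

/-- A vector on the last two coordinates. -/
def back (m : ℕ) (b : Fin 4) : Fin (m + 2) → ZMod 2 := Fin.append 0 (bits b)

theorem append_add {m n : ℕ} (a c : Fin m → ZMod 2) (b d : Fin n → ZMod 2) :
    Fin.append (a + c) (b + d) = Fin.append a b + Fin.append c d := by
  funext i
  refine Fin.addCases (fun j => ?_) (fun j => ?_) i <;> simp

theorem append_dot {m n : ℕ} (a c : Fin m → ZMod 2) (b d : Fin n → ZMod 2) :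
    Fin.append a b ⬝ᵥ Fin.append c d = a ⬝ᵥ c + b ⬝ᵥ d := by
  simp [dotProduct, Fin.sum_univ_add]

theorem front_zero {m : ℕ} : front (0 : Fin m → ZMod 2) = 0 := by
  funext i
  refine Fin.addCases (fun j => ?_) (fun j => ?_) i <;> simp [front]

theorem front_add {m : ℕ} (c d : Fin m → ZMod 2) : front (c + d) = front c + front d := by
  rw [front, front, front, ← append_add, add_zero]

theorem back_zero {m : ℕ} : back m 0 = 0 := by
  funext i
  refine Fin.addCases (fun j => ?_) (fun j => ?_) i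
  · simp [back]
  · simp only [back, Fin.append_right, Pi.zero_apply]
    revert j
    decide

theorem back_xor {m : ℕ} (b c : Fin 4) : back m (bxor b c) = back m b + back m c := by
  rw [back, back, back, ← append_add, bits_xor, add_zero]

theorem back_inj {m : ℕ} {b c : Fin 4} (h : back m b = back m c) : b = c :=
  bits_inj _ _ (funext fun j => by simpa [back] using congrFun h (Fin.natAdd m j))

theorem exists_split {m : ℕ} (x : Fin (m + 2) → ZMod 2) :
    ∃ c b, x = front c + back m b ∧ ∀ d, front d ⬝ᵥ x = d ⬝ᵥ c := by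
  obtain ⟨b, hb⟩ := bits_surj (fun i => x (Fin.natAdd m i))
  have hx : x = Fin.append (fun i => x (Fin.castAdd 2 i)) (bits b) := by
    rw [hb]
    exact Fin.append_castAdd_natAdd.symm
  refine ⟨fun i => x (Fin.castAdd 2 i), b, ?_, fun d => ?_⟩
  · rw [front, back, ← append_add, add_zero, zero_add]
    exact hx
  · conv_lhs => rw [hx]
    rw [front, append_dot, zero_dotProduct, add_zero]

section

variable {A V : Type u} {K : Type*} [Group A] [Finite A] [AddCommGroup V] [Finite V]
  [Nontrivial V] [DistribMulAction A V] [Field K] [Finite K] [Module K V] {ζ : K}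
  {O : Ops K (Module.End K V) 2 ζ} {m : ℕ} (P : O.Pre (m + 2)) (D : Semi A V K)

/-- The frame without its last two pairs. -/
def headFrame : O.Pre m where
  D d := P.D (front d)
  S c := P.S (front c)
  D_mem d := P.D_mem _
  S_mem c := P.S_mem _
  D_zero := by rw [front_zero, P.D_zero]
  S_zero := by rw [front_zero, P.S_zero]
  D_add d d' := by rw [front_add, P.D_add]
  S_add c c' := by rw [front_add, P.S_add]
  DS d c := by
    rw [P.DS, front, front, append_dot, zero_dotProduct, add_zero]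

theorem head_D (d : Fin m → ZMod 2) : (headFrame P).D d = P.D (front d) := rfl

theorem head_S (c : Fin m → ZMod 2) : (headFrame P).S c = P.S (front c) := rfl

theorem front_back (d : Fin m → ZMod 2) (b : Fin 4) :
    front d ⬝ᵥ back m b = 0 ∧ back m b ⬝ᵥ front d = 0 := by
  constructor <;> simp [front, back, append_dot]

theorem rem_head {n : Module.End K V} (c d : Fin 4) (hn : P.Rem n) :
    (headFrame P).Rem (P.S (back m c) * P.D (back m d) * n) := by
  haveI : Fact (Nat.Prime 2) := ⟨Nat.prime_two⟩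
  refine ⟨decomp_mem P hn _ _, fun e => ?_, fun e => ?_⟩
  · rw [head_D, D_move P _ _ _ hn, (front_back e c).1, O.chi_zero, one_smul]
  · rw [head_S, S_move P _ _ _ hn, (front_back e d).2, neg_zero, O.chi_zero, one_smul]

theorem head_decomp {n : Module.End K V} (hn : (headFrame P).Rem n) :
    ∃ c d n₀, P.Rem n₀ ∧ n = P.S (back m c) * P.D (back m d) * n₀ := by
  haveI : Fact (Nat.Prime 2) := ⟨Nat.prime_two⟩
  obtain ⟨x, y, n₀, hn₀, rfl⟩ := P.decomp hn.1
  obtain ⟨a, c, hx, hxd⟩ := exists_split x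
  obtain ⟨b, d, hy, hyd⟩ := exists_split y
  have hmem : ∀ e ∈ O.carrier, P.S x * P.D y * n₀ * e ∈ O.carrier := fun e he =>
    O.mul_mem _ (decomp_mem P hn₀ x y) _ he
  have ha : a = 0 := by
    funext i
    have h := hn.2.1 (Pi.single i 1)
    rw [head_D, D_move P _ _ _ hn₀, hxd, single_dotProduct, one_mul] at h
    exact O.chi_eq_one.mp (smul_left_cancel_mem P (hmem _ (P.D_mem _)) (h.trans (one_smul K _).symm))
  have hb : b = 0 := by
    funext i
    have h := hn.2.2 (Pi.single i 1)
    rw [head_S, S_move P _ _ _ hn₀, dotProduct_comm, hyd, single_dotProduct, one_mul] at h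
    exact neg_eq_zero.mp
      (O.chi_eq_one.mp (smul_left_cancel_mem P (hmem _ (P.S_mem _)) (h.trans (one_smul K _).symm)))
  subst ha hb
  rw [front_zero, zero_add] at hx hy
  exact ⟨c, d, n₀, hn₀, by rw [hx, hy]⟩

theorem head_proj {x : V} (h : P.proj x = x) : (headFrame P).proj x = x := by
  haveI : Fact (Nat.Prime 2) := ⟨Nat.prime_two⟩
  exact proj_fix_of_D (headFrame P) fun d => D_fix P h (front d)

theorem tail_fix {x : V} (h : P.proj x = x) (b : Fin 4) :
    (headFrame P).proj (P.S (back m b) x) = P.S (back m b) x := by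
  haveI : Fact (Nat.Prime 2) := ⟨Nat.prime_two⟩
  have hr := rem_head P b 0 P.rem_one
  rw [mul_one, back_zero, P.D_zero, mul_one] at hr
  exact rem_fix (headFrame P) (head_proj P h) hr

theorem tail_coord (f : Fin 4 → V) (hf : ∀ b, P.proj (f b) = f b) (b : Fin 4) :
    P.proj (P.S (back m b) (∑ c, P.S (back m c) (f c))) = f b := by
  haveI : Fact (Nat.Prime 2) := ⟨Nat.prime_two⟩
  classical
  rw [map_sum, map_sum, Finset.sum_eq_single b]
  · rw [← Module.End.mul_apply (P.S (back m b)), ← P.S_add,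
      show back m b + back m b = 0 from funext fun i => CharTwo.add_self_eq_zero _, P.S_zero, Module.End.one_apply, hf]
  · intro c _ hc
    rw [← hf c, ← Module.End.mul_apply (P.S (back m b)), ← P.S_add, ← Module.End.mul_apply, ← Module.End.mul_apply,
      Ops.Pre.proj_S_proj P (fun e => hc (back_inj (CharTwo.add_eq_zero.mp e).symm)), LinearMap.zero_apply]
  · exact fun h => absurd (Finset.mem_univ _) h

theorem tail_decomp {y : V} (hy : (headFrame P).proj y = y) :
    y = ∑ b, P.S (back m b) (P.proj (P.S (back m b) y)) := by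
  haveI : Fact (Nat.Prime 2) := ⟨Nat.prime_two⟩
  classical
  have hdec : y = ∑ x, P.S x (P.proj (P.S (-x) y)) := by
    have := DFunLike.congr_fun (Ops.Pre.sum_proj P) y
    simp only [LinearMap.sum_apply, Module.End.mul_apply, Module.End.one_apply] at this
    exact this.symm
  have hneg : ∀ x : Fin (m + 2) → ZMod 2, -x = x := fun x => funext fun i => ZMod.neg_eq_self_mod_two _
  conv_lhs => rw [hdec]
  simp only [hneg]
  rw [show ∑ b, P.S (back m b) (P.proj (P.S (back m b) y)) =
      ∑ x ∈ Finset.univ.map ⟨back m, fun b c h => back_inj h⟩, P.S x (P.proj (P.S x y)) from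
    (Finset.sum_map Finset.univ ⟨back m, fun b c h => back_inj h⟩ fun x => P.S x (P.proj (P.S x y))).symm]
  refine (Finset.sum_subset (Finset.subset_univ _) fun x _ hx => ?_).symm
  obtain ⟨a, b, hxab, hxd⟩ := exists_split x
  have ha : a ≠ 0 := fun e => hx (Finset.mem_map.mpr ⟨b, Finset.mem_univ _, by
    rw [e, front_zero, zero_add] at hxab
    exact hxab.symm⟩)
  obtain ⟨i, hi⟩ := Function.ne_iff.mp ha
  have hd : P.D (front (Pi.single i 1)) y = y := D_fix (headFrame P) hy (Pi.single i 1)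
  have hchi : chi ζ (front (Pi.single i 1) ⬝ᵥ x) ≠ 1 := fun e => hi (by
    have := O.chi_eq_one.mp e
    rwa [hxd, single_dotProduct, one_mul] at this)
  have h1 : P.proj (P.S x y) = chi ζ (front (Pi.single i 1) ⬝ᵥ x) • P.proj (P.S x y) := by
    conv_lhs => rw [← Ops.Pre.proj_D P (front (Pi.single i 1))]
    rw [Module.End.mul_apply, ← Module.End.mul_apply (P.D _), P.DS, LinearMap.smul_apply, Module.End.mul_apply, hd,
      map_smul]
  have h2 : (chi ζ (front (Pi.single i 1) ⬝ᵥ x) - 1) • P.proj (P.S x y) = 0 := by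
    rw [sub_smul, one_smul, ← h1, sub_self]
  rw [(smul_eq_zero.mp h2).resolve_left (sub_ne_zero.mpr hchi), map_zero]

include P in
theorem sgn_chi (d b : Fin 4) : chi ζ (back m d ⬝ᵥ back m b) = sgn (bdot d b) := by
  haveI : Fact (Nat.Prime 2) := ⟨Nat.prime_two⟩
  rw [back, back, append_dot, zero_dotProduct, zero_add, bits_dot, O.chi_natCast, O.root.eq_neg_one_of_two_right]
  generalize bdot d b = e
  fin_cases e <;> simp [sgn]

/-- The effect of a tail operator on a combination. -/
theorem tail_apply (c d : Fin 4) {n : Module.End K V} (hn : P.Rem n) (f : Fin 4 → V)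
    (hf : ∀ b, P.proj (f b) = f b) :
    (P.S (back m c) * P.D (back m d) * n) (∑ b, P.S (back m b) (f b)) =
      ∑ b, P.S (back m b) ((sgn (bdot d (bxor b c)) : K) • n (f (bxor b c))) := by
  haveI : Fact (Nat.Prime 2) := ⟨Nat.prime_two⟩
  rw [map_sum]
  refine Fintype.sum_equiv (Equiv.ofBijective (fun b => bxor b c)
    (Function.Involutive.bijective fun b => (bxor_cancel c b).2.2)) _ _ fun b => ?_
  simp only [Equiv.ofBijective_apply, (bxor_cancel c b).2.2]
  rw [← sgn_chi P, back_xor, map_smul]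
  have e : P.S (back m c) * P.D (back m d) * n * P.S (back m b) =
      chi ζ (back m d ⬝ᵥ back m b) • (P.S (back m b + back m c) * n * P.D (back m d)) := by
    rw [add_comm (back m b), P.S_add, mul_assoc, ← hn.2.2, ← mul_assoc, mul_assoc (P.S (back m c)), P.DS, mul_smul_comm,
      smul_mul_assoc]
    congr 1
    simp only [mul_assoc, hn.2.1]
  have h := DFunLike.congr_fun e (f b)
  simpa [Module.End.mul_apply, D_fix P (hf b)] using h

/-- A model of the enlarged corner gives a rigid pair. -/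
theorem rigid_of_model {q : ℕ} {ι σ κ : Type} (app : σ → (ι → ZMod q) → ι → ZMod q) (o₁ : σ)
    (Φ : (ι → ZMod q) →+ V) (hinj : Function.Injective Φ)
    (hfix : ∀ v, (headFrame P).proj (Φ v) = Φ v)
    (hsurj : ∀ y, (headFrame P).proj y = y → ∃ v, Φ v = y)
    (hop : ∀ o, ∃ n, (headFrame P).Rem n ∧ ∀ v, n (Φ v) = Φ (app o v))
    (hop' : ∀ n, (headFrame P).Rem n → ∃ o, (o = o₁ → n = 1) ∧ ∀ v, n (Φ v) = Φ (app o v))
    (hmap : ∀ (a : A), ∀ e ∈ O.carrier, D.cj a e ∈ O.carrier)
    (u : ι → ZMod q) (hu : ∀ o, app o u = u → o = o₁) (hu0 : u ≠ 0) (a : κ → ι → ZMod q)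
    (ha : ∀ i, a i ≠ 0)
    (hchoose : ∀ φ : MulAction.stabilizer A (Φ u) →* Module.End (ZMod q) (ι → ZMod q),
      (∀ g o, ∃ o', ∀ v, φ g (app o v) = app o' (φ g v)) → (∀ g, φ g u = u) →
        ∃ i, ∀ g, φ g (a i) = a i → φ g = 1) :
    ∃ i, Rigid (headFrame P) D (Φ u) (Φ (a i)) := by
  haveI : Fact (Nat.Prime 2) := ⟨Nat.prime_two⟩
  have hfree : Free (headFrame P) (Φ u) := fun n hn e => by
    obtain ⟨o, ho, hoe⟩ := hop' n hn
    exact ho (hu o (hinj ((hoe u).symm.trans e)))
  have hu0' : Φ u ≠ 0 := fun h => hu0 (hinj (h.trans (map_zero Φ).symm))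
  obtain ⟨ρ, hρ⟩ := exists_frame_hom (headFrame P) D hmap (Φ u) (hfix u) hu0' hfree
  have hmove : ∀ (g : MulAction.stabilizer A (Φ u)) v, ∃ w, Φ w = (g : A) • Φ v := fun g v => hsurj _ (by
    conv_lhs => rw [← (hρ g).1]
    rw [Semi.cj_smul_vec, hfix])
  choose T hT using hmove
  let φ : MulAction.stabilizer A (Φ u) →* Module.End (ZMod q) (ι → ZMod q) :=
    { toFun := fun g => (AddMonoidHom.mk' (T g) fun v w => hinj (by
        rw [map_add, hT, hT, hT, map_add, smul_add])).toZModLinearMap q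
      map_one' := LinearMap.ext fun v => hinj (by
        show Φ (T 1 v) = Φ v
        rw [hT, Subgroup.coe_one, one_smul])
      map_mul' := fun g h => LinearMap.ext fun v => hinj (by
        show Φ (T (g * h) v) = Φ (T g (T h v))
        rw [hT, hT, hT, Subgroup.coe_mul, mul_smul]) }
  obtain ⟨i, hi⟩ := hchoose φ
    (fun g o => by
      obtain ⟨n, hn, hne⟩ := hop o
      obtain ⟨n', hn', hne'⟩ := (hρ g).2.1 n hn
      obtain ⟨o', -, ho'⟩ := hop' n' hn'
      refine ⟨o', fun v => hinj ?_⟩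
      show Φ (T g (app o v)) = Φ (app o' (T g v))
      rw [hT, ← hne, hne' _ (hfix v), ← hT, ho'])
    (fun g => hinj (by show Φ (T g u) = Φ u; rw [hT]; exact g.2))
  refine ⟨i, hfix u, hu0', hfree, hfix _, fun h => ha i (hinj (h.trans (map_zero Φ).symm)),
    fun g _ _ hgu hga y hy => ?_⟩
  obtain ⟨v, rfl⟩ := hsurj y hy
  have h1 := hi ⟨g, hgu⟩ (hinj (by show Φ (T _ (a i)) = Φ (a i); rw [hT]; exact hga))
  have h2 := DFunLike.congr_fun h1 v
  change T ⟨g, hgu⟩ v = v at h2
  have h3 := hT ⟨g, hgu⟩ v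
  rw [h2] at h3
  exact h3.symm

theorem free_of_model {q : ℕ} {ι σ : Type} (app : σ → (ι → ZMod q) → ι → ZMod q) (o₁ : σ)
    (Φ : (ι → ZMod q) →+ V) (hinj : Function.Injective Φ)
    (hop' : ∀ n, (headFrame P).Rem n → ∃ o, (o = o₁ → n = 1) ∧ ∀ v, n (Φ v) = Φ (app o v))
    (v : ι → ZMod q) (hv : ∀ o, app o v = v → o = o₁) : Free (headFrame P) (Φ v) := fun n hn e => by
  obtain ⟨o, ho, hoe⟩ := hop' n hn
  exact ho (hv o (hinj ((hoe v).symm.trans e)))

theorem rel_of_model {q : ℕ} {ι σ : Type} [Fact (Nat.Prime 2)] (app : σ → (ι → ZMod q) → ι → ZMod q) (o₁ : σ)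
    (Φ : (ι → ZMod q) →+ V) (hinj : Function.Injective Φ)
    (hop' : ∀ n, (headFrame P).Rem n → ∃ o, (o = o₁ → n = 1) ∧ ∀ v, n (Φ v) = Φ (app o v))
    {κ : Type} (val : κ → ι → ZMod q) (hval : ∀ i j o, app o (val i) = val j → i = j) :
    ∀ i j, Rel (headFrame P) (Φ (val i)) (Φ (val j)) → i = j := by
  rintro i j ⟨n, hn, e⟩
  obtain ⟨o, -, hoe⟩ := hop' n hn.1
  exact hval i j o (hinj ((hoe _).symm.trans e.symm))

theorem card_eq_castHom {q : ℕ} (hq : q.Prime) (hK : Nat.card K = q) :
    ∃ _ : CharP K q, Function.Bijective (ZMod.castHom (dvd_refl q) K) := by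
  haveI := Fintype.ofFinite K
  haveI := Fact.mk hq
  haveI : CharP K q := charP_of_card_eq_prime (by rw [← Nat.card_eq_fintype_card]; exact hK)
  exact ⟨inferInstance, (Fintype.bijective_iff_injective_and_card _).mpr
    ⟨(ZMod.castHom (dvd_refl q) K).injective, by rw [ZMod.card, ← Nat.card_eq_fintype_card, hK]⟩⟩

/-- Two pairs over a line: the model. -/
theorem exists_model4 {q s : ℕ} (hq : q.Prime) (hs : s + 1 = q) (hK : Nat.card K = q)
    (hscalar : ∀ n, P.Rem n → ∃ k : K, n = k • 1) (u₀ : V) (hu₀ : P.proj u₀ = u₀) (hu₀0 : u₀ ≠ 0)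
    (hline : ∀ v, P.proj v = v → ∃ k : K, v = k • u₀) (o₁ : Fin 4 × Fin 4 × Fin s)
    (ho₁ : o₁.1 = 0 ∧ o₁.2.1 = 0 ∧ o₁.2.2.val = 0) :
    ∃ Φ : Vec4 q →+ V, Function.Injective Φ ∧ (∀ v, (headFrame P).proj (Φ v) = Φ v) ∧
      (∀ y, (headFrame P).proj y = y → ∃ v, Φ v = y) ∧
      (∀ o : Fin 4 × Fin 4 × Fin s, ∃ n, (headFrame P).Rem n ∧ ∀ v, n (Φ v) = Φ (app4 o v)) ∧
      ∀ n, (headFrame P).Rem n → ∃ o, (o = o₁ → n = 1) ∧ ∀ v, n (Φ v) = Φ (app4 o v) := by
  haveI : Fact (Nat.Prime 2) := ⟨Nat.prime_two⟩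
  haveI : NeZero q := ⟨hq.ne_zero⟩
  obtain ⟨hch, hbij⟩ := card_eq_castHom hq hK
  set e := ZMod.castHom (dvd_refl q) K with he
  have hfixk : ∀ k : K, P.proj (k • u₀) = k • u₀ := fun k => by rw [map_smul, hu₀]
  let Φ : Vec4 q →+ V :=
    AddMonoidHom.mk' (fun v => ∑ b, P.S (back m b) (e (v b) • u₀)) fun v w => by
      simp only [Pi.add_apply, map_add, add_smul, Finset.sum_add_distrib]
  have hcomm : ∀ (c d : Fin 4) (j : Fin s) v,
      (P.S (back m c) * P.D (back m d) * (((j.val + 1 : ℕ) : K) • (1 : Module.End K V))) (Φ v) =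
        Φ (app4 (c, d, j) v) := by
    intro c d j v
    show _ = ∑ b, P.S (back m b) (e (app4 (c, d, j) v b) • u₀)
    by_cases hj : (((j.val + 1 : ℕ)) : K) = 0
    · refine absurd ((CharP.cast_eq_zero_iff K q _).mp hj) fun h => ?_
      have := Nat.le_of_dvd (Nat.succ_pos _) h
      omega
    rw [show Φ v = ∑ b, P.S (back m b) (e (v b) • u₀) from rfl,
      tail_apply P c d (P.rem_smul P.rem_one hj) _ fun b => hfixk _]
    refine Finset.sum_congr rfl fun b _ => ?_
    congr 1
    rw [LinearMap.smul_apply, Module.End.one_apply, smul_smul, smul_smul]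
    congr 1
    simp only [app4, map_mul, map_natCast]
    generalize bdot d (bxor b c) = x
    fin_cases x <;> simp [sgn]
  refine ⟨Φ, ?_, fun v => ?_, fun y hy => ?_, fun o => ?_, fun n hn => ?_⟩
  · intro v w h
    funext b
    have h1 := tail_coord P (fun b => e (v b) • u₀) (fun b => hfixk _) b
    have h2 := tail_coord P (fun b => e (w b) • u₀) (fun b => hfixk _) b
    have h' : ∑ b, P.S (back m b) (e (v b) • u₀) = ∑ b, P.S (back m b) (e (w b) • u₀) := h
    rw [h', h2] at h1
    exact hbij.1 (smul_left_injective K hu₀0 h1.symm)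
  · show (headFrame P).proj (∑ b, P.S (back m b) (e (v b) • u₀)) = _
    rw [map_sum]
    exact Finset.sum_congr rfl fun b _ => tail_fix P (hfixk _) b
  · have hp : ∀ b, ∃ k : ZMod q, P.proj (P.S (back m b) y) = e k • u₀ := fun b => by
      obtain ⟨k, hk⟩ := hline _ (DFunLike.congr_fun (Ops.Pre.proj_idem P) (P.S (back m b) y))
      obtain ⟨k', rfl⟩ := hbij.2 k
      exact ⟨k', hk⟩
    choose k hk using hp
    refine ⟨k, ?_⟩
    conv_rhs => rw [tail_decomp P hy]
    show ∑ b, P.S (back m b) (e (k b) • u₀) = _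
    exact Finset.sum_congr rfl fun b _ => by rw [hk]
  · obtain ⟨c, d, j⟩ := o
    refine ⟨_, rem_head P c d (P.rem_smul P.rem_one ?_), hcomm c d j⟩
    intro h
    have := Nat.le_of_dvd (Nat.succ_pos _) ((CharP.cast_eq_zero_iff K q _).mp h)
    omega
  · obtain ⟨c, d, n₀, hn₀, rfl⟩ := head_decomp P hn
    obtain ⟨k, rfl⟩ := hscalar n₀ hn₀
    have hk : k ≠ 0 := fun h => O.ne_zero hn₀.1 (by rw [h, zero_smul])
    obtain ⟨k', rfl⟩ := hbij.2 k
    have hk' : k'.val ≠ 0 := fun h => hk (by rw [(ZMod.val_eq_zero k').mp h, map_zero])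
    have hlt := k'.val_lt
    let j : Fin s := ⟨k'.val - 1, by omega⟩
    have hj : ((j.val + 1 : ℕ) : K) = e k' := by
      rw [show j.val + 1 = k'.val from Nat.sub_add_cancel (Nat.pos_of_ne_zero hk'), ← map_natCast e,
        ZMod.natCast_zmod_val]
    refine ⟨(c, d, j), fun h => ?_, fun v => by rw [← hcomm c d j v, hj]⟩
    rw [← h] at ho₁
    obtain ⟨h1, h2, h3⟩ := ho₁
    rw [show c = 0 from h1, show d = 0 from h2, back_zero, P.S_zero, P.D_zero, one_mul, one_mul, ← hj,
      show j.val = 0 from h3, zero_add, Nat.cast_one, one_smul]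

end

end Cfsg.Agent.BaseCop
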