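import Cfsg.Agent.Lib.Grp.BaseCop.Tail

/-!
# Pairs from tails

The three small lines: five elements, three elements, and three elements beside a quaternion pair.
-/

set_option autoImplicit false
set_option linter.style.haveILetI false
set_option linter.unusedSectionVars false
set_option synthInstance.maxSize 1000

universe u

namespace Cfsg.Agent.BaseCop

open BaseThree (Semi Ops chi)
open BaseTwo (HasPair)
open Model

/-- The three values over five elements. -/
def val5 : Fin 3 → Vec4 5 := ![![0, 1, 1, 1], ![0, 1, 1, 2], ![0, 1, 2, 1]]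

/-- The three values over three elements. -/
def val3 : Fin 3 → Vec4 3 := ![![0, 1, 1, 1], ![0, 0, 0, 1], ![0, 0, 1, 1]]

/-- The three values beside a quaternion pair. -/
def val8 : Fin 3 → Vec8 := ![vec8 0 0 0 1 0 1 0 1, vec8 0 0 0 1 0 1 1 0, vec8 0 0 0 1 0 1 1 1]

theorem u5_free : ∀ o : Fin 4 × Fin 4 × Fin 4, app4 o (u4 : Vec4 5) = u4 → o = (0, 0, 0) := by decide +kernel

theorem val5_free : ∀ i, ∀ o : Fin 4 × Fin 4 × Fin 4, app4 o (val5 i) = val5 i → o = (0, 0, 0) := by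
  decide +kernel

theorem val5_rel : ∀ i j, ∀ o : Fin 4 × Fin 4 × Fin 4, app4 o (val5 i) = val5 j → i = j := by decide +kernel

theorem u3_free : ∀ o : Fin 4 × Fin 4 × Fin 2, app4 o (u4 : Vec4 3) = u4 → o = (0, 0, 0) := by decide +kernel

theorem val3_free : ∀ o : Fin 4 × Fin 4 × Fin 2, app4 o (val3 0) = val3 0 → o = (0, 0, 0) := by decide +kernel

theorem val3_rel : ∀ i j, ∀ o : Fin 4 × Fin 4 × Fin 2, app4 o (val3 i) = val3 j → i = j := by decide +kernel

theorem val3_ne : (∀ i, val3 i ≠ 0) ∧ (∀ i, a3 i ≠ 0) ∧ (u4 : Vec4 3) ≠ 0 := by decide +kernel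

theorem val8_free : ∀ i, ∀ o : Fin 4 × Fin 4 × Fin 4 × Fin 2, app8 o (val8 i) = val8 i → o = (0, 0, 0, 0) := by
  decide +kernel

theorem val8_rel : ∀ i j, ∀ o : Fin 4 × Fin 4 × Fin 4 × Fin 2, app8 o (val8 i) = val8 j → i = j := by
  decide +kernel

theorem idx_cases : ∀ i : Fin 8, i = idx (blk i) 0 ∨ i = idx (blk i) 1 := by decide

theorem val8_ne : (∀ i, a8 i ≠ 0) ∧ u8 ≠ 0 ∧ u8 = val8 0 := by decide +kernel

section

variable {A V : Type u} {K : Type*} [Group A] [Finite A] [Group.IsSolvable A] [AddCommGroup V] [Finite V]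
  [Nontrivial V] [DistribMulAction A V] [Field K] [Finite K] [Module K V] {ζ : K}
  {O : Ops K (Module.End K V) 2 ζ} {m : ℕ} (P : O.Pre (m + 2)) (D : Semi A V K)
  (hmap : ∀ (a : A), ∀ e ∈ O.carrier, D.cj a e ∈ O.carrier) (u₀ : V) (hu₀ : P.proj u₀ = u₀) (hu₀0 : u₀ ≠ 0)

include hmap hu₀ hu₀0

/-- Five elements. -/
theorem hasPair_tail_five (hK : Nat.card K = 5) (hscalar : ∀ n, P.Rem n → ∃ k : K, n = k • 1)
    (hline : ∀ v, P.proj v = v → ∃ k : K, v = k • u₀) (h2 : (2 : K) ≠ 0) : HasPair A V := by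
  haveI : Fact (Nat.Prime 2) := ⟨Nat.prime_two⟩
  obtain ⟨Φ, hinj, hfix, hsurj, hop, hop'⟩ := exists_model4 (s := 4) P (by norm_num : Nat.Prime 5) rfl hK hscalar u₀
    hu₀ hu₀0 hline (0, 0, 0) ⟨rfl, rfl, rfl⟩
  obtain ⟨-, hR⟩ := rigid_of_model P D app4 (0, 0, 0) Φ hinj hfix hsurj hop hop' hmap u4 u5_free
    (by decide +kernel) (fun _ : Unit => a5) (fun _ => by decide +kernel)
    fun φ hφ hu => ⟨(), fun g ha => rigid_five _ (hφ g) (hu g) ha⟩
  exact hasPair_three hmap hR h2 (fun i => Φ (val5 i)) (fun i => hfix _)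
    (fun i => free_of_model P app4 (0, 0, 0) Φ hinj hop' _ (val5_free i))
    (rel_of_model P app4 (0, 0, 0) Φ hinj hop' val5 val5_rel)

/-- Three elements. -/
theorem hasPair_tail_three (hK : Nat.card K = 3) (hscalar : ∀ n, P.Rem n → ∃ k : K, n = k • 1)
    (hline : ∀ v, P.proj v = v → ∃ k : K, v = k • u₀) (h2 : (2 : K) ≠ 0) (h3 : ¬ 3 ∣ Nat.card A) :
    HasPair A V := by
  haveI : Fact (Nat.Prime 2) := ⟨Nat.prime_two⟩
  obtain ⟨Φ, hinj, hfix, hsurj, hop, hop'⟩ := exists_model4 (s := 2) P Nat.prime_three rfl hK hscalar u₀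
    hu₀ hu₀0 hline (0, 0, 0) ⟨rfl, rfl, rfl⟩
  obtain ⟨i, hR⟩ := rigid_of_model P D app4 (0, 0, 0) Φ hinj hfix hsurj hop hop' hmap u4 u3_free
    val3_ne.2.2 a3 val3_ne.2.1 fun φ hφ hu =>
      exists_rigid_three (fun h => h3 (h.trans (Subgroup.card_subgroup_dvd_card _))) φ hφ hu
  have hfree := free_of_model P app4 (0, 0, 0) Φ hinj hop' _ val3_free
  have hrel := rel_of_model P app4 (0, 0, 0) Φ hinj hop' val3 val3_rel
  have hne : ∀ i, Φ (val3 i) ≠ 0 := fun i h => val3_ne.1 i (hinj (h.trans (map_zero Φ).symm))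
  rcases Nat.lt_or_ge m 3 with hm | hm
  · rcases Nat.lt_or_ge m 2 with hm' | hm'
    · exact hasPair_const hmap hR rfl (by omega)
    · obtain rfl : m = 2 := by omega
      exact hasPair_two hmap hR rfl h3 h2 (Φ (val3 0)) (Φ (val3 1)) (hfix _) (hfix _) hfree (hne 1)
        fun h => absurd (hrel 1 0 h) (by decide)
  · exact hasPair_span hmap hR h2 rfl hm (fun i => Φ (val3 i)) (fun i => hfix _) hne hfree hrel

/-- Three elements and a quaternion pair. -/
theorem hasPair_tail_quat (hK : Nat.card K = 3) (h2 : (2 : K) ≠ 0) (h3 : ¬ 3 ∣ Nat.card A)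
    (X Y : Module.End K V) (hX : P.Rem X) (hY : P.Rem Y) (hX2 : X * X = -1) (hY2 : Y * Y = -1)
    (hXY : X * Y = -(Y * X))
    (hall : ∀ n, P.Rem n → ∃ l : K, n = l • 1 ∨ n = l • X ∨ n = l • Y ∨ n = l • (X * Y))
    (hplane : ∀ v, P.proj v = v → ∃ k l : K, v = k • u₀ + l • X u₀)
    (hindep : ∀ k l : K, k • u₀ + l • X u₀ = 0 → k = 0 ∧ l = 0) : HasPair A V := by
  haveI : Fact (Nat.Prime 2) := ⟨Nat.prime_two⟩
  obtain ⟨hch, hbij⟩ := card_eq_castHom Nat.prime_three hK
  set e := ZMod.castHom (dvd_refl 3) K with he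
  have hXX : ∀ x, X (X x) = -x := fun x => by simpa using DFunLike.congr_fun hX2 x
  have hYX : Y * X = -(X * Y) := by rw [hXY, neg_neg]
  have hXYv : ∀ x, Y (X x) = -(X (Y x)) := fun x => by simpa using DFunLike.congr_fun hYX x
  -- normalise the second generator
  obtain ⟨Y', hY', hall', hYu, hXY'⟩ : ∃ Y', P.Rem Y' ∧
      (∀ n, P.Rem n → ∃ l : K, n = l • 1 ∨ n = l • X ∨ n = l • Y' ∨ n = l • (X * Y')) ∧
      Y' u₀ = u₀ + X u₀ ∧ ∀ x, Y' (X x) = -(X (Y' x)) := by
    obtain ⟨s, t, hst⟩ := hplane (Y u₀) (rem_fix P hu₀ hY)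
    have hsq : s * s + t * t = -1 := by
      have h := DFunLike.congr_fun hY2 u₀
      rw [Module.End.mul_apply, hst, map_add, map_smul, map_smul, hXYv, hst, map_add, map_smul, map_smul, hXX] at h
      simp only [LinearMap.neg_apply, Module.End.one_apply, smul_add, smul_neg, smul_smul, neg_add_rev, neg_neg] at h
      refine eq_neg_of_add_eq_zero_left (hindep (s * s + t * t + 1) 0 ?_).1
      rw [zero_smul, add_zero]
      rw [eq_neg_iff_add_eq_zero] at h
      rw [← h]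
      simp only [add_smul, one_smul, mul_comm t s]
      abel
    obtain ⟨s', rfl⟩ := hbij.2 s
    obtain ⟨t', rfl⟩ := hbij.2 t
    have hcases : ∀ a b : ZMod 3, a * a + b * b = -1 → (a = 1 ∨ a = -1) ∧ (b = 1 ∨ b = -1) := by decide
    obtain ⟨hs, ht⟩ := hcases s' t' (hbij.1 (by rw [map_add, map_mul, map_mul, map_neg, map_one]; exact hsq))
    have hXYrem : P.Rem (X * Y) := P.rem_mul hX hY
    have hneg : ∀ n, P.Rem n → P.Rem (-n) := fun n hn => by
      simpa using P.rem_smul hn (neg_ne_zero.mpr (one_ne_zero (α := K)))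
    have hXXY : X * (X * Y) = -Y := by rw [← mul_assoc, hX2, neg_one_mul]
    rcases hs with rfl | rfl <;> rcases ht with rfl | rfl <;>
      simp only [map_neg, map_one, neg_smul, one_smul] at hst
    · exact ⟨Y, hY, hall, hst, hXYv⟩
    · refine ⟨X * Y, hXYrem, fun n hn => ?_, ?_, fun x => ?_⟩
      · obtain ⟨l, h | h | h | h⟩ := hall n hn
        · exact ⟨l, Or.inl h⟩
        · exact ⟨l, Or.inr (Or.inl h)⟩
        · exact ⟨-l, Or.inr (Or.inr (Or.inr (by rw [hXXY, neg_smul, smul_neg, neg_neg, h])))⟩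
        · exact ⟨l, Or.inr (Or.inr (Or.inl h))⟩
      · rw [Module.End.mul_apply, hst, map_add, map_neg, hXX, neg_neg, add_comm]
      · rw [Module.End.mul_apply, Module.End.mul_apply, hXYv, map_neg]
    · refine ⟨-(X * Y), hneg _ hXYrem, fun n hn => ?_, ?_, fun x => ?_⟩
      · obtain ⟨l, h | h | h | h⟩ := hall n hn
        · exact ⟨l, Or.inl h⟩
        · exact ⟨l, Or.inr (Or.inl h)⟩
        · exact ⟨l, Or.inr (Or.inr (Or.inr (by rw [mul_neg, hXXY, neg_neg, h])))⟩
        · exact ⟨-l, Or.inr (Or.inr (Or.inl (by rw [neg_smul, smul_neg, neg_neg, h])))⟩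
      · rw [LinearMap.neg_apply, Module.End.mul_apply, hst, map_add, map_neg, hXX]
        abel
      · simp only [LinearMap.neg_apply, Module.End.mul_apply, hXYv, map_neg]
    · refine ⟨-Y, hneg _ hY, fun n hn => ?_, ?_, fun x => ?_⟩
      · obtain ⟨l, h | h | h | h⟩ := hall n hn
        · exact ⟨l, Or.inl h⟩
        · exact ⟨l, Or.inr (Or.inl h)⟩
        · exact ⟨-l, Or.inr (Or.inr (Or.inl (by rw [neg_smul, smul_neg, neg_neg, h])))⟩
        · exact ⟨-l, Or.inr (Or.inr (Or.inr (by rw [mul_neg, neg_smul, smul_neg, neg_neg, h])))⟩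
      · rw [LinearMap.neg_apply, hst]
        abel
      · simp only [LinearMap.neg_apply, hXYv, map_neg]
  let qop : Fin 4 → Module.End K V := ![1, X, Y', X * Y']
  have hqrem : ∀ n, P.Rem (qop n) := fun n => by
    fin_cases n
    exacts [P.rem_one, hX, hY', P.rem_mul hX hY']
  have hqop : ∀ (n : Fin 4) (a b : ZMod 3), qop n (e a • u₀ + e b • X u₀) =
      e (qmat n 0 0 * a + qmat n 0 1 * b) • u₀ + e (qmat n 1 0 * a + qmat n 1 1 * b) • X u₀ := by
    have htwo : e (2 : ZMod 3) = -1 := by rw [show (2 : ZMod 3) = -1 from by decide, map_neg, map_one]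
    intro n a b
    fin_cases n <;>
      simp [qop, qmat, map_add, map_smul, Module.End.mul_apply, hXY', hYu, hXX, htwo, add_smul, smul_add, map_mul,
        neg_smul, smul_neg] <;> abel
  let coef : Vec8 → Fin 4 → V := fun v b => e (v (idx b 0)) • u₀ + e (v (idx b 1)) • X u₀
  have hcoef : ∀ v b, P.proj (coef v b) = coef v b := fun v b => by
    simp only [coef, map_add, map_smul, hu₀, rem_fix P hu₀ hX]
  let Φ : Vec8 →+ V := AddMonoidHom.mk' (fun v => ∑ b, P.S (back m b) (coef v b)) fun v w => by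
    simp only [coef, Pi.add_apply, map_add, add_smul, Finset.sum_add_distrib]
    abel
  have hk : ∀ k : Fin 2, ((k.val + 1 : ℕ) : K) ≠ 0 := fun k h => by
    have := Nat.le_of_dvd (Nat.succ_pos _) ((CharP.cast_eq_zero_iff K 3 _).mp h)
    omega
  have hcomm : ∀ (c d : Fin 4) (n : Fin 4) (k : Fin 2) v,
      (P.S (back m c) * P.D (back m d) * (((k.val + 1 : ℕ) : K) • qop n)) (Φ v) = Φ (app8 (c, d, n, k) v) := by
    intro c d n k v
    show _ = ∑ b, P.S (back m b) (coef (app8 (c, d, n, k) v) b)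
    rw [show Φ v = ∑ b, P.S (back m b) (coef v b) from rfl,
      tail_apply P c d (P.rem_smul (hqrem n) (hk k)) _ (hcoef v)]
    refine Finset.sum_congr rfl fun b _ => ?_
    congr 1
    have hs : (sgn (bdot d (bxor b c)) : K) = e (sgn (bdot d (bxor b c))) := by
      generalize bdot d (bxor b c) = x
      fin_cases x <;> simp [sgn]
    simp only [coef, app8, (blk_idx b 0).1, (blk_idx b 0).2, (blk_idx b 1).1, (blk_idx b 1).2, LinearMap.smul_apply,
      hqop, map_mul, map_natCast, smul_add, smul_smul, hs]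
    congr 2 <;> ring
  have hinj : Function.Injective Φ := fun v w h => by
    funext i
    have h1 := tail_coord P (coef v) (hcoef v) (blk i)
    have h2' := tail_coord P (coef w) (hcoef w) (blk i)
    rw [show ∑ c, P.S (back m c) (coef v c) = ∑ c, P.S (back m c) (coef w c) from h, h2'] at h1
    obtain ⟨f1, f2⟩ := hindep (e (v (idx (blk i) 0)) - e (w (idx (blk i) 0)))
      (e (v (idx (blk i) 1)) - e (w (idx (blk i) 1))) (by
        rw [sub_smul, sub_smul, sub_add_sub_comm]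
        exact sub_eq_zero.mpr h1.symm)
    have g1 := hbij.1 (sub_eq_zero.mp f1)
    have g2 := hbij.1 (sub_eq_zero.mp f2)
    have hi := idx_cases i
    rcases hi with hi | hi <;> rw [hi]
    exacts [g1, g2]
  have hfix : ∀ v, (headFrame P).proj (Φ v) = Φ v := fun v => by
    show (headFrame P).proj (∑ b, P.S (back m b) (coef v b)) = _
    rw [map_sum]
    exact Finset.sum_congr rfl fun b _ => tail_fix P (hcoef v b) b
  have hsurj : ∀ y, (headFrame P).proj y = y → ∃ v, Φ v = y := fun y hy => by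
    have hp : ∀ b, ∃ k l : ZMod 3, P.proj (P.S (back m b) y) = e k • u₀ + e l • X u₀ := fun b => by
      obtain ⟨k, l, h⟩ := hplane _ (DFunLike.congr_fun (Ops.Pre.proj_idem P) (P.S (back m b) y))
      obtain ⟨k', rfl⟩ := hbij.2 k
      obtain ⟨l', rfl⟩ := hbij.2 l
      exact ⟨k', l', h⟩
    choose k l hkl using hp
    refine ⟨fun i => if plc i = 0 then k (blk i) else l (blk i), ?_⟩
    conv_rhs => rw [tail_decomp P hy]
    show ∑ b, P.S (back m b) (coef (fun i => if plc i = 0 then k (blk i) else l (blk i)) b) = _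
    exact Finset.sum_congr rfl fun b _ => by simp [coef, (blk_idx b 0).1, (blk_idx b 0).2, (blk_idx b 1).1, (blk_idx b 1).2, hkl]
  have hop : ∀ o, ∃ n, (headFrame P).Rem n ∧ ∀ v, n (Φ v) = Φ (app8 o v) := fun ⟨c, d, n, k⟩ =>
    ⟨_, rem_head P c d (P.rem_smul (hqrem n) (hk k)), hcomm c d n k⟩
  have hop' : ∀ n, (headFrame P).Rem n → ∃ o, (o = ((0, 0, 0, 0) : Fin 4 × Fin 4 × Fin 4 × Fin 2) → n = 1) ∧
      ∀ v, n (Φ v) = Φ (app8 o v) := fun n hn => by
    obtain ⟨c, d, n₀, hn₀, rfl⟩ := head_decomp P hn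
    obtain ⟨l, j, rfl⟩ : ∃ (l : K) (j : Fin 4), n₀ = l • qop j := by
      obtain ⟨l, h | h | h | h⟩ := hall' n₀ hn₀
      exacts [⟨l, 0, h⟩, ⟨l, 1, h⟩, ⟨l, 2, h⟩, ⟨l, 3, h⟩]
    have hl : l ≠ 0 := fun h => O.ne_zero hn₀.1 (by rw [h, zero_smul])
    obtain ⟨k, hkl⟩ : ∃ k : Fin 2, ((k.val + 1 : ℕ) : K) = l := by
      obtain ⟨l', rfl⟩ := hbij.2 l
      have h3' : ∀ x : ZMod 3, x ≠ 0 → ∃ k : Fin 2, ((k.val + 1 : ℕ) : ZMod 3) = x := by decide
      obtain ⟨k, hk'⟩ := h3' l' fun h => hl (by rw [h, map_zero])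
      exact ⟨k, by rw [← hk', map_natCast]⟩
    refine ⟨(c, d, j, k), fun h => ?_, fun v => by rw [← hkl]; exact hcomm c d j k v⟩
    simp only [Prod.mk.injEq] at h
    obtain ⟨rfl, rfl, rfl, rfl⟩ := h
    rw [← hkl, back_zero, P.S_zero, P.D_zero, one_mul, one_mul, Fin.val_zero, zero_add, Nat.cast_one, one_smul]
    rfl
  obtain ⟨i, hR⟩ := rigid_of_model P D app8 (0, 0, 0, 0) Φ hinj hfix hsurj hop hop' hmap u8
    (by rw [val8_ne.2.2]; exact val8_free 0) val8_ne.2.1 a8 val8_ne.1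
    fun φ hφ hu => exists_rigid_quat (fun h => h3 (h.trans (Subgroup.card_subgroup_dvd_card _))) φ hφ hu
  exact hasPair_three hmap hR h2 (fun i => Φ (val8 i)) (fun i => hfix _)
    (fun i => free_of_model P app8 (0, 0, 0, 0) Φ hinj hop' _ (val8_free i))
    (rel_of_model P app8 (0, 0, 0, 0) Φ hinj hop' val8 val8_rel)

end

end Cfsg.Agent.BaseCop
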